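import Cfsg.Agent.Yoshida49.Main
import Cfsg.Agent.ConjFunctor.Corollaries

/-!
# Focal subgroups at odd primes

For `p = 3` the focal subgroup is generated by the derived groups of the centralizer of the centre and
of the normalizer of one further characteristic subgroup, intersected with the Sylow subgroup.
-/

set_option autoImplicit false
set_option linter.style.haveILetI false

namespace CfsgLib.Yoshida49

open Subgroup Cfsg CfsgLib
open CfsgLib.ConjFunctor (IsSylowIn indFam transferGen)
open scoped commutatorElement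

universe u

section
variable {G : Type u} [Group G] [Finite G] {p : ℕ} [Fact p.Prime]

/-- Transfer through a normal subgroup containing the Sylow subgroup. -/
theorem inf_commutator_le_of_normal {S K : Subgroup G} (hS : IsSylowIn p S ⊤) (C : Subgroup G)
    [C.Normal] (hSC : S ≤ C) (hK : normalizer (S : Set G) ≤ normalizer (K : Set G)) :
    S ⊓ commutator G ≤
      (S ⊓ ⁅C, C⁆) ⊔ (S ⊓ ⁅normalizer (K : Set G), normalizer (K : Set G)⁆) := by
  intro x hx
  set NK := normalizer (K : Set G)
  set R := (S ⊓ ⁅C, C⁆) ⊔ (S ⊓ ⁅NK, NK⁆)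
  have hSR : ⁅S, S⁆ ≤ R :=
    le_sup_of_le_left (le_inf (commutator_le_self S) (commutator_mono hSC hSC))
  have hC := hS.of_le hSC le_top
  let P : Sylow p C := (hC.2.1.comap_subtype (K := C)).toSylow hC.2.2
  have hF := Sylow.normalizer_sup_eq_top P
  rw [show ((P : Subgroup C).map C.subtype) = S from map_subgroupOf_eq_of_le hSC] at hF
  refine ConjFunctor.mem_of_transfer hS hSR hx.1 hx.2 fun k g hg => ?_
  have hg' : g ∈ ((C ⊔ normalizer (S : Set G) : Subgroup G) : Set G) := by
    rw [sup_comm, hF]; trivial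
  rw [normal_mul] at hg'
  obtain ⟨c, hc, n, hn, rfl⟩ := hg'
  have hxk : x ^ k ∈ S := pow_mem hx.1 k
  set y := n * x ^ k * n⁻¹
  have hy : y ∈ S := (mem_normalizer_iff.mp hn _).mp hxk
  have e : (x ^ k)⁻¹ * (c * n * x ^ k * (c * n)⁻¹) = ⁅(x ^ k)⁻¹, n⁆ * ⁅y⁻¹, c⁆ := by
    simp only [y, commutatorElement_def]; group
  have hgS : c * y * c⁻¹ ∈ S := by
    simpa [y, mul_assoc] using hg
  rw [e]
  refine mul_mem (mem_sup_right ⟨?_, commutator_mem_commutator ?_ (hK hn)⟩)
    (mem_sup_left ⟨?_, commutator_mem_commutator (inv_mem (hSC hy)) hc⟩)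
  · rw [show ⁅(x ^ k)⁻¹, n⁆ = (x ^ k)⁻¹ * y by simp only [y, commutatorElement_def]; group]
    exact S.mul_mem (S.inv_mem hxk) hy
  · exact inv_mem (hK (le_normalizer hxk))
  · rw [show ⁅y⁻¹, c⁆ = y⁻¹ * (c * y * c⁻¹) by simp only [commutatorElement_def]; group]
    exact S.mul_mem (S.inv_mem hy) hgS

end

variable {G : Type u} [Group G] [Finite G]

theorem inf_commutator_le_two {P : Subgroup G} (hP : IsSylowIn 3 P ⊤) :
    P ⊓ commutator G ≤
      (P ⊓ ⁅normalizer ((P ⊓ centralizer (P : Set G) : Subgroup G) : Set G),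
        normalizer ((P ⊓ centralizer (P : Set G) : Subgroup G) : Set G)⁆) ⊔
      (P ⊓ ⁅normalizer (kOf P : Set G), normalizer (kOf P : Set G)⁆) := by
  refine (ConjFunctor.inf_commutator_le_transferGen
    (ConjFunctor.isConjugacyFunctor_induced_image isCharPFunctor_fam3)
    (controlsTransfer_fam3 G) hP).trans (iSup₂_le ?_)
  rintro _ ⟨W, hW, rfl⟩
  rw [top_inf_eq]
  dsimp only
  rcases hW with hW | hW
  · subst hW
    refine le_sup_of_le_left (le_of_eq ?_)
    rw [inducedFunctor_center]
  · rw [Set.mem_singleton_iff] at hW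
    subst hW
    refine le_sup_of_le_right (le_of_eq ?_)
    rw [inducedFunctor_kFun]

/-- The focal subgroup for `p = 3`. -/
theorem inf_commutator_le_centralizer {P : Subgroup G} (hP : IsSylowIn 3 P ⊤) :
    P ⊓ commutator G ≤
      (P ⊓ ⁅centralizer ((P ⊓ centralizer (P : Set G) : Subgroup G) : Set G),
        centralizer ((P ⊓ centralizer (P : Set G) : Subgroup G) : Set G)⁆) ⊔
      (P ⊓ ⁅normalizer (kOf P : Set G), normalizer (kOf P : Set G)⁆) := by
  refine (inf_commutator_le_two hP).trans (sup_le ?_ le_sup_right)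
  set Z := P ⊓ centralizer (P : Set G)
  set N := normalizer (Z : Set G)
  set C := centralizer (Z : Set G)
  have hPC : P ≤ C := le_centralizer_iff.mp inf_le_right
  have hCN : C ≤ N := centralizer_le_normalizer (s := (Z : Set G))
  have hPN := hPC.trans hCN
  have hPn : IsSylowIn 3 (P.subgroupOf N) ⊤ := by
    refine ⟨le_top, hP.2.1.comap_subtype, ?_⟩
    rw [relIndex_top_right]
    exact (hP.of_le hPN le_top).2.2
  haveI : (C.subgroupOf N).Normal := ⟨fun x hx g =>
    (mem_normalizer_iff.mp (PLocal.Offender.mem_normalizer_centralizer g.2) (x : G)).mp hx⟩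
  have hk : (kOf (P.subgroupOf N)).map N.subtype = kOf P := by
    rw [map_kOf N.subtype_injective, map_subgroupOf_eq_of_le hPN]
  have h1 := map_mono (f := N.subtype) (inf_commutator_le_of_normal hPn (K := kOf (P.subgroupOf N))
    (C.subgroupOf N) (comap_mono hPC) (fun g hg => by
      rw [mem_norm, map_kOf (MulAut.conj g).injective, mem_norm.mp hg]))
  rw [map_inf _ _ _ N.subtype_injective, map_subgroupOf_eq_of_le hPN, map_subtype_commutator] at h1
  refine h1.trans ?_
  rw [Subgroup.map_sup, map_inf _ _ _ N.subtype_injective, map_inf _ _ _ N.subtype_injective,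
    map_subgroupOf_eq_of_le hPN, map_commutator, map_commutator, map_subgroupOf_eq_of_le hCN]
  refine sup_le_sup le_rfl (inf_le_inf_left _ (commutator_mono ?_ ?_)) <;>
  · rw [← hk]; exact le_normalizer_map N.subtype

end CfsgLib.Yoshida49
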