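import Mathlib

/-!
# Functions of exponent three with small difference degree

A function on a finite field of characteristic `3` with values of exponent `3` and vanishing second
differences (three elements) or third differences (more elements) has product `1`.
-/

set_option autoImplicit false

namespace CfsgLib.Yoshida49

variable {F : Type*} [Field F] [Fintype F] [CharP F 3] {A : Type*} [CommGroup A]

theorem three_prod {a b c : A} (hb : b ^ 3 = 1) : (a / b) / (b / c) = a * b * c := by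
  have e : b⁻¹ * b⁻¹ = b := by
    rw [← mul_inv_rev, inv_eq_iff_mul_eq_one, ← pow_two, ← pow_succ]; exact hb
  calc (a / b) / (b / c) = a * (b⁻¹ * b⁻¹) * c := by
        simp only [div_eq_mul_inv, mul_inv_rev, inv_inv]; ac_rfl
    _ = a * b * c := by rw [e]

theorem prod_eq_one_of_two (hF : Nat.card F = 3) (φ : F → A) (h3 : ∀ t, φ t ^ 3 = 1)
    (hd : ∀ t a b, (φ t / φ (t - a)) / (φ (t - b) / φ (t - b - a)) = 1) : ∏ t, φ t = 1 := by
  classical
  have h := hd 2 1 1
  rw [three_prod (h3 _), show (2 : F) - 1 = 1 by ring, show (1 : F) - 1 = 0 by ring] at h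
  let e : ZMod 3 ≃+* F :=
    ZMod.ringEquivOfPrime F Nat.prime_three (by rwa [← Nat.card_eq_fintype_card])
  rw [← e.toEquiv.prod_comp]
  show ∏ i : Fin 3, φ (e i) = 1
  rw [Fin.prod_univ_three]
  have e0 : e 0 = 0 := map_zero e
  have e1 : e 1 = 1 := map_one e
  have e2 : e 2 = 2 := map_ofNat e 2
  calc φ (e 0) * φ (e 1) * φ (e 2) = φ 2 * φ 1 * φ 0 := by rw [e0, e1, e2]; ac_rfl
    _ = 1 := h

theorem prod_eq_one_of_three (hF : Nat.card F ≠ 3) (φ : F → A) (h3 : ∀ t, φ t ^ 3 = 1)
    (hd : ∀ t a b c, ((φ t / φ (t - a)) / (φ (t - b) / φ (t - b - a))) /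
      ((φ (t - c) / φ (t - c - a)) / (φ (t - c - b) / φ (t - c - b - a))) = 1) :
    ∏ t, φ t = 1 := by
  classical
  set ψ : F → A := fun t => φ t * φ (t - 1) * φ (t - 1 - 1) with hψ
  have hconst : ∀ t, ψ t = ψ 0 := by
    intro t
    have h := hd t 1 1 t
    rw [three_prod (h3 _), three_prod (h3 _), sub_self, div_eq_one] at h
    exact h
  let f : ZMod 3 →+* F := ZMod.castHom (dvd_refl 3) F
  let H : AddSubgroup F := f.toAddMonoidHom.range
  haveI : Fintype (F ⧸ H) := Fintype.ofFinite _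
  let g : (F ⧸ H) × ZMod 3 → F := fun x => x.1.out + f x.2
  have hg : Function.Bijective g := by
    refine ⟨fun x y hxy => ?_, fun t => ?_⟩
    · have hq : ∀ z : (F ⧸ H) × ZMod 3, ((g z : F) : F ⧸ H) = z.1 := fun z => by
        rw [← QuotientAddGroup.out_eq' z.1, QuotientAddGroup.eq]
        exact ⟨-z.2, by simp [g]⟩
      have h1 : x.1 = y.1 := by rw [← hq x, ← hq y, hxy]
      refine Prod.ext h1 (f.injective ?_)
      simpa [g, h1] using hxy
    · obtain ⟨i, hi⟩ : -((t : F ⧸ H).out) + t ∈ H :=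
        QuotientAddGroup.eq.mp (QuotientAddGroup.out_eq' _)
      exact ⟨((t : F ⧸ H), i), by
        show (t : F ⧸ H).out + f i = t
        rw [show f i = -((t : F ⧸ H).out) + t from hi, add_neg_cancel_left]⟩
  rw [← Fintype.prod_bijective g hg (fun x => φ (g x)) φ fun _ => rfl, Fintype.prod_prod_type]
  have hin : ∀ c : F ⧸ H, ∏ i : ZMod 3, φ (g (c, i)) = ψ 0 := by
    intro c
    rw [← hconst (c.out + 1 + 1)]
    show ∏ i : Fin 3, φ (c.out + f i) = _
    rw [Fin.prod_univ_three]
    have e0 : f 0 = 0 := map_zero f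
    have e1 : f 1 = 1 := map_one f
    have e2 : f 2 = 1 + 1 := by rw [one_add_one_eq_two]; exact map_ofNat f 2
    show φ (c.out + f 0) * φ (c.out + f 1) * φ (c.out + f 2) = _
    simp only [hψ, e0, e1, e2, add_zero, add_sub_cancel_right, ← add_assoc]
    generalize φ (c.out) = a, φ (c.out + 1) = b, φ (c.out + 1 + 1) = d
    ac_rfl
  rw [Finset.prod_congr rfl fun c _ => hin c, Finset.prod_const, Finset.card_univ]
  have hψ3 : ψ 0 ^ 3 = 1 := by rw [hψ]; simp only [mul_pow, h3, one_mul]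
  have hcard : Nat.card F = Nat.card (F ⧸ H) * 3 := by
    rw [← Nat.card_congr (Equiv.ofBijective g hg), Nat.card_prod, Nat.card_zmod]
  obtain ⟨n, hn⟩ : 3 ∣ Fintype.card (F ⧸ H) := by
    obtain ⟨n, -, hn⟩ := FiniteField.card F 3
    rw [← Nat.card_eq_fintype_card] at hn
    rw [← Nat.card_eq_fintype_card]
    obtain ⟨m, hm⟩ : ∃ m, (n : ℕ) = m + 2 := by
      refine ⟨n - 2, ?_⟩
      have h1 : (n : ℕ) ≠ 1 := fun e => hF (by rw [hn, e, pow_one])
      have h0 := n.pos
      omega
    refine ⟨3 ^ m, ?_⟩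
    have e : Nat.card (F ⧸ H) * 3 = 3 ^ (m + 2) := by rw [← hcard, hn, hm]
    rw [pow_succ, pow_succ] at e
    omega
  rw [hn, pow_mul, hψ3, one_pow]

end CfsgLib.Yoshida49
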