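import Cfsg.Agent.Yoshida49.Gamma

/-!
# The node of a cell

A chief factor of the group of a cell on which the Baumann subgroup does not act with small degree
gives a node over the Baumann subgroup.
-/

set_option autoImplicit false
set_option maxHeartbeats 1000000
set_option linter.style.haveILetI false
set_option linter.unusedSectionVars false

namespace CfsgLib.Yoshida49

open Subgroup Cfsg CfsgLib CfsgLib.FFCells CfsgLib.SL2Recognition CfsgLib.Linear
open CfsgLib.ConjFunctor (IsSylowIn)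
open scoped commutatorElement IsMulCommutative MatrixGroups

universe u

variable {X : Type u} [Group X] [Finite X]

theorem card_map_mul (A : Subgroup X) :
    Nat.card (A.map (prX X)) * Nat.card ↥(A ⊓ cX X) = Nat.card A := by
  have h4 := ((A ⊓ cX X).subgroupOf A).index_mul_card
  have e : ((prX X).comp A.subtype).ker = (A ⊓ cX X).subgroupOf A := by
    ext a
    rw [MonoidHom.mem_ker, mem_subgroupOf]
    exact ⟨fun ha => ⟨a.2, (QuotientGroup.eq_one_iff (a : X)).mp ha⟩,
      fun ha => (QuotientGroup.eq_one_iff (a : X)).mpr ha.2⟩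
  have h5 : ((prX X).comp A.subtype).ker.index = Nat.card ((prX X).comp A.subtype).range :=
    index_ker _
  rw [e, MonoidHom.range_comp, A.range_subtype] at h5
  rw [h5, Nat.card_congr (subgroupOfEquivOfLe (inf_le_left : A ⊓ cX X ≤ A)).toEquiv] at h4
  exact h4

theorem map_zB_bS (S : Subgroup X) : (zB 3 ↥(bS S)).map (bS S).subtype = y0 S := by
  rw [zB, PLocal.map_omegaOne (bS S).subtype_injective]
  refine le_antisymm (fun z hz => ?_) (fun y hy => ?_)
  · have hel : IsMulCommutative ↥((center ↥(bS S)).map (bS S).subtype) :=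
      PLocal.isMulCommutative_map inferInstance _
    have h3 : z ^ 3 = 1 := (PLocal.isElementaryAbelian_omegaOne hel).2 z hz
    obtain ⟨⟨z', hz'⟩, hc, rfl⟩ := PLocal.omegaOne_le _ _ hz
    refine mem_y0 (bS_le S hz') (mem_centralizer_iff.mpr fun a ha => ?_) h3
    exact congrArg Subtype.val (mem_center_iff.mp hc ⟨a, J_le_bS S ha⟩)
  · refine PLocal.mem_omegaOne ⟨⟨y, y0_le_bS S hy⟩, mem_center_iff.mpr fun b => ?_, rfl⟩
      ((y0_elem S).2 y hy)
    exact Subtype.ext (mem_centralizer_iff.mp (bS_le_centralizer S b.2) y hy).symm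

namespace Hyp

variable {S M : Subgroup X} (h : Hyp S M) {𝒞 : Set (Subgroup (qX X) × Subgroup (qX X))}
  (hO : OCfg (sX X) h.sylQ (M.map (prX X)) 𝒞) (hJ : ¬ thompsonSubgroupOf 3 S ≤ pCore 3 X)
include h hO hJ

/-- The module of a cell. -/
abbrev vg (S : Subgroup X) (c : 𝒞) : Subgroup X :=
  (y0 S ⊔ vX X) ⊓ centralizer (rc S c : Set X)

theorem map_rc (c : 𝒞) : (rc S c).map (prX X) = others 𝒞 c := by
  refine le_antisymm (map_le_iff_le_comap.mpr inf_le_right) fun e he => ?_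
  obtain ⟨b, hb, rfl⟩ : e ∈ (bS S).map (prX X) := by
    rw [h.map_bS hO hJ]; exact hO.others_le_roots c he
  exact mem_map_of_mem _ ⟨hb, he⟩

theorem bS_inf_cX_le_rc (c : 𝒞) : bS S ⊓ cX X ≤ rc S c := fun x hx =>
  ⟨hx.1, show prX X x ∈ others 𝒞 c by rw [show prX X x = 1 from (QuotientGroup.eq_one_iff x).mpr hx.2]; exact one_mem _⟩

theorem card_rc (c : 𝒞) : Nat.card (rc S c) * Nat.card c.1.1 = Nat.card (bS S) := by
  have e : rc S c ⊓ cX X = bS S ⊓ cX X :=
    le_antisymm (inf_le_inf_right _ inf_le_left) (le_inf (h.bS_inf_cX_le_rc hO hJ c) inf_le_right)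
  have h1 := card_map_mul (rc S c)
  rw [h.map_rc hO hJ c, e] at h1
  rw [← card_map_mul (bS S), h.map_bS hO hJ, hO.card_roots c, ← h1]
  ring

theorem y0_le_vg (c : 𝒞) : y0 S ≤ vg S c :=
  le_inf le_sup_left (le_centralizer_iff.mp (inf_le_left.trans (bS_le_centralizer S)))

theorem mem_vg (c : 𝒞) {x : X} (hx : x ∈ vg S c) :
    ∃ y ∈ y0 S, ∃ v : vX X, Additive.ofMul v ∈ fix (sX X) (others 𝒞 c) ∧ y * (v : X) = x := by
  have hx1 : x ∈ ((y0 S ⊔ vX X : Subgroup X) : Set X) := hx.1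
  rw [mul_normal] at hx1
  obtain ⟨y, hy, v, hv, rfl⟩ := hx1
  refine ⟨y, hy, ⟨v, hv⟩, ?_, rfl⟩
  rw [← h.map_rc hO hJ c, mem_fix_map]
  intro a ha
  have h1 : Commute a (y * v) := mem_centralizer_iff.mp hx.2 a ha
  have h2 : Commute a y := (mem_centralizer_iff.mp (bS_le_centralizer S ha.1) y hy).symm
  have := h2.inv_right.mul_right h1
  rwa [inv_mul_cancel_left] at this

theorem vg_le_rc (c : 𝒞) : vg S c ≤ rc S c := by
  refine inf_le_left.trans (sup_le ?_ ?_)
  · exact (le_inf (y0_le_bS S) ((h.y0_le_core hO).trans h.core_le_cX)).trans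
      (h.bS_inf_cX_le_rc hO hJ c)
  · refine (le_inf ((h.vX_le_J hO).trans (J_le_bS S)) ?_).trans (h.bS_inf_cX_le_rc hO hJ c)
    exact h.vX_le_core.trans h.core_le_cX

theorem card_vg (c : 𝒞) : Nat.card (vg S c) = Nat.card c.1.1 * Nat.card (y0 S) := by
  set V' := vX X ⊓ centralizer (rc S c : Set X)
  have e : vg S c = y0 S ⊔ V' := by
    refine le_antisymm (fun x hx => ?_) (sup_le (h.y0_le_vg hO hJ c) (inf_le_inf_right _ le_sup_right))
    obtain ⟨y, hy, v, hv, rfl⟩ := h.mem_vg hO hJ c hx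
    rw [← h.map_rc hO hJ c, mem_fix_map] at hv
    exact mul_mem (mem_sup_left hy)
      (mem_sup_right ⟨v.2, mem_centralizer_iff.mpr fun a ha => (hv a ha).eq⟩)
  have hcomm : y0 S ≤ centralizer (V' : Set X) :=
    ((h.y0_le_core hO).trans (le_centralizer_iff.mp
      (LocalEven50.omegaOneCenter_le_centralizer _))).trans (centralizer_le inf_le_left)
  have h1 := LocalEven50.card_sup_mul_card_inf_of_coe (y0 S) V'
    (coe_mul_of_left_le_normalizer_right _ _
      (hcomm.trans (centralizer_le_normalizer (s := (V' : Set X)))))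
  have h2 : Nat.card V' = Nat.card (fix (sX X) (others 𝒞 c)) := by
    rw [← h.map_rc hO hJ c, card_fix_map]
  have h3 : y0 S ⊓ V' = vX X ⊓ centralizer (thompsonSubgroupOf 3 S : Set X) := by
    refine le_antisymm (le_inf (inf_le_right.trans inf_le_left)
      (inf_le_left.trans (y0_le_centralizer S))) fun v hv => ?_
    have hy : v ∈ y0 S := mem_y0 (h.vX_le_S hv.1) hv.2
      ((LocalEven50.isElementaryAbelian_omegaOneCenter _).2 v hv.1)
    exact ⟨hy, hv.1, (h.y0_le_vg hO hJ c hy).2⟩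
  have h4 : Nat.card ↥(y0 S ⊓ V') = Nat.card (fix (sX X) (rootsJoin 𝒞)) := by
    rw [h3, ← h.map_J hO hJ, card_fix_map]
  rw [e]
  refine Nat.eq_of_mul_eq_mul_right (Nat.card_pos (α := ↥(y0 S ⊓ V'))) ?_
  rw [h1, h2, hO.card_fix_others, ← h4]
  ring

theorem sub_mem_fix_roots {j : qX X} (hj : j ∈ rootsJoin 𝒞) (v : Additive (vX X)) :
    sX X j v - v ∈ fix (sX X) (rootsJoin 𝒞) := by
  haveI : Fintype 𝒞 := Fintype.ofFinite _
  obtain ⟨t, ht⟩ := hO.fam.exists_components hj
  rw [ht]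
  exact sum_mem fun c _ => hO.fam.root_sub_mem c ((hO.D c).u_mem _) v

theorem vg_quad (c : 𝒞) : ⁅vg S c, bS S⁆ ≤ y0 S := by
  refine commutator_le.mpr fun x hx b hb => ?_
  obtain ⟨y, hy, v, hv, rfl⟩ := h.mem_vg hO hJ c hx
  have hyb : Commute y b := mem_centralizer_iff.mp (bS_le_centralizer S hb) y hy
  set d : vX X := ⟨b * v * b⁻¹, (vX_normal X).conj_mem v v.2 b⟩
  have hd : repX X b (Additive.ofMul v) = Additive.ofMul d :=
    Additive.toMul.injective (Subtype.ext (repX_apply b _))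
  have hm := h.sub_mem_fix_roots hO hJ (j := prX X b)
    (by rw [← h.map_bS hO hJ]; exact mem_map_of_mem _ hb) (Additive.ofMul v)
  rw [sX_mk, hd, ← ofMul_div] at hm
  have h1 := (h.mem_fix_roots hO hJ).mp hm
  rw [SubgroupClass.coe_div] at h1
  have hd' : (d : X) = b * v * b⁻¹ := rfl
  have hyv : Commute y (v : X) :=
    mem_centralizer_iff.mp (LocalEven50.omegaOneCenter_le_centralizer _ v.2) y (h.y0_le_core hO hy)
  have e : ⁅y * (v : X), b⁆ = ((d : X) / v)⁻¹ := by
    rw [commutatorElement_def, hd', div_eq_mul_inv]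
    calc y * (v : X) * b * (y * (v : X))⁻¹ * b⁻¹
        = (v : X) * (y * b) * (y * (v : X))⁻¹ * b⁻¹ := by rw [hyv.eq]; group
      _ = (v : X) * (b * y) * (y * (v : X))⁻¹ * b⁻¹ := by rw [hyb.eq]
      _ = (v : X) * b * (v : X)⁻¹ * b⁻¹ := by rw [hyv.eq]; group
      _ = (b * (v : X) * b⁻¹ * (v : X)⁻¹)⁻¹ := by group
  rw [e]
  exact inv_mem h1

theorem vg_fixed (c : 𝒞) {s : X} (hs : s ∈ bS S) (hsR : s ∉ rc S c) {x : X} (hx : x ∈ vg S c)
    (hc : Commute x s) : x ∈ y0 S := by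
  obtain ⟨y, hy, v, hv, rfl⟩ := h.mem_vg hO hJ c hx
  have hys : Commute s y := (mem_centralizer_iff.mp (bS_le_centralizer S hs) y hy).symm
  have hsv : Commute s (v : X) := by
    have := hys.inv_right.mul_right hc.symm
    rwa [inv_mul_cancel_left] at this
  have hj : prX X s ∈ rootsJoin 𝒞 := by rw [← h.map_bS hO hJ]; exact mem_map_of_mem _ hs
  obtain ⟨b, hb, e, he, hbe⟩ := hO.exists_decomp c hj
  have hb1 : b ≠ 1 := fun hb1 => hsR ⟨hs, show prX X s ∈ others 𝒞 c by
    rw [← hbe, hb1, one_mul]; exact he⟩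
  have hbv : sX X b (Additive.ofMul v) = Additive.ofMul v := by
    have h1 := sX_fix.mpr hsv
    rw [← hbe, apply_mul, hv e he] at h1
    exact h1
  have hvE : Additive.ofMul v ∈ fix (sX X) (rootsJoin 𝒞) := by
    rw [hO.roots_eq_sup c, fix_sup]
    exact ⟨(hO.D c).semireg hb hb1 hbv, hv⟩
  exact mul_mem hy ((h.mem_fix_roots hO hJ).mp hvE)

theorem vg_cent (c : 𝒞) : bS S ⊓ centralizer (vg S c : Set X) ≤ rc S c := by
  intro s hs
  by_contra hsR
  obtain ⟨v, hv, hv1⟩ := hO.exists_fix_others c 1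
  set x : X := ((Additive.toMul v : vX X) : X)
  have hxv : x ∈ vg S c := by
    refine ⟨mem_sup_right (Additive.toMul v : vX X).2, mem_centralizer_iff.mpr fun a ha => ?_⟩
    have hv' : Additive.ofMul (Additive.toMul v) ∈ fix (sX X) ((rc S c).map (prX X)) := by
      rw [h.map_rc hO hJ c]; exact hv
    exact (mem_fix_map.mp hv' a ha).eq
  have hxy := h.vg_fixed hO hJ c hs.1 hsR hxv (mem_centralizer_iff.mp hs.2 x hxv)
  have h2 : v ∈ fix (sX X) (rootsJoin 𝒞) := (h.mem_fix_roots hO hJ).mpr hxy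
  exact one_ne_zero (hv1.symm.trans (hO.fam.mem_fix_join.mp h2 c))

/-- An element of the group of a cell inducing a prescribed matrix. -/
theorem exists_theta {c : 𝒞} {G : Subgroup X} (hG : NodeGrp S c G) (A : SL(2, (hO.D c).F)) :
    ∃ g ∈ G, ∃ hg : prX X g ∈ grpsJoin 𝒞, hO.θ c ⟨prX X g, hg⟩ = A := by
  obtain ⟨g, hg, e⟩ : ((hO.D c).φ.symm A : qX X) ∈ G.map (prX X) := by
    rw [hG.image]; exact mem_sup_left (SetLike.coe_mem _)
  refine ⟨g, hg, e ▸ hO.grp_le_grps c (SetLike.coe_mem _), ?_⟩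
  have e' : (⟨prX X g, e ▸ hO.grp_le_grps c (SetLike.coe_mem _)⟩ : ↥(grpsJoin 𝒞)) =
      ⟨_, hO.grp_le_grps c ((hO.D c).φ.symm A).2⟩ := Subtype.ext e
  rw [e', hO.θ_grp, MulEquiv.apply_symm_apply]

theorem core_eq {c : 𝒞} {G : Subgroup X} (hG : NodeGrp S c G) :
    pCore 3 ↥G = (rc S c).subgroupOf G := by
  have hRG : rc S c ≤ G := inf_le_left.trans hG.sylow.1
  haveI : ((rc S c).subgroupOf G).Normal := ⟨fun x hx g =>
    (mem_normalizer_iff.mp (hG.norm g.2) (x : X)).mp hx⟩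
  have hp : IsPGroup 3 ↥((rc S c).subgroupOf G) :=
    (h.isPGroup.to_le (inf_le_left.trans (bS_le S))).comap_subtype
  refine le_antisymm ?_ (PLocal.le_pCore hp)
  let P : Sylow 3 ↥G := (hG.sylow.2.1.comap_subtype (K := G)).toSylow hG.sylow.2.2
  have hcB : ∀ x ∈ pCore 3 ↥G, (x : X) ∈ bS S := fun x hx => PLocal.pCore_le_sylow P hx
  intro x hx
  refine ⟨hcB x hx, ?_⟩
  have hB : ∀ y ∈ bS S, prX X y ∈ rootsJoin 𝒞 := fun y hy => by
    rw [← h.map_bS hO hJ]; exact mem_map_of_mem _ hy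
  obtain ⟨t, ht, ht0⟩ := hO.θ_roots c (hB _ (hcB x hx))
  refine ht0 ?_
  obtain ⟨g, hg, hgg, hgA⟩ := h.exists_theta hO hJ hG (CellData.weylSL (hO.D c).F)
  have hy : (g * (x : X) * g⁻¹) ∈ bS S :=
    hcB _ ((inferInstance : (pCore 3 ↥G).Normal).conj_mem x hx ⟨g, hg⟩)
  obtain ⟨t', ht', -⟩ := hO.θ_roots c (hB _ hy)
  have e : (⟨prX X (g * (x : X) * g⁻¹), hO.roots_le_grps (hB _ hy)⟩ : ↥(grpsJoin 𝒞)) =
      ⟨prX X g, hgg⟩ * ⟨prX X x, hO.roots_le_grps (hB _ (hcB x hx))⟩ * ⟨prX X g, hgg⟩⁻¹ :=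
    Subtype.ext (by simp)
  rw [e, map_mul, map_mul, map_inv, hgA, ht, mul_inv_eq_iff_eq_mul] at ht'
  have := congrArg (fun m : SL(2, (hO.D c).F) => m.1 1 1) ht'
  simpa [upperUni_val, CellData.weylSL_val, Matrix.mul_apply, Fin.sum_univ_two] using this

/-- The node. -/
theorem exists_node {c : 𝒞} {G : Subgroup X} (hG : NodeGrp S c G) {U W : Subgroup ↥G}
    (hUW : IsChiefFactor U W) (hU : U ≤ (rc S c).subgroupOf G)
    (hbad : ∃ u ∈ U, ∃ a ∈ (bS S).subgroupOf G, ∃ b ∈ (bS S).subgroupOf G, ⁅⁅u, a⁆, b⁆ ∉ W ∧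
      (Nat.card c.1.1 ≠ 3 → ∃ e ∈ (bS S).subgroupOf G, ⁅⁅⁅u, a⁆, b⁆, e⁆ ∉ W)) :
    ∃ n : Node 3 ↥(bS S), ∃ f : n.G →* X, Function.Injective f ∧ f.range = G ∧
      f.comp n.τ = (bS S).subtype := by
  have hcore := h.core_eq hO hJ hG
  have hBG := hG.sylow.1
  have hrange : (inclusion hBG).range = (bS S).subgroupOf G := inclusion_range hBG
  have hy : (zB 3 ↥(bS S)).map (inclusion hBG) = (y0 S).subgroupOf G := by
    apply map_injective G.subtype_injective
    rw [Subgroup.map_map, show G.subtype.comp (inclusion hBG) = (bS S).subtype from rfl, map_zB_bS,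
      map_subgroupOf_eq_of_le ((y0_le_bS S).trans hBG)]
  have hvR := h.vg_le_rc hO hJ c
  have hvG : vg S c ≤ G := hvR.trans (inf_le_left.trans hBG)
  refine ⟨
    { G := ↥G
      τ := inclusion hBG
      inj := inclusion_injective hBG
      isP := by rw [hrange]; exact hG.sylow.2.1.comap_subtype
      index := by rw [hrange]; exact hG.sylow.2.2
      Vg := (vg S c).subgroupOf G
      Vn := ⟨fun x hx g => by
        haveI := h.w1_normal hO hJ
        refine ⟨(inferInstance : (y0 S ⊔ vX X).Normal).conj_mem _ hx.1 (g : X), ?_⟩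
        exact (mem_normalizer_iff.mp (PLocal.Offender.mem_normalizer_centralizer (hG.norm g.2))
          (x : X)).mp hx.2⟩
      V_le := by rw [hcore]; exact comap_mono hvR
      V_comm := by
        rw [hcore, commutator_eq_bot_iff_le_centralizer]
        exact fun x hx => mem_centralizer_iff.mpr fun a ha =>
          Subtype.ext (mem_centralizer_iff.mp hx.2 (a : X) ha)
      cent := by
        rw [hrange, hcore]
        exact fun x hx => h.vg_cent hO hJ c ⟨hx.1, mem_centralizer_iff.mpr fun v hv =>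
          congrArg Subtype.val (mem_centralizer_iff.mp hx.2 ⟨v, hvG hv⟩ hv)⟩
      z_le := by rw [hy]; exact comap_mono (h.y0_le_vg hO hJ c)
      quad := by
        rw [hrange, hy]
        exact commutator_le.mpr fun x hx b hb => h.vg_quad hO hJ c (commutator_mem_commutator hx hb)
      fixed := by
        rw [hrange, hy, hcore]
        exact fun s hs hsR v hv hc => h.vg_fixed hO hJ c hs hsR hv (hc.map G.subtype)
      q := Nat.card c.1.1
      one_lt := one_lt_card_iff_ne_bot _ |>.mpr (hO.D c).isMinOff.ne_bot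
      card_core := by
        rw [hrange, hcore, Nat.card_congr (subgroupOfEquivOfLe hBG).toEquiv,
          Nat.card_congr (subgroupOfEquivOfLe (inf_le_left.trans hBG : rc S c ≤ G)).toEquiv]
        exact h.card_rc hO hJ c
      card_Vg := by
        rw [Nat.card_congr (subgroupOfEquivOfLe hvG).toEquiv, h.card_vg hO hJ c, ← map_zB_bS,
          card_map_of_injective (bS S).subtype_injective]
      Ub := U
      Wb := W
      chief := hUW
      Ub_le := hU.trans hcore.ge
      bad := by rw [hrange]; exact hbad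
      two := fun hq => ?_ }, G.subtype, G.subtype_injective, G.range_subtype, rfl⟩
  obtain ⟨P, hPG, hPn, hRP, h2, htop⟩ := hG.two hq
  refine ⟨P.subgroupOf G, ⟨fun x hx g => (mem_normalizer_iff.mp (hPn g.2) (x : X)).mp hx⟩, ?_, ?_, ?_⟩
  · rw [hcore]; exact comap_mono hRP
  · intro y hy
    obtain ⟨k, hk⟩ := h2 y hy
    exact ⟨k, by rw [hcore]; exact hk⟩
  · rw [hrange, ← subgroupOf_sup hPG hBG, htop, subgroupOf_self]

end Hyp

end CfsgLib.Yoshida49
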