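import Cfsg.Agent.Yoshida49.Orbit
import Cfsg.Agent.Yoshida49.MkNode
import Cfsg.Agent.Yoshida49.BadFn

/-!
# The bad chief factor of a cell

A failure of transfer gives, in the group of each cell, a chief factor below `O₃` on which the Baumann
subgroup does not act with small degree.
-/

set_option autoImplicit false
set_option maxHeartbeats 1000000
set_option linter.style.haveILetI false
set_option linter.unusedSectionVars false

namespace CfsgLib.Yoshida49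

open Subgroup Cfsg CfsgLib CfsgLib.FFCells CfsgLib.SL2Recognition CfsgLib.Linear
open CfsgLib.ConjFunctor (IsSylowIn)
open scoped commutatorElement IsMulCommutative MatrixGroups

universe u

variable {X : Type u} [Group X] [Finite X]

namespace TData

variable {p : ℕ} {M : Subgroup X} (d : TData p X M)

/-- The elements of `U₀` whose function is invariant under `H`. -/
noncomputable def constOn (U₀ : Subgroup X) (hU₀ : U₀ ≤ d.U) (H : Subgroup X) : Subgroup X where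
  carrier := {v | v ∈ U₀ ∧ ∀ l ∈ H, ∀ q : X ⧸ M, d.F (l • q) v = d.F q v}
  one_mem' := ⟨one_mem _, fun l _ q => by rw [F_one, F_one]⟩
  mul_mem' := fun {v w} hv hw => ⟨mul_mem hv.1 hw.1, fun l hl q => by
    rw [d.F_mul _ (hU₀ hv.1) (hU₀ hw.1), d.F_mul _ (hU₀ hv.1) (hU₀ hw.1), hv.2 l hl q, hw.2 l hl q]⟩
  inv_mem' := fun {v} hv => ⟨inv_mem hv.1, fun l hl q => by
    rw [d.F_inv _ (hU₀ hv.1), d.F_inv _ (hU₀ hv.1), hv.2 l hl q]⟩

theorem mem_constOn {U₀ : Subgroup X} {hU₀ : U₀ ≤ d.U} {H : Subgroup X} {v : X} :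
    v ∈ d.constOn U₀ hU₀ H ↔ v ∈ U₀ ∧ ∀ l ∈ H, ∀ q : X ⧸ M, d.F (l • q) v = d.F q v :=
  Iff.rfl

/-- The elements fixing all functions of `U₀`. -/
def invGrp (U₀ : Subgroup X) : Subgroup X where
  carrier := {k | ∀ v ∈ U₀, ∀ q : X ⧸ M, d.F (k • q) v = d.F q v}
  one_mem' := fun v _ q => by rw [one_smul]
  mul_mem' := fun {a b} ha hb v hv q => by rw [mul_smul, ha v hv, hb v hv]
  inv_mem' := fun {a} ha v hv q => by
    conv_rhs => rw [← smul_inv_smul a q, ha v hv]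

theorem invGrp_normal (U₀ : Subgroup X) [U₀.Normal] (hU₀ : U₀ ≤ d.U) : (d.invGrp U₀).Normal :=
  ⟨fun k hk g v hv q => by
    have hv' : g⁻¹ * v * g ∈ U₀ := by simpa using (inferInstance : U₀.Normal).conj_mem v hv g⁻¹
    rw [mul_smul, mul_smul, d.F_smul g _ (hU₀ hv), hk _ hv', ← d.F_smul g _ (hU₀ hv), smul_inv_smul]⟩

end TData

namespace Hyp

variable {S M : Subgroup X} (h : Hyp S M) {𝒞 : Set (Subgroup (qX X) × Subgroup (qX X))}
  (hO : OCfg (sX X) h.sylQ (M.map (prX X)) 𝒞) (hJ : ¬ thompsonSubgroupOf 3 S ≤ pCore 3 X)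
  (d : TData 3 X M)
include h hO hJ

theorem inf_not_le : ¬ d.U ⊓ (pCore 3 X ⊓ bS S) ≤ d.V := by
  intro hle
  haveI := h.w_normal hO hJ
  set W := pCore 3 X ⊓ bS S
  let D : Subgroup X :=
    { carrier := {x | ∀ q ∈ pCore 3 X, q⁻¹ * (x * q * x⁻¹) ∈ W}
      one_mem' := fun q _ => by simp
      mul_mem' := fun {x y} hx hy q hq => by
        have h1 := hx _ ((inferInstance : (pCore 3 X).Normal).conj_mem q hq y)
        have := mul_mem (hy q hq) h1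
        simpa [mul_assoc] using this
      inv_mem' := fun {x} hx q hq => by
        have h1 := hx _ ((inferInstance : (pCore 3 X).Normal).conj_mem q hq x⁻¹)
        have := inv_mem h1
        simpa [mul_assoc] using this }
  haveI : D.Normal := ⟨fun x hx g q hq => by
    have h1 := hx _ ((inferInstance : (pCore 3 X).Normal).conj_mem q hq g⁻¹)
    have := (inferInstance : W.Normal).conj_mem _ h1 g
    simpa [mul_assoc] using this⟩
  have hBD : bS S ≤ D := fun b hb q hq => by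
    refine ⟨(pCore 3 X).mul_mem ((pCore 3 X).inv_mem hq) ((inferInstance : (pCore 3 X).Normal).conj_mem q hq b), ?_⟩
    have h1 : q⁻¹ * b * q ∈ bS S := by
      simpa using (mem_normalizer_iff.mp (le_normalizer_bS S (inv_mem (h.core_le hq))) b).mp hb
    have := mul_mem h1 (inv_mem hb)
    simpa [mul_assoc] using this
  have htop : D ⊔ S = ⊤ := h.sup_eq_top fun h1 =>
    hJ ((le_inf (J_le_S S) ((J_le_bS S).trans hBD)).trans h1)
  obtain ⟨v, hv, hne⟩ := d.ne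
  refine hne (d.eq_one_of_const h.index_M hv fun q => ?_)
  obtain ⟨n, hn, rfl⟩ := h.exists_smul_base htop q
  rw [d.F_smul n _ hv]
  have hv' := d.conj_mem n hv
  have h1 : v⁻¹ * (n⁻¹ * v * n) ∈ d.V :=
    hle ⟨d.U.mul_mem (d.U.inv_mem hv) hv', by simpa using (inv_mem hn : n⁻¹ ∈ D) v (d.le hv)⟩
  have h2 := d.F_mul ((1 : X) : X ⧸ M) hv (mul_mem (inv_mem hv) hv')
  rw [mul_inv_cancel_left] at h2
  rw [h2, d.F_kill _ h1, mul_one, d.F_base hv]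

theorem exists_moving (c : 𝒞) :
    ∃ v ∈ d.U ⊓ (pCore 3 X ⊓ bS S), ∃ l, prX X l ∈ c.1.2 ∧ ∃ q : X ⧸ M, d.F (l • q) v ≠ d.F q v := by
  haveI := h.w_normal hO hJ
  haveI := d.Un
  haveI := d.Vn
  set U₀ := d.U ⊓ (pCore 3 X ⊓ bS S)
  haveI : U₀.Normal := Subgroup.normal_inf_normal _ _
  by_contra hcon
  push Not at hcon
  haveI := d.invGrp_normal U₀ inf_le_left
  have hK : (c.1.2).comap (prX X) ≤ d.invGrp U₀ := fun l hl v hv q => hcon v hv l hl q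
  have htop : d.invGrp U₀ ⊔ S = ⊤ := h.sup_eq_top fun h1 => by
    obtain ⟨b, hb, e⟩ : (hO.D c).u 1 ∈ (bS S).map (prX X) := by
      rw [h.map_bS hO hJ]; exact hO.root_le_roots c ((hO.D c).u_mem 1)
    have hbQ := h1 ⟨bS_le S hb, hK (show prX X b ∈ c.1.2 by rw [e]; exact (hO.D c).u_memL 1)⟩
    exact (hO.D c).u_ne_one one_ne_zero
      (e.symm.trans ((QuotientGroup.eq_one_iff b).mpr (h.core_le_cX hbQ)))
  have hconst : ∀ v ∈ U₀, d.φ v = 1 := fun v hv => d.eq_one_of_const h.index_M hv.1 fun q => by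
    obtain ⟨n, hn, rfl⟩ := h.exists_smul_base htop q
    rw [hn v hv, d.F_base hv.1]
  rcases d.max (U₀ ⊔ d.V) inferInstance le_sup_right (sup_le inf_le_left d.lt.le) with e | e
  · exact h.inf_not_le hO hJ d (sup_eq_right.mp e)
  · obtain ⟨v, hv, hne⟩ := d.ne
    have hv' : v ∈ ((U₀ ⊔ d.V : Subgroup X) : Set X) := by rw [e]; exact hv
    rw [mul_normal] at hv'
    obtain ⟨a, ha, b, hb, rfl⟩ := hv'
    exact hne (by rw [d.map_mul a ha.1 b (d.lt.le hb), hconst a ha, d.kill b hb, mul_one])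

theorem prod_line (c : 𝒞) {z : X} (hz : prX X z ∈ centralizer (c.1.2 : Set (qX X)))
    (pt : (hO.D c).F → X ⧸ M) (htr : ∀ a x t, prX X a = (hO.D c).u x → a • pt t = pt (x + t))
    {U₁ : Subgroup X} (hU₁ : U₁ ≤ d.U)
    (hpt : ∀ t, ∃ l, prX X l ∈ c.1.2 ∧ pt t = l • (z : X ⧸ M))
    {v : X} (hv : v ∈ U₁)
    (hU₁B : ∀ w ∈ U₁, ∀ a ∈ bS S, ⁅w, a⁆ ∈ U₁)
    (hsmall : ∀ a ∈ bS S, ∀ b ∈ bS S, ∀ e ∈ bS S,
      (Nat.card c.1.1 = 3 → ∀ l, prX X l ∈ c.1.2 → d.F (l • (z : X ⧸ M)) ⁅⁅v, a⁆, b⁆ =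
          d.F (z : X ⧸ M) ⁅⁅v, a⁆, b⁆) ∧
        (∀ l, prX X l ∈ c.1.2 → d.F (l • (z : X ⧸ M)) ⁅⁅⁅v, a⁆, b⁆, e⁆ =
          d.F (z : X ⧸ M) ⁅⁅⁅v, a⁆, b⁆, e⁆)) :
    ∏ t, d.F (pt t) v = 1 := by
  haveI := hO.charF c
  have hl : ∀ x, ∃ a ∈ bS S, prX X a = (hO.D c).u x := fun x => by
    obtain ⟨a, ha, e⟩ : (hO.D c).u x ∈ (bS S).map (prX X) := by
      rw [h.map_bS hO hJ]; exact hO.root_le_roots c ((hO.D c).u_mem x)
    exact ⟨a, ha, e⟩
  choose a ha hae using hl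
  have hinv : ∀ x t, (a x)⁻¹ • pt t = pt (t - x) := fun x t => by
    rw [inv_smul_eq_iff, htr _ x _ (hae x), add_sub_cancel]
  have hfix : ∀ x, (a x)⁻¹ • (z : X ⧸ M) = (z : X ⧸ M) := fun x => by
    rw [inv_smul_eq_iff]
    exact (h.root_fix hO c hz (show prX X (a x) ∈ c.1.1 from hae x ▸ (hO.D c).u_mem x)).symm
  have hd1 : ∀ (w : X), w ∈ U₁ → ∀ x, d.F (z : X ⧸ M) ⁅w, a x⁆ = 1 := fun w hw x => by
    rw [d.F_commutator _ (hU₁ hw), hfix, div_self']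
  have hex : ∀ t, d.F (pt t) v ^ 3 = 1 := fun t => d.F_exp _ (hU₁ hv)
  by_cases hq : Nat.card c.1.1 = 3
  · refine prod_eq_one_of_two ((hO.D c).card_root.symm.trans hq) _ hex fun t x y => ?_
    obtain ⟨l, hl, e⟩ := hpt t
    have h1 := (hsmall _ (ha x) _ (ha y) _ (ha x)).1 hq l hl
    rw [← e, hd1 _ (hU₁B _ hv _ (ha x)), d.F_commutator _ (hU₁ (hU₁B _ hv _ (ha x))),
      d.F_commutator _ (hU₁ hv), d.F_commutator _ (hU₁ hv)] at h1
    simpa only [hinv] using h1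
  · refine prod_eq_one_of_three (fun e => hq ((hO.D c).card_root.trans e)) _ hex fun t x y w => ?_
    obtain ⟨l, hl, e⟩ := hpt t
    have h1 := (hsmall _ (ha x) _ (ha y) _ (ha w)).2 l hl
    have hm1 := hU₁B _ hv _ (ha x)
    have hm2 := hU₁B _ hm1 _ (ha y)
    rw [← e, hd1 _ hm2, d.F_commutator _ (hU₁ hm2), d.F_commutator _ (hU₁ hm1),
      d.F_commutator _ (hU₁ hm1), d.F_commutator _ (hU₁ hv), d.F_commutator _ (hU₁ hv),
      d.F_commutator _ (hU₁ hv), d.F_commutator _ (hU₁ hv)] at h1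
    simpa only [hinv] using h1

/-- The bad chief factor of the group of a cell. -/
theorem exists_bad {c : 𝒞} {G : Subgroup X} (hG : NodeGrp S c G) (d : TData 3 X M) :
    ∃ U W : Subgroup ↥G, IsChiefFactor U W ∧ U ≤ (rc S c).subgroupOf G ∧
      ∃ u ∈ U, ∃ a ∈ (bS S).subgroupOf G, ∃ b ∈ (bS S).subgroupOf G, ⁅⁅u, a⁆, b⁆ ∉ W ∧
        (Nat.card c.1.1 ≠ 3 → ∃ e ∈ (bS S).subgroupOf G, ⁅⁅⁅u, a⁆, b⁆, e⁆ ∉ W) := by
  haveI := h.w_normal hO hJ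
  haveI := d.Un
  set U₀ := d.U ⊓ (pCore 3 X ⊓ bS S)
  haveI hU₀n : U₀.Normal := Subgroup.normal_inf_normal _ _
  set H := (c.1.2).comap (prX X)
  set N₁ := d.constOn U₀ inf_le_left H
  have hHG : ∀ g ∈ G, ∀ l ∈ H, g⁻¹ * l * g ∈ H := by
    intro g hg l hl
    have h1 : prX X g ∈ normalizer (c.1.2 : Set (qX X)) :=
      sup_le le_normalizer ((hO.others_centralizer c).trans
        (centralizer_le_normalizer (s := (c.1.2 : Set (qX X))))) (hG.image.le (mem_map_of_mem _ hg))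
    show prX X (g⁻¹ * l * g) ∈ c.1.2
    rw [map_mul, map_mul, map_inv]
    simpa using (mem_normalizer_iff.mp (inv_mem h1) (prX X l)).mp hl
  have hN₁G : ∀ g ∈ G, ∀ v ∈ N₁, g * v * g⁻¹ ∈ N₁ := by
    intro g hg v hv
    refine ⟨hU₀n.conj_mem v hv.1 g, fun l hl q => ?_⟩
    have hvU : g * v * g⁻¹ ∈ d.U := d.Un.conj_mem v hv.1.1 g
    have e : ∀ q, d.F q (g * v * g⁻¹) = d.F (g⁻¹ • q) v := fun q => by
      rw [d.F_smul g⁻¹ q hv.1.1, inv_inv]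
    rw [e, e, ← mul_smul, show g⁻¹ * l = g⁻¹ * l * g * g⁻¹ by group, mul_smul]
    exact hv.2 _ (hHG g hg l hl) _
  obtain ⟨v₀, hv₀, l₀, hl₀, q₀, hne₀⟩ := h.exists_moving hO hJ d c
  obtain ⟨U₁, -, hUmin⟩ := Finite.exists_le_minimal (p := fun K : Subgroup X =>
      K ≤ U₀ ∧ (∀ g ∈ G, ∀ v ∈ K, g * v * g⁻¹ ∈ K) ∧ ¬ K ≤ N₁) (a := U₀)
    ⟨le_rfl, fun g _ v hv => hU₀n.conj_mem v hv g, fun hle => hne₀ ((hle hv₀).2 l₀ hl₀ q₀)⟩
  obtain ⟨hU₁, hU₁G, hU₁N⟩ := hUmin.prop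
  have hU₀rc : U₀ ≤ rc S c := fun x hx =>
    h.bS_inf_cX_le_rc hO hJ c ⟨hx.2.2, h.core_le_cX hx.2.1⟩
  have hrcG : rc S c ≤ G := inf_le_left.trans hG.sylow.1
  set N₂ := U₁ ⊓ N₁
  have hN₂G : ∀ g ∈ G, ∀ v ∈ N₂, g * v * g⁻¹ ∈ N₂ :=
    fun g hg v hv => ⟨hU₁G g hg v hv.1, hN₁G g hg v hv.2⟩
  refine ⟨U₁.subgroupOf G, N₂.subgroupOf G, ⟨lt_of_le_of_ne (comap_mono inf_le_left) fun e =>
      hU₁N fun x hx => ((e.ge (show (⟨x, hrcG (hU₀rc (hU₁ hx))⟩ : G) ∈ U₁.subgroupOf G from hx)).2),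
    ⟨fun x hx g => hU₁G g g.2 x hx⟩, ⟨fun x hx g => hN₂G g g.2 x hx⟩, fun N hN hle hle' => ?_⟩,
    comap_mono (hU₁.trans hU₀rc), ?_⟩
  · by_cases hK : N.map G.subtype ≤ N₁
    · refine Or.inl (le_antisymm (fun x hx => ⟨hle' hx, hK (mem_map_of_mem _ hx)⟩) hle)
    · refine Or.inr (le_antisymm hle' fun x hx => ?_)
      have hKU : N.map G.subtype ≤ U₁ := map_le_iff_le_comap.mpr hle'
      have hx' := hUmin.le_of_le ⟨hKU.trans hU₁, fun g hg v hv => by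
        obtain ⟨v', hv', rfl⟩ := hv
        exact ⟨⟨g, hg⟩ * v' * ⟨g, hg⟩⁻¹, hN.conj_mem v' hv' _, rfl⟩, hK⟩ hKU
        (show (x : X) ∈ U₁ from hx)
      obtain ⟨y, hy, e⟩ := hx'
      rwa [← show y = x from Subtype.ext e]
  by_contra hbad
  push Not at hbad
  have hU₁B : ∀ w ∈ U₁, ∀ a ∈ bS S, ⁅w, a⁆ ∈ U₁ := fun w hw a ha => by
    rw [commutatorElement_def, mul_assoc, mul_assoc, ← mul_assoc a]
    exact U₁.mul_mem hw (hU₁G a (hG.sylow.1 ha) _ (U₁.inv_mem hw))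
  refine hU₁N fun v hv => ⟨hU₁ hv, fun l hl q => ?_⟩
  obtain ⟨l₁, z, hl₁, hz, rfl⟩ := h.exists_point hO c q
  obtain ⟨pt, hinj, hne, htr, horb, hpt⟩ := h.exists_line hO c hz
  -- the line product vanishes for every element of `U₁`
  have hprod : ∀ w ∈ U₁, ∏ t, d.F (pt t) w = 1 := by
    intro w hw
    refine h.prod_line hO hJ d c hz pt htr (hU₁.trans inf_le_left) hpt hw hU₁B
      fun a ha b hb e he => ?_
    have hwG : w ∈ G := hrcG (hU₀rc (hU₁ hw))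
    have hN₂ : ∀ y : X, (hy : y ∈ G) → (⟨y, hy⟩ : G) ∈ N₂.subgroupOf G →
        ∀ k, prX X k ∈ c.1.2 → d.F (k • (z : X ⧸ M)) y = d.F (z : X ⧸ M) y :=
      fun y hy hm k hk => hm.2.2 k hk _
    have haG := hG.sylow.1 ha
    have hbG := hG.sylow.1 hb
    have heG := hG.sylow.1 he
    have hb1 := hbad ⟨w, hwG⟩ hw ⟨a, haG⟩ ha ⟨b, hbG⟩ hb
    have hcG : ⁅⁅w, a⁆, b⁆ ∈ G := (⁅⁅(⟨w, hwG⟩ : G), (⟨a, haG⟩ : G)⁆, (⟨b, hbG⟩ : G)⁆).2
    refine ⟨fun hq k hk => ?_, fun k hk => ?_⟩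
    · refine hN₂ _ hcG ?_ k hk
      by_contra hne
      exact (hb1 hne).1 hq
    · refine hN₂ _ (⁅⁅⁅(⟨w, hwG⟩ : G), (⟨a, haG⟩ : G)⁆, (⟨b, hbG⟩ : G)⁆, (⟨e, heG⟩ : G)⁆).2 ?_ k hk
      by_contra hne
      by_cases h2 : ⁅⁅(⟨w, hwG⟩ : G), (⟨a, haG⟩ : G)⁆, (⟨b, hbG⟩ : G)⁆ ∈ N₂.subgroupOf G
      · refine hne (show ⁅⁅⁅w, a⁆, b⁆, e⁆ ∈ N₂ from ?_)
        rw [commutatorElement_def ⁅⁅w, a⁆, b⁆, mul_assoc, mul_assoc, ← mul_assoc e]
        exact N₂.mul_mem h2 (hN₂G e heG _ (N₂.inv_mem h2))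
      · exact hne ((hb1 h2).2 ⟨e, heG⟩ he)
  have key : ∀ k, prX X k ∈ c.1.2 → d.F (k • (z : X ⧸ M)) v = d.F (z : X ⧸ M) v := by
    intro k hk
    refine h.const_of_prod hO c pt hinj hne horb hpt hk (fun x => d.F x v) (hprod v hv) ?_
    obtain ⟨g, hg, e⟩ : prX X k ∈ G.map (prX X) := by rw [hG.image]; exact mem_sup_left hk
    have hvU : v ∈ d.U := (hU₁ hv).1
    rw [← hprod (g⁻¹ * v * g) (by simpa using hU₁G g⁻¹ (inv_mem hg) v hv)]
    refine Finset.prod_congr rfl fun t _ => ?_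
    rw [h.smul_congr e.symm, d.F_smul g _ hvU]
  rw [← mul_smul, key _ (show prX X (l * l₁) ∈ c.1.2 by rw [map_mul]; exact mul_mem hl hl₁),
    key _ hl₁]

/-- A node over the Baumann subgroup normalised by the group of a cell. -/
theorem exists_node_of_tdata (d : TData 3 X M) (c : 𝒞) :
    ∃ G : Subgroup X, NodeGrp S c G ∧ ∃ n : Node 3 ↥(bS S), ∃ f : n.G →* X,
      Function.Injective f ∧ f.range = G ∧ f.comp n.τ = (bS S).subtype := by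
  obtain ⟨G, hG⟩ := h.exists_nodeGrp hO hJ c
  obtain ⟨U, W, hUW, hU, hbad⟩ := h.exists_bad hO hJ hG d
  exact ⟨G, hG, h.exists_node hO hJ hG hUW hU hbad⟩

end Hyp

end CfsgLib.Yoshida49
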