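import Cfsg.Agent.ConjFunctor.Transfer
import Cfsg.Agent.FFBlocks.Decomp
import Cfsg.Agent.FFCells.Main
import Cfsg.Agent.LocalEven50.Blocks
import Cfsg.Agent.LocalEven50.CentralizerLarge

/-!
# The action on `Ω₁(Z(O₃))`

In a constrained group with a unique maximal subgroup over a Sylow `3`-subgroup `S` and `Z(S)` not
normal, the kernel of the action on `V = Ω₁(Z(Q))` meets `S` in `Q = O₃`, the quotient has trivial
`O₃` and is `3`-minimal; if `J(S) ≰ Q` it has a configuration of pairwise orthogonal cells.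
-/

set_option autoImplicit false
set_option linter.style.haveILetI false
set_option linter.unusedSectionVars false

namespace CfsgLib.Yoshida49

open Subgroup Cfsg CfsgLib CfsgLib.FFCells CfsgLib.SL2Recognition
open CfsgLib.ConjFunctor (IsSylowIn)
open scoped commutatorElement IsMulCommutative

universe u

instance factThree : Fact (Nat.Prime 3) := ⟨Nat.prime_three⟩

/-- Trivial on `Ω₁` of an abelian `p`-group is trivial, for orders prime to `p`. -/
theorem commute_of_omega {G : Type*} [Group G] {p : ℕ} [Fact p.Prime] {A : Subgroup G}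
    (hA : IsMulCommutative A) (hp : IsPGroup p A) {g : G} (hn : g ∈ normalizer (A : Set G))
    {m : ℕ} (hm : ¬ p ∣ m) (hgm : g ^ m = 1) (hom : ∀ z ∈ omegaOne p A, Commute g z) :
    ∀ z ∈ A, Commute g z := by
  have hc : ∀ a ∈ A, ∀ b ∈ A, Commute a b := fun a ha b hb =>
    (le_centralizer_iff_isMulCommutative.mpr hA hb) a ha
  have hconj : ∀ a ∈ A, g * a * g⁻¹ ∈ A := fun a ha => (mem_normalizer_iff.mp hn a).mp ha
  have key : ∀ k : ℕ, ∀ z ∈ A, z ^ p ^ k = 1 → Commute g z := by
    intro k
    induction k with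
    | zero => intro z _ hz; rw [pow_zero, pow_one] at hz; rw [hz]; exact Commute.one_right g
    | succ k ih =>
      intro z hz hzk
      have h1 := ih (z ^ p) (pow_mem hz p) (by rw [← pow_mul, ← pow_succ']; exact hzk)
      set w := z⁻¹ * (g * z * g⁻¹) with hw
      have hwA : w ∈ A := mul_mem (inv_mem hz) (hconj z hz)
      have hwp : w ^ p = 1 := by
        rw [hw, (hc _ (inv_mem hz) _ (hconj z hz)).mul_pow, inv_pow, conj_pow, h1.eq,
          mul_inv_cancel_right, inv_mul_cancel]
      have hgw : Commute g w := hom w (PLocal.mem_omegaOne hwA hwp)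
      have hi : ∀ i : ℕ, g ^ i * z * (g ^ i)⁻¹ = z * w ^ i := by
        intro i
        induction i with
        | zero => simp
        | succ i ihi =>
          calc g ^ (i + 1) * z * (g ^ (i + 1))⁻¹ = g * (g ^ i * z * (g ^ i)⁻¹) * g⁻¹ := by
                rw [pow_succ']; group
            _ = (g * z * g⁻¹) * (g * w ^ i * g⁻¹) := by rw [ihi]; group
            _ = z * w * w ^ i := by
                rw [(hgw.pow_right i).eq, mul_inv_cancel_right, hw]; group
            _ = z * w ^ (i + 1) := by rw [pow_succ', mul_assoc]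
      have hwm : w ^ m = 1 := by
        have := hi m
        rw [hgm, one_mul, inv_one, mul_one] at this
        exact left_eq_mul.mp this
      have hw1 : w = 1 := by
        have hg1 : Nat.gcd p m = 1 := (Fact.out : p.Prime).coprime_iff_not_dvd.mpr hm
        have := pow_gcd_eq_one.mpr ⟨hwp, hwm⟩
        rwa [hg1, pow_one] at this
      have e : g * z * g⁻¹ = z := by
        calc g * z * g⁻¹ = z * w := by rw [hw]; group
          _ = z := by rw [hw1, mul_one]
      calc g * z = g * z * g⁻¹ * g := by group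
        _ = z * g := by rw [e]
  intro z hz
  obtain ⟨k, hk⟩ := hp ⟨z, hz⟩
  exact key k z hz (congrArg Subtype.val hk)

/-- The hypotheses on a minimal failure. -/
structure Hyp {X : Type u} [Group X] (S M : Subgroup X) : Prop where
  sylow : IsSylowIn 3 S ⊤
  cp : centralizer (pCore 3 X : Set X) ≤ pCore 3 X
  le_M : S ≤ M
  ne_top : M ≠ ⊤
  uniq : ∀ H : Subgroup X, S ≤ H → H ≠ ⊤ → H ≤ M
  nz : ¬ (S ⊓ centralizer (S : Set X)).Normal

/-- `V = Ω₁(Z(O₃))`. -/
abbrev vX (X : Type u) [Group X] : Subgroup X := omegaOneCenter 3 (pCore 3 X)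

instance vX_normal (X : Type u) [Group X] : (vX X).Normal := by
  rw [← normalizer_eq_top_iff, eq_top_iff]
  refine le_trans ?_ (LocalEven50.normalizer_le_normalizer_omegaOneCenter _)
  rw [normalizer_eq_top]

instance vX_comm (X : Type u) [Group X] : IsMulCommutative (vX X) :=
  (LocalEven50.isElementaryAbelian_omegaOneCenter _).1

/-- The kernel of the action. -/
abbrev cX (X : Type u) [Group X] : Subgroup X := centralizer (vX X : Set X)

variable {X : Type u} [Group X]

theorem vX_exp (v : Additive (vX X)) : 3 • v = 0 := by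
  refine Additive.toMul.injective (Subtype.ext ?_)
  rw [toMul_nsmul, SubgroupClass.coe_pow]
  exact (LocalEven50.isElementaryAbelian_omegaOneCenter _).2 _ (Additive.toMul v).2

/-- Conjugation on `V`. -/
noncomputable def repX (X : Type u) [Group X] : X →* AddMonoid.End (Additive (vX X)) where
  toFun g := MonoidHom.toAdditive (MulAut.conjNormal g).toMonoidHom
  map_one' := AddMonoidHom.ext fun v => Additive.toMul.injective (Subtype.ext (by
    show (MulAut.conjNormal (1 : X) (Additive.toMul v) : X) = ((Additive.toMul v : vX X) : X)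
    rw [MulAut.conjNormal_apply]; simp))
  map_mul' g h := AddMonoidHom.ext fun v => Additive.toMul.injective (Subtype.ext (by
    show (MulAut.conjNormal (g * h) (Additive.toMul v) : X) =
      (MulAut.conjNormal g (MulAut.conjNormal h (Additive.toMul v)) : X)
    rw [map_mul]; rfl))

theorem repX_apply (g : X) (v : Additive (vX X)) :
    ((Additive.toMul (repX X g v) : vX X) : X) = g * (Additive.toMul v : vX X) * g⁻¹ :=
  MulAut.conjNormal_apply _ _

theorem repX_eq_one {g : X} : repX X g = 1 ↔ g ∈ cX X := by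
  constructor
  · intro h
    refine mem_centralizer_iff.mpr fun v hv => ?_
    have e := repX_apply g (Additive.ofMul ⟨v, hv⟩)
    rw [h] at e
    exact eq_mul_inv_iff_mul_eq.mp e
  · intro h
    refine AddMonoidHom.ext fun v => Additive.toMul.injective (Subtype.ext ?_)
    refine (repX_apply g v).trans ?_
    rw [← mem_centralizer_iff.mp h _ (Additive.toMul v : vX X).2, mul_inv_cancel_right]
    rfl

/-- The quotient acting faithfully on `V`. -/
abbrev qX (X : Type u) [Group X] : Type u := X ⧸ cX X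

/-- The action of the quotient. -/
noncomputable def sX (X : Type u) [Group X] : qX X →* AddMonoid.End (Additive (vX X)) :=
  QuotientGroup.lift (cX X) (repX X) fun _ hg => repX_eq_one.mpr hg

theorem sX_mk (g : X) : sX X (QuotientGroup.mk' (cX X) g) = repX X g := rfl

theorem sX_injective : Function.Injective (sX X) := by
  rw [injective_iff_map_eq_one]
  intro q hq
  obtain ⟨g, rfl⟩ := QuotientGroup.mk'_surjective _ q
  exact (QuotientGroup.eq_one_iff g).mpr (repX_eq_one.mp hq)

namespace Hyp

variable [Finite X] {S M : Subgroup X} (h : Hyp S M)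
include h

theorem core_le : pCore 3 X ≤ S := ConjFunctor.pCore_le_isSylowIn h.sylow

theorem isPGroup : IsPGroup 3 S := h.sylow.2.1

theorem center_le_core : S ⊓ centralizer (S : Set X) ≤ pCore 3 X :=
  (inf_le_right.trans (centralizer_le h.core_le)).trans h.cp

theorem vX_le_core : vX X ≤ pCore 3 X := LocalEven50.omegaOneCenter_le _

theorem core_le_cX : pCore 3 X ≤ cX X :=
  le_centralizer_iff.mp (LocalEven50.omegaOneCenter_le_centralizer _)

/-- A normal subgroup with Sylow subgroup outside `O₃` covers `X / S`. -/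
theorem sup_eq_top {N : Subgroup X} [N.Normal] (hN : ¬ S ⊓ N ≤ pCore 3 X) : N ⊔ S = ⊤ := by
  have hP : IsSylowIn 3 (S ⊓ N) N :=
    ConjFunctor.IsSylowIn.inf_of_normal h.sylow le_top (by rw [normalizer_eq_top])
  by_contra hne
  have hM := h.uniq _ le_sup_right hne
  have hSn : S ≤ normalizer ((S ⊓ N : Subgroup X) : Set X) :=
    LocalEven50.le_normalizer_inf le_normalizer (by rw [normalizer_eq_top]; exact le_top)
  have hPtop : normalizer ((S ⊓ N : Subgroup X) : Set X) ≠ ⊤ := fun e => hN (by
    haveI := normalizer_eq_top_iff.mp e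
    exact PLocal.le_pCore (h.isPGroup.to_le inf_le_left))
  have hPM := h.uniq _ hSn hPtop
  have hidx : ¬ 3 ∣ ((S ⊓ N).subgroupOf N).index := hP.2.2
  let P : Sylow 3 N := ((h.isPGroup.to_le inf_le_left).comap_subtype (K := N)).toSylow hidx
  have h1 := Sylow.normalizer_sup_eq_top P
  rw [show ((P : Subgroup N).map N.subtype) = S ⊓ N from map_subgroupOf_eq_of_le inf_le_right] at h1
  exact h.ne_top (top_le_iff.mp (h1.ge.trans (sup_le hPM (le_sup_left.trans hM))))

theorem cX_sup_ne_top : cX X ⊔ S ≠ ⊤ := by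
  intro htop
  refine h.nz ?_
  set Z := S ⊓ centralizer (S : Set X)
  suffices hc : centralizer (Z : Set X) = ⊤ by
    refine ⟨fun z hz g => ?_⟩
    have hg : g ∈ centralizer (Z : Set X) := by rw [hc]; exact mem_top g
    rwa [← mem_centralizer_iff.mp hg z hz, mul_inv_cancel_right]
  have hSZ : S ≤ centralizer (Z : Set X) := le_centralizer_iff.mp inf_le_right
  refine index_eq_one.mp (Nat.eq_one_iff_not_exists_prime_dvd.mpr fun r hr hd => ?_)
  haveI : Fact r.Prime := ⟨hr⟩
  have hidx : ¬ 3 ∣ S.index := by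
    have := h.sylow.2.2; rwa [relIndex_top_right] at this
  rcases eq_or_ne r 3 with rfl | hr3
  · exact hidx (hd.trans (index_dvd_of_le hSZ))
  obtain ⟨R⟩ := (inferInstance : Nonempty (Sylow r X))
  refine R.not_dvd_index (hd.trans (index_dvd_of_le fun g hg => ?_))
  obtain ⟨k, hk⟩ := R.2 ⟨g, hg⟩
  have hgk : g ^ r ^ k = 1 := congrArg Subtype.val hk
  -- `g` lies in the kernel
  have hgC : g ∈ cX X := by
    have hg' : g ∈ ((cX X ⊔ S : Subgroup X) : Set X) := by rw [htop]; trivial
    rw [normal_mul] at hg'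
    obtain ⟨c, hc, s, hs, rfl⟩ := hg'
    obtain ⟨l, hl⟩ := h.isPGroup ⟨s, hs⟩
    have hl' : s ^ 3 ^ l = 1 := congrArg Subtype.val hl
    let π := QuotientGroup.mk' (cX X)
    have e : π (c * s) = π s := by
      rw [map_mul, show π c = 1 from (QuotientGroup.eq_one_iff c).mpr hc, one_mul]
    have h1 : π (c * s) ^ r ^ k = 1 := by rw [← map_pow, hgk, map_one]
    have h2 : π (c * s) ^ 3 ^ l = 1 := by rw [e, ← map_pow, hl', map_one]
    have h3 := pow_gcd_eq_one.mpr ⟨h1, h2⟩
    rw [Nat.Coprime.pow k l ((Nat.coprime_primes hr Nat.prime_three).mpr hr3), pow_one] at h3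
    exact (QuotientGroup.eq_one_iff _).mp h3
  set A := pCore 3 X ⊓ centralizer (pCore 3 X : Set X)
  have hA : IsMulCommutative A := le_centralizer_iff_isMulCommutative.mp
    (inf_le_right.trans (centralizer_le (inf_le_left (a := pCore 3 X))))
  have hgA : g ∈ normalizer (A : Set X) := by
    haveI : A.Normal := Subgroup.normal_inf_normal _ _
    rw [normalizer_eq_top]; trivial
  have key := commute_of_omega hA ((PLocal.isPGroup_pCore 3 X).to_le inf_le_left) hgA
    (m := r ^ k) (fun hd3 => hr3 ((Nat.prime_dvd_prime_iff_eq Nat.prime_three hr).mp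
      (Nat.prime_three.dvd_of_dvd_pow hd3)).symm) hgk
    (fun z hz => ((mem_centralizer_iff.mp hgC z hz).symm : g * z = z * g))
  exact mem_centralizer_iff.mpr fun z hz => (key z ⟨h.center_le_core hz,
    mem_centralizer_iff.mpr fun y hy => mem_centralizer_iff.mp hz.2 y (h.core_le hy)⟩).eq.symm

theorem inf_cX : S ⊓ cX X = pCore 3 X :=
  le_antisymm (by_contra fun hN => h.cX_sup_ne_top (h.sup_eq_top (N := cX X) hN))
    (le_inf h.core_le h.core_le_cX)

theorem cX_le_M : cX X ≤ M := le_sup_left.trans (h.uniq _ le_sup_right h.cX_sup_ne_top)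

/-- The Sylow subgroup of the quotient. -/
noncomputable def sylQ : Sylow 3 (qX X) :=
  (h.isPGroup.map (QuotientGroup.mk' (cX X))).toSylow (by
    intro hd
    have h1 : ¬ 3 ∣ S.index := by
      have := h.sylow.2.2; rwa [relIndex_top_right] at this
    exact h1 (hd.trans (index_map_dvd S (QuotientGroup.mk'_surjective _))))

theorem sylQ_eq : (h.sylQ : Subgroup (qX X)) = S.map (QuotientGroup.mk' (cX X)) := rfl

theorem pmin : PMin h.sylQ (M.map (QuotientGroup.mk' (cX X))) where
  le := map_mono h.le_M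
  ne_top e := h.ne_top (by
    have := congrArg (comap (QuotientGroup.mk' (cX X))) e
    rwa [comap_map_eq, QuotientGroup.ker_mk', comap_top, sup_eq_left.mpr h.cX_le_M] at this)
  uniq Y hY hne := by
    have hSY : S ≤ Y.comap (QuotientGroup.mk' (cX X)) :=
      map_le_iff_le_comap.mp (by rw [← h.sylQ_eq]; exact hY)
    have hne' : Y.comap (QuotientGroup.mk' (cX X)) ≠ ⊤ := fun e => hne (by
      rw [← map_comap_eq_self_of_surjective (QuotientGroup.mk'_surjective (cX X)) Y, e,
        map_top_of_surjective _ (QuotientGroup.mk'_surjective (cX X))])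
    rw [← map_comap_eq_self_of_surjective (QuotientGroup.mk'_surjective (cX X)) Y]
    exact map_mono (h.uniq _ hSY hne')

theorem noCore (N : Subgroup (qX X)) (hN : N.Normal) (hp : IsPGroup 3 N) : N = ⊥ := by
  set π := QuotientGroup.mk' (cX X)
  set N₀ := N.comap π
  haveI : N₀.Normal := hN.comap π
  have hCN : cX X ≤ N₀ := fun x hx => by
    rw [mem_comap, show π x = 1 from (QuotientGroup.eq_one_iff x).mpr hx]; exact one_mem _
  have hle : N ≤ (h.sylQ : Subgroup (qX X)) :=
    (PLocal.le_pCore (hN := hN) hp).trans (PLocal.pCore_le_sylow h.sylQ)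
  have hN₀ : N₀ ≤ cX X ⊔ S := by
    refine (comap_mono hle).trans (le_of_eq ?_)
    rw [h.sylQ_eq, comap_map_eq, QuotientGroup.ker_mk', sup_comm]
  by_contra hne
  by_cases hcase : S ⊓ N₀ ≤ pCore 3 X
  · refine hne ((Subgroup.eq_bot_iff_forall _).mpr fun q hq => ?_)
    obtain ⟨s, hs, rfl⟩ : ∃ s ∈ S, π s = q := by
      have := hle hq; rw [h.sylQ_eq] at this; exact this
    exact (QuotientGroup.eq_one_iff s).mpr (h.core_le_cX (hcase ⟨hs, hq⟩))
  · exact h.cX_sup_ne_top (top_le_iff.mp ((h.sup_eq_top hcase).ge.trans (sup_le hN₀ le_sup_right)))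

/-- A configuration of pairwise orthogonal cells when `J(S) ≰ O₃`. -/
theorem exists_cfg (hJ : ¬ thompsonSubgroupOf 3 S ≤ pCore 3 X) :
    ∃ 𝒞, Config (sX X) 3 (h.sylQ : Subgroup (qX X)) 𝒞 ∧
      ∀ c ∈ 𝒞, ∀ d ∈ 𝒞, c ≠ d → Orth (sX X) c.2 d.2 := by
  set π := QuotientGroup.mk' (cX X)
  obtain ⟨A, hA, hAQ⟩ : ∃ A ∈ PLocal.maxEAIn 3 S, ¬ A ≤ pCore 3 X := by
    by_contra hno
    push Not at hno
    exact hJ (by rw [PLocal.thompsonSubgroupOf_eq]; exact sSup_le hno)
  have hAb : A.map π ≠ ⊥ := fun e => hAQ (fun a ha => by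
    have h1 : π a = 1 := mem_bot.mp (e ▸ mem_map_of_mem π ha)
    exact h.inf_cX.le ⟨hA.1 ha, (QuotientGroup.eq_one_iff a).mp h1⟩)
  have hwt : Nat.card (Additive (vX X)) ≤ wt (sX X) (A.map π) := by
    set A₀ := A ⊓ cX X
    have hA₀ : A₀ ≤ pCore 3 X := fun a ha => h.inf_cX.le ⟨hA.1 ha.1, ha.2⟩
    have hel : IsElementaryAbelian 3 (A₀ ⊔ vX X : Subgroup X) :=
      PLocal.isElementaryAbelian_sup (PLocal.isElementaryAbelian_of_le hA.2.1 inf_le_left)
        (LocalEven50.isElementaryAbelian_omegaOneCenter _) inf_le_right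
    have h1 := hA.2.2 _ (sup_le (inf_le_left.trans hA.1) (h.vX_le_core.trans h.core_le)) hel
    have h2 := LocalEven50.card_sup_mul_card_inf_of_coe A₀ (vX X) (mul_normal A₀ (vX X))
    have h3 : Nat.card (A.map π) * Nat.card A₀ = Nat.card A := by
      have h4 := (A₀.subgroupOf A).index_mul_card
      have e : (π.comp A.subtype).ker = A₀.subgroupOf A := by
        ext a
        rw [MonoidHom.mem_ker, mem_subgroupOf]
        exact ⟨fun ha => ⟨a.2, (QuotientGroup.eq_one_iff (a : X)).mp ha⟩,
          fun ha => (QuotientGroup.eq_one_iff (a : X)).mpr ha.2⟩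
      have h5 : (π.comp A.subtype).ker.index = Nat.card (π.comp A.subtype).range := index_ker _
      rw [e, MonoidHom.range_comp, A.range_subtype] at h5
      rw [h5, Nat.card_congr (subgroupOfEquivOfLe (inf_le_left : A₀ ≤ A)).toEquiv] at h4
      exact h4
    set FA := fix (sX X) (A.map π)
    have h6 : Nat.card ↥(A₀ ⊓ vX X) ≤ Nat.card FA := by
      refine Nat.card_le_card_of_injective (fun v => (⟨Additive.ofMul ⟨v.1, v.2.2⟩, ?_⟩ : FA))
        fun v w e => Subtype.ext ?_
      · rintro _ ⟨a, ha, rfl⟩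
        refine Additive.toMul.injective (Subtype.ext ?_)
        refine (repX_apply a _).trans ?_
        show a * (v : X) * a⁻¹ = v
        rw [(le_centralizer_iff_isMulCommutative.mpr hA.2.1.1 ha) _ v.2.1.1 |>.symm,
          mul_inv_cancel_right]
      · exact congrArg (fun x : FA => ((Additive.toMul x.1 : vX X) : X)) e
    have hV : Nat.card (Additive (vX X)) = Nat.card (vX X) := Nat.card_congr Additive.toMul
    rw [hV, wt]
    refine Nat.le_of_mul_le_mul_left ?_ (Nat.card_pos (α := A₀))
    calc Nat.card A₀ * Nat.card (vX X) = Nat.card ↥(A₀ ⊔ vX X) * Nat.card ↥(A₀ ⊓ vX X) := h2.symm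
      _ ≤ Nat.card A * Nat.card FA := Nat.mul_le_mul h1 h6
      _ = Nat.card A₀ * (Nat.card (A.map π) * Nat.card FA) := by rw [← h3]; ring
  obtain ⟨B, -, hB⟩ := exists_minOff sX_injective vX_exp
    (PLocal.isElementaryAbelian_map hA.2.1 π) hAb hwt
  obtain ⟨-, 𝒞, h𝒞⟩ := exists_config (sX X) sX_injective vX_exp h.sylQ _ h.pmin h.noCore ⟨B, hB⟩
  refine ⟨𝒞, h𝒞, fun c hc d hd hne => (h𝒞.dich c hc d hd hne).resolve_right fun hl => ?_⟩
  obtain ⟨D⟩ := h𝒞.pre.fam.cell c hc
  exact absurd (FFBlocks.add_self_of_card D h𝒞.pre.exp hl.1).1 (by norm_num)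

end Hyp

end CfsgLib.Yoshida49
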