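import Cfsg.Agent.FFCells.Main
import Cfsg.Agent.FFBlocks.Decomp

/-!
# Pairwise orthogonal cells

In a configuration of pairwise orthogonal cells the join of the groups maps onto `SL₂` in each cell,
the join of the roots is a Sylow subgroup of it, and the Borel subgroups lie in the maximal subgroup.
-/

set_option autoImplicit false
set_option linter.style.haveILetI false
set_option linter.unusedSectionVars false

namespace CfsgLib.Yoshida49

open Subgroup Matrix CfsgLib.FFCells CfsgLib.SL2Recognition CfsgLib.Linear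
open scoped MatrixGroups

variable {P V : Type*} [Group P] [Finite P] [AddCommGroup V] [Finite V] {p : ℕ} [Fact p.Prime]
  {σ : P →* AddMonoid.End V} {T : Sylow p P} {M : Subgroup P}
  {𝒞 : Set (Subgroup P × Subgroup P)}

/-- A configuration of pairwise orthogonal cells in a `p`-minimal group with trivial `p`-core. -/
structure OCfg (σ : P →* AddMonoid.End V) (T : Sylow p P) (M : Subgroup P)
    (𝒞 : Set (Subgroup P × Subgroup P)) : Prop where
  cfg : Config σ p (T : Subgroup P) 𝒞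
  orth : ∀ c ∈ 𝒞, ∀ d ∈ 𝒞, c ≠ d → Orth σ c.2 d.2
  pmin : PMin T M
  noCore : ∀ N : Subgroup P, N.Normal → IsPGroup p N → N = ⊥

/-- The roots of the other cells. -/
abbrev others (𝒞 : Set (Subgroup P × Subgroup P)) (c : 𝒞) : Subgroup P := rootsJoin (𝒞 \ {c.1})

namespace OCfg

variable (h : OCfg σ T M 𝒞)
include h

theorem inj : Function.Injective σ := h.cfg.pre.inj

theorem fam : Fam σ 𝒞 := h.cfg.pre.fam

/-- The coordinates of a cell. -/
noncomputable abbrev D (c : 𝒞) : CellData σ c.1.1 c.1.2 := h.fam.data c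

theorem charF (c : 𝒞) : CharP (h.D c).F p := (h.D c).charP h.cfg.pre.exp

theorem root_le_roots (c : 𝒞) : c.1.1 ≤ rootsJoin 𝒞 := h.fam.root_le_join c

theorem grp_le_grps (c : 𝒞) : c.1.2 ≤ grpsJoin 𝒞 := le_iSup (fun c : 𝒞 => c.1.2) c

theorem roots_le_grps : rootsJoin 𝒞 ≤ grpsJoin 𝒞 :=
  iSup_le fun c => (h.fam.data c).le.trans (h.grp_le_grps c)

theorem roots_le_T : rootsJoin 𝒞 ≤ (T : Subgroup P) := h.cfg.pre.join_le

theorem roots_isPGroup : IsPGroup p (rootsJoin 𝒞) := h.cfg.pre.pgroup.to_le h.roots_le_T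

theorem commute_grp {c d : 𝒞} (hne : c ≠ d) {x y : P} (hx : x ∈ c.1.2) (hy : y ∈ d.1.2) :
    Commute x y :=
  (h.orth c.1 c.2 d.1 d.2 fun e => hne (Subtype.ext e)).commute h.inj hx hy

theorem T_le_normalizer : (T : Subgroup P) ≤ normalizer (rootsJoin 𝒞 : Set P) := by
  refine fun t ht => mem_normalizer_of_cj_le ?_
  rw [cj, rootsJoin, Subgroup.map_iSup]
  exact iSup_le fun c => h.root_le_roots (h.cfg.pre.img ht c)

theorem grps_normal : (grpsJoin 𝒞).Normal := by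
  refine normalizer_eq_top_iff.mp (top_le_iff.mp (h.cfg.gen.ge.trans (sup_le le_normalizer ?_)))
  refine fun t ht => mem_normalizer_of_cj_le ?_
  rw [cj, grpsJoin, Subgroup.map_iSup]
  exact iSup_le fun c => h.grp_le_grps (h.cfg.pre.img ht c)

theorem roots_ne_bot : rootsJoin 𝒞 ≠ ⊥ := by
  obtain ⟨c, hc⟩ := h.cfg.nonempty
  exact fun e => (h.fam.data ⟨c, hc⟩).isMinOff.ne_bot (le_bot_iff.mp (e ▸ h.root_le_roots ⟨c, hc⟩))

theorem normalizer_roots_le : normalizer (rootsJoin 𝒞 : Set P) ≤ M :=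
  h.pmin.uniq _ h.T_le_normalizer fun e =>
    h.roots_ne_bot (h.noCore _ (normalizer_eq_top_iff.mp e) h.roots_isPGroup)

theorem borel_le (c : 𝒞) {x : P} (hx : x ∈ c.1.2) (hn : x ∈ normalizer (c.1.1 : Set P)) :
    x ∈ M := by
  refine h.normalizer_roots_le (mem_normalizer_of_cj_le ?_)
  rw [cj, rootsJoin, Subgroup.map_iSup]
  refine iSup_le fun d => ?_
  rcases eq_or_ne c d with rfl | hne
  · show cj x c.1.1 ≤ _
    rw [cj_eq_self.mpr hn]; exact h.root_le_roots c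
  · rintro _ ⟨b, hb, rfl⟩
    show x * b * x⁻¹ ∈ _
    rw [(h.commute_grp hne hx ((h.fam.data d).le hb)).eq, mul_inv_cancel_right]
    exact h.root_le_roots d hb

theorem grp_not_le (c : 𝒞) : ¬ c.1.2 ≤ M := by
  intro hle
  refine h.pmin.ne_top (top_le_iff.mp (h.cfg.gen.ge.trans (sup_le (iSup_le fun d => ?_) h.pmin.le)))
  obtain ⟨t, ht, -, e⟩ := h.cfg.trans c.1 c.2 d.1 d.2
  rw [← e]
  exact (cj_mono hle).trans (cj_le_of_mem (h.pmin.le ht))

theorem grp_inf_M (c : 𝒞) {x : P} (hx : x ∈ c.1.2) (hxM : x ∈ M) :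
    x ∈ normalizer (c.1.1 : Set P) :=
  (h.fam.data c).mem_normalizer_of_mem (((h.root_le_roots c).trans h.roots_le_T).trans h.pmin.le)
    (h.grp_not_le c) hx hxM

/-- The groups act on the line pair of each cell through `SL₂`. -/
theorem exists_lin (c : 𝒞) {x : P} (hx : x ∈ grpsJoin 𝒞) :
    ∃ A : SL(2, (h.D c).F), ∀ v, (h.D c).ψ (σ x v) = A.1 *ᵥ (h.D c).ψ v := by
  let K : Subgroup P :=
    { carrier := {x | ∃ A : SL(2, (h.D c).F), ∀ v, (h.D c).ψ (σ x v) = A.1 *ᵥ (h.D c).ψ v}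
      one_mem' := ⟨1, fun v => by simp [apply_one]⟩
      mul_mem' := fun {x y} ⟨A, hA⟩ ⟨B, hB⟩ => ⟨A * B, fun v => by
        rw [apply_mul, hA, hB, mulVec_mulVec, Matrix.SpecialLinearGroup.coe_mul]⟩
      inv_mem' := fun {x} ⟨A, hA⟩ => ⟨A⁻¹, fun v => by
        have e := hA (σ x⁻¹ v)
        rw [apply_apply_inv] at e
        rw [e, mulVec_mulVec, ← Matrix.SpecialLinearGroup.coe_mul, inv_mul_cancel]
        simp⟩ }
  refine (iSup_le (a := K) fun d => ?_) hx
  intro l hl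
  rcases eq_or_ne d c with rfl | hne
  · exact ⟨(h.D d).φ ⟨l, hl⟩, (h.D d).equiv ⟨l, hl⟩⟩
  · refine ⟨1, fun v => ?_⟩
    have hm : σ l v - v ∈ fix σ c.1.2 := fun y hy =>
      (h.orth c.1 c.2 d.1 d.2 (fun e => hne (Subtype.ext e.symm)) y hy l hl v).1
    have := ((h.D c).ker _).mpr hm
    rw [map_sub, sub_eq_zero] at this
    simpa using this

theorem lin_unique (c : 𝒞) {A A' : SL(2, (h.D c).F)}
    (hA : ∀ v, A.1 *ᵥ (h.D c).ψ v = A'.1 *ᵥ (h.D c).ψ v) : A = A' := by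
  refine Subtype.ext (Matrix.ext_of_mulVec_single fun i => ?_)
  obtain ⟨v, hv⟩ := (h.D c).surj (Pi.single i 1)
  simpa [hv] using hA v

/-- The map onto `SL₂` of a cell. -/
noncomputable def θ (c : 𝒞) : ↥(grpsJoin 𝒞) →* SL(2, (h.D c).F) :=
  MonoidHom.mk' (fun x => (h.exists_lin c x.2).choose) fun x y => h.lin_unique c fun v => by
    rw [Matrix.SpecialLinearGroup.coe_mul, ← mulVec_mulVec, ← (h.exists_lin c (x * y).2).choose_spec,
      Subgroup.coe_mul, apply_mul, (h.exists_lin c x.2).choose_spec, (h.exists_lin c y.2).choose_spec]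

theorem θ_spec (c : 𝒞) (x : ↥(grpsJoin 𝒞)) (v : V) :
    (h.D c).ψ (σ x v) = (h.θ c x).1 *ᵥ (h.D c).ψ v :=
  (h.exists_lin c x.2).choose_spec v

theorem θ_grp (c : 𝒞) (l : c.1.2) :
    h.θ c ⟨l, h.grp_le_grps c l.2⟩ = (h.D c).φ l :=
  h.lin_unique c fun v => by rw [← h.θ_spec c ⟨l, h.grp_le_grps c l.2⟩, ← (h.D c).equiv]

theorem θ_surjective (c : 𝒞) : Function.Surjective (h.θ c) := fun A =>
  ⟨⟨_, h.grp_le_grps c ((h.D c).φ.symm A).2⟩, by rw [h.θ_grp, MulEquiv.apply_symm_apply]⟩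

theorem others_le_roots (c : 𝒞) : others 𝒞 c ≤ rootsJoin 𝒞 :=
  iSup_le fun d => h.root_le_roots ⟨d.1, d.2.1⟩

theorem others_le_grps (c : 𝒞) : others 𝒞 c ≤ grpsJoin 𝒞 :=
  (h.others_le_roots c).trans h.roots_le_grps

theorem orth_others (c : 𝒞) : Orth σ c.1.2 (others 𝒞 c) :=
  Orth.iSup_right h.inj fun d => (h.orth c.1 c.2 d.1 d.2.1 fun e => d.2.2 e.symm).mono le_rfl
    (h.fam.data ⟨d.1, d.2.1⟩).le

theorem others_centralizer (c : 𝒞) : others 𝒞 c ≤ centralizer (c.1.2 : Set P) :=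
  le_centralizer_iff.mp ((h.orth_others c).le_centralizer h.inj)

theorem θ_others (c : 𝒞) {x : P} (hx : x ∈ others 𝒞 c) :
    h.θ c ⟨x, h.others_le_grps c hx⟩ = 1 := by
  refine h.lin_unique c fun v => ?_
  rw [← h.θ_spec c ⟨x, h.others_le_grps c hx⟩]
  have hm : σ x v - v ∈ fix σ c.1.2 := fun y hy => (h.orth_others c y hy x hx v).1
  have := ((h.D c).ker _).mpr hm
  rw [map_sub, sub_eq_zero] at this
  simpa using this

theorem roots_eq_sup (c : 𝒞) : rootsJoin 𝒞 = c.1.1 ⊔ others 𝒞 c := by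
  refine le_antisymm (iSup_le fun d => ?_) (sup_le (h.root_le_roots c) (h.others_le_roots c))
  rcases eq_or_ne d c with rfl | hne
  · exact le_sup_left
  · exact le_sup_of_le_right (le_iSup (fun d : ↥(𝒞 \ {c.1}) => rt d.1)
      ⟨d.1, d.2, fun e => hne (Subtype.ext e)⟩)

/-- Elements of the join of the roots: a root element times one of the others. -/
theorem exists_decomp (c : 𝒞) {j : P} (hj : j ∈ rootsJoin 𝒞) :
    ∃ b ∈ c.1.1, ∃ e ∈ others 𝒞 c, b * e = j := by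
  rw [h.roots_eq_sup c, ← SetLike.mem_coe, coe_mul_of_left_le_normalizer_right _ _ ?_] at hj
  · exact hj
  · exact ((h.fam.data c).le.trans ((h.orth_others c).le_centralizer h.inj)).trans
      (centralizer_le_normalizer (s := (others 𝒞 c : Set P)))

theorem root_inf_others (c : 𝒞) : c.1.1 ⊓ others 𝒞 c = ⊥ := by
  refine (eq_bot_iff_forall _).mpr fun x hx => ?_
  have h1 := h.θ_others c hx.2
  have e : (⟨x, h.others_le_grps c hx.2⟩ : ↥(grpsJoin 𝒞)) =
      ⟨((⟨x, (h.D c).le hx.1⟩ : c.1.2) : P), h.grp_le_grps c ((h.D c).le hx.1)⟩ := rfl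
  rw [e, h.θ_grp] at h1
  exact congrArg Subtype.val ((h.D c).φ.injective (h1.trans (map_one _).symm))

theorem card_roots (c : 𝒞) :
    Nat.card (rootsJoin 𝒞) = Nat.card c.1.1 * Nat.card (others 𝒞 c) := by
  refine ((Nat.card_congr (Equiv.ofBijective
    (fun x : c.1.1 × others 𝒞 c => (⟨x.1 * x.2,
      mul_mem (h.root_le_roots c x.1.2) (h.others_le_roots c x.2.2)⟩ : rootsJoin 𝒞))
    ⟨?_, ?_⟩)).symm).trans (Nat.card_prod _ _)
  · intro x y e
    exact mul_injective_of_disjoint (disjoint_iff.mpr (h.root_inf_others c))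
      (congrArg Subtype.val e)
  · rintro ⟨j, hj⟩
    obtain ⟨b, hb, e, he, rfl⟩ := h.exists_decomp c hj
    exact ⟨(⟨b, hb⟩, ⟨e, he⟩), rfl⟩

/-- The kernel of `θ` inside `L ⊔ E`. -/
theorem mem_others_of_θ (c : 𝒞) {x : P} (hx : x ∈ c.1.2 ⊔ others 𝒞 c)
    (hg : x ∈ grpsJoin 𝒞) (h1 : h.θ c ⟨x, hg⟩ = 1) : x ∈ others 𝒞 c := by
  rw [← SetLike.mem_coe, coe_mul_of_left_le_normalizer_right _ _
    (((h.orth_others c).le_centralizer h.inj).trans
      (centralizer_le_normalizer (s := (others 𝒞 c : Set P))))] at hx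
  obtain ⟨l, hl, e, he, rfl⟩ := hx
  have e1 : (⟨l * e, hg⟩ : ↥(grpsJoin 𝒞)) =
      ⟨((⟨l, hl⟩ : c.1.2) : P), h.grp_le_grps c hl⟩ * ⟨e, h.others_le_grps c he⟩ := rfl
  rw [e1, map_mul, h.θ_others c he, mul_one, h.θ_grp] at h1
  have h2 : l = 1 := congrArg Subtype.val ((h.D c).φ.injective (h1.trans (map_one _).symm))
  rw [h2]
  simpa using he

/-- Elements of the root join act as upper unitriangular matrices. -/
theorem θ_roots (c : 𝒞) {j : P} (hj : j ∈ rootsJoin 𝒞) :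
    ∃ t, h.θ c ⟨j, h.roots_le_grps hj⟩ = upperUni t ∧ (t = 0 → j ∈ others 𝒞 c) := by
  obtain ⟨b, hb, e, he, rfl⟩ := h.exists_decomp c hj
  obtain ⟨t, ht⟩ := ((h.D c).root ⟨b, (h.D c).le hb⟩).mp hb
  have e1 : h.θ c ⟨b * e, h.roots_le_grps hj⟩ = upperUni t := by
    have e2 : (⟨b * e, h.roots_le_grps hj⟩ : ↥(grpsJoin 𝒞)) =
      ⟨((⟨b, (h.D c).le hb⟩ : c.1.2) : P), h.grp_le_grps c ((h.D c).le hb)⟩ *
        ⟨e, h.others_le_grps c he⟩ := rfl
    rw [e2, map_mul, h.θ_others c he, mul_one, h.θ_grp, ht]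
  refine ⟨t, e1, fun ht0 => h.mem_others_of_θ c
    (mul_mem (mem_sup_left ((h.D c).le hb)) (mem_sup_right he)) (h.roots_le_grps hj) ?_⟩
  rw [e1, ht0, upperUni, Matrix.SpecialLinearGroup.transvection_coeff_zero]

/-- Inside the groups the Sylow subgroup consists of the roots. -/
theorem T_inf_grps : (T : Subgroup P) ⊓ grpsJoin 𝒞 = rootsJoin 𝒞 := by
  refine le_antisymm (fun s hs => h.cfg.pre.mem_join_of_line hs.1 fun v hv =>
    h.fam.mem_fix_grps.mpr fun c => ?_) (le_inf h.roots_le_T h.roots_le_grps)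
  haveI := h.charF c
  set A := h.θ c ⟨s, hs.2⟩ with hA
  obtain ⟨k, hk⟩ := h.cfg.pre.exists_pow hs.1
  have hAk : A ^ p ^ k = 1 := by
    rw [hA, ← map_pow, show (⟨s, hs.2⟩ : ↥(grpsJoin 𝒞)) ^ p ^ k = 1 from Subtype.ext hk, map_one]
  haveI : Fintype 𝒞 := Fintype.ofFinite _
  classical
  -- `A` fixes the line
  have hline : A.1 1 0 = 0 := by
    obtain ⟨w, hw, hwc⟩ := h.fam.exists_line (Function.update (fun _ => 0) c 1)
    have h1 := h.fam.mem_fix_join.mp (h.cfg.pre.apply_fix hs.1 hw) c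
    rw [h.θ_spec c ⟨s, hs.2⟩, hwc, Function.update_self, ← hA] at h1
    simpa [mulVec, dotProduct, Fin.sum_univ_two] using h1
  have hpow : ∀ n : ℕ, (A ^ n).1 1 0 = 0 ∧ (A ^ n).1 0 0 = A.1 0 0 ^ n := by
    intro n
    induction n with
    | zero => simp
    | succ n ih =>
      rw [pow_succ, Matrix.SpecialLinearGroup.coe_mul]
      constructor
      · simp only [Matrix.mul_apply, Fin.sum_univ_two, ih.1, hline]; ring
      · simp only [Matrix.mul_apply, Fin.sum_univ_two, ih.2, hline]; ring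
  have ha : A.1 0 0 = 1 := by
    refine eq_one_of_pow_prime_pow (p := p) (k := k) ?_
    rw [← (hpow _).2, hAk]; simp
  rw [map_sub, h.θ_spec c ⟨s, hs.2⟩, ← hA, sub_eq_zero]
  have hy := h.fam.mem_fix_join.mp hv c
  ext i
  fin_cases i
  · simp [mulVec, dotProduct, Fin.sum_univ_two, hy, ha]
  · simp [mulVec, dotProduct, Fin.sum_univ_two, hy, hline]

theorem roots_isSylow : ¬ p ∣ (rootsJoin 𝒞).relIndex (grpsJoin 𝒞) := by
  haveI := h.grps_normal
  obtain ⟨Q, hQ⟩ := CfsgLib.LocalEvenBasic.exists_sylow_map_eq_inf T (grpsJoin 𝒞)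
  rw [← h.T_inf_grps, ← hQ, relIndex, subgroupOf,
    comap_map_eq_self_of_injective (grpsJoin 𝒞).subtype_injective]
  exact Q.not_dvd_index

/-- Conjugation by an element of the groups is inner on each group. -/
theorem grps_le_sup (c : 𝒞) : grpsJoin 𝒞 ≤ c.1.2 ⊔ centralizer (c.1.2 : Set P) := by
  refine iSup_le fun d => ?_
  rcases eq_or_ne d c with rfl | hne
  · exact le_sup_left
  · exact le_sup_of_le_right (fun x hx => mem_centralizer_iff.mpr fun y hy =>
      (h.commute_grp hne hx hy).eq.symm)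

/-- Fixed vectors of the others. -/
theorem mem_fix_others (c : 𝒞) {v : V} :
    v ∈ fix σ (others 𝒞 c) ↔ ∀ d : 𝒞, d ≠ c → (h.D d).ψ v 1 = 0 :=
  ⟨fun hv d hd => (h.D d).mem_fix_iff.mp (fix_anti σ
      (le_iSup (fun d : ↥(𝒞 \ {c.1}) => rt d.1) ⟨d.1, d.2, fun e => hd (Subtype.ext e)⟩) hv),
    fun hv => fix_iSup _ fun d => (h.D ⟨d.1, d.2.1⟩).fixB v
      (hv ⟨d.1, d.2.1⟩ fun e => d.2.2 (congrArg Subtype.val e))⟩

theorem mem_fix_roots_of (c : 𝒞) {v : V} (hv : v ∈ fix σ (others 𝒞 c)) (h0 : (h.D c).ψ v 1 = 0) :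
    v ∈ fix σ (rootsJoin 𝒞) :=
  h.fam.mem_fix_join.mpr fun d => by
    rcases eq_or_ne d c with rfl | hne
    · exact h0
    · exact (h.mem_fix_others c).mp hv d hne

theorem exists_fix_others (c : 𝒞) (r : (h.D c).F) :
    ∃ v ∈ fix σ (others 𝒞 c), (h.D c).ψ v 1 = r := by
  classical
  haveI : Fintype 𝒞 := Fintype.ofFinite _
  obtain ⟨v, hv⟩ := h.fam.exists_transversal (Function.update (fun _ => 0) c r)
  exact ⟨v, (h.mem_fix_others c).mpr fun d hd => by rw [hv, Function.update_of_ne hd],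
    by rw [hv, Function.update_self]⟩

theorem card_fix_others (c : 𝒞) :
    Nat.card (fix σ (others 𝒞 c)) = Nat.card c.1.1 * Nat.card (fix σ (rootsJoin 𝒞)) := by
  let f : fix σ (others 𝒞 c) →+ (h.D c).F :=
    ((Pi.evalAddMonoidHom (fun _ => (h.D c).F) 1).comp (h.D c).ψ).comp
      (fix σ (others 𝒞 c)).subtype
  have hf : Function.Surjective f := fun r => by
    obtain ⟨v, hv, e⟩ := h.exists_fix_others c r
    exact ⟨⟨v, hv⟩, e⟩
  have hle : fix σ (rootsJoin 𝒞) ≤ fix σ (others 𝒞 c) := fix_anti σ (h.others_le_roots c)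
  have e : f.ker = (fix σ (rootsJoin 𝒞)).addSubgroupOf (fix σ (others 𝒞 c)) :=
    AddSubgroup.ext fun v => by
      rw [AddMonoidHom.mem_ker, AddSubgroup.mem_addSubgroupOf]
      exact ⟨h.mem_fix_roots_of c v.2, fun h1 => h.fam.mem_fix_join.mp h1 c⟩
  rw [AddSubgroup.card_eq_card_quotient_mul_card_addSubgroup f.ker,
    Nat.card_congr (QuotientAddGroup.quotientKerEquivOfSurjective f hf).toEquiv, e,
    Nat.card_congr (AddSubgroup.addSubgroupOfEquivOfLe hle).toEquiv, (h.D c).card_root]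

/-- A product of Weyl elements. -/
theorem exists_weyl :
    ∃ w ∈ grpsJoin 𝒞, (∀ c : 𝒞, c.1.2 ≤ rootsJoin 𝒞 ⊔ cj w (rootsJoin 𝒞)) ∧
      ∀ v : V, ∃ f ∈ fix σ (rootsJoin 𝒞), ∃ f' ∈ fix σ (cj w (rootsJoin 𝒞)), f + f' = v := by
  classical
  haveI : Fintype 𝒞 := Fintype.ofFinite _
  obtain ⟨w, hw, hwθ, hwc⟩ : ∃ w, ∃ hw : w ∈ grpsJoin 𝒞,
      (∀ c : 𝒞, h.θ c ⟨w, hw⟩ = if c ∈ (Finset.univ : Finset 𝒞) then CellData.weylSL (h.D c).F else 1) ∧
      ∀ c : 𝒞, ∀ l ∈ c.1.2, w * l * w⁻¹ = if c ∈ (Finset.univ : Finset 𝒞) then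
        (h.D c).weyl * l * (h.D c).weyl⁻¹ else l := by
    generalize (Finset.univ : Finset 𝒞) = s
    induction s using Finset.induction with
    | empty =>
      exact ⟨1, one_mem _, fun c => by simp [show (⟨1, one_mem _⟩ : ↥(grpsJoin 𝒞)) = 1 from rfl],
        fun c l _ => by simp⟩
    | insert a s has ih =>
      obtain ⟨w, hw, h1, h2⟩ := ih
      have hwa : (h.D a).weyl ∈ grpsJoin 𝒞 := h.grp_le_grps a (h.D a).weyl_mem
      refine ⟨(h.D a).weyl * w, mul_mem hwa hw, fun c => ?_, fun c l hl => ?_⟩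
      · rw [show (⟨(h.D a).weyl * w, mul_mem hwa hw⟩ : ↥(grpsJoin 𝒞)) = ⟨_, hwa⟩ * ⟨w, hw⟩ from rfl,
          map_mul, h1]
        rcases eq_or_ne c a with rfl | hne
        · rw [if_neg has, if_pos (Finset.mem_insert_self _ _), mul_one]
          exact (h.θ_grp c ⟨_, (h.D c).weyl_mem⟩).trans ((h.D c).φ.apply_symm_apply _)
        · have h3 : h.θ c ⟨(h.D a).weyl, hwa⟩ = 1 := by
            refine h.lin_unique c fun v => ?_
            rw [← h.θ_spec c ⟨_, hwa⟩]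
            have hm : σ (h.D a).weyl v - v ∈ fix σ c.1.2 := fun y hy =>
              (h.orth c.1 c.2 a.1 a.2 (fun e => hne (Subtype.ext e)) y hy _ (h.D a).weyl_mem v).1
            have := ((h.D c).ker _).mpr hm
            rw [map_sub, sub_eq_zero] at this
            simpa using this
          rw [h3, one_mul]
          simp [hne]
      · have e : (h.D a).weyl * w * l * ((h.D a).weyl * w)⁻¹ =
            (h.D a).weyl * (w * l * w⁻¹) * (h.D a).weyl⁻¹ := by group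
        rw [e, h2 c l hl]
        rcases eq_or_ne c a with rfl | hne
        · rw [if_neg has, if_pos (Finset.mem_insert_self _ _)]
        · have hcomm : ∀ m ∈ c.1.2, (h.D a).weyl * m * (h.D a).weyl⁻¹ = m := fun m hm => by
            rw [(h.commute_grp hne.symm (h.D a).weyl_mem hm).eq, mul_inv_cancel_right]
          by_cases hcs : c ∈ s
          · rw [if_pos hcs, if_pos (Finset.mem_insert_of_mem hcs)]
            exact hcomm _ (mul_mem (mul_mem (h.D c).weyl_mem hl) (inv_mem (h.D c).weyl_mem))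
          · rw [if_neg hcs, if_neg (by simp [hne, hcs])]
            exact hcomm l hl
  simp only [Finset.mem_univ, if_true] at hwθ hwc
  refine ⟨w, hw, fun c => ?_, fun v => ?_⟩
  · rw [← (h.D c).gen_weyl]
    refine sup_le_sup (h.root_le_roots c) ?_
    rintro _ ⟨b, hb, rfl⟩
    refine mem_cj.mpr ?_
    show w⁻¹ * ((h.D c).weyl * b * (h.D c).weyl⁻¹) * w ∈ _
    rw [← hwc c b ((h.D c).le hb), mul_assoc w b, ← mul_assoc w⁻¹, inv_mul_cancel, one_mul,
      inv_mul_cancel_right]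
    exact h.root_le_roots c hb
  · obtain ⟨f, hf, hfc⟩ := h.fam.exists_line fun c => (h.D c).ψ v 0
    refine ⟨f, hf, v - f, mem_fix_cj.mpr (h.fam.mem_fix_join.mpr fun c => ?_), add_sub_cancel f v⟩
    have e : h.θ c ⟨w⁻¹, inv_mem hw⟩ = (CellData.weylSL (h.D c).F)⁻¹ := by
      rw [← hwθ c, ← map_inv]; rfl
    rw [h.θ_spec c ⟨w⁻¹, inv_mem hw⟩, e, map_sub, hfc]
    simp [CellData.weylSL_val, mulVec, dotProduct, Fin.sum_univ_two, adjugate_fin_two]

end OCfg

end CfsgLib.Yoshida49
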