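import Cfsg.Agent.Yoshida49.NodeThm
import Cfsg.Agent.LocalEven50.Blocks
import Cfsg.Agent.ConjFunctor.Functor

/-!
# The functor

For a `3`-group `Q`, the join of all levels over its Baumann subgroup, or the Baumann subgroup
itself if there is no node over it.
-/

set_option linter.style.haveILetI false
set_option linter.unusedSectionVars false

namespace CfsgLib.Yoshida49

open Subgroup Cfsg CfsgLib CfsgLib.LocalEven50
open scoped commutatorElement

universe u

variable {p : ℕ} [Fact p.Prime] {B B' : Type u} [Group B] [Group B']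

theorem comap_mem_lev (φ : B' ≃* B) :
    ∀ {i : ℕ} {X : Subgroup B}, X ∈ lev p B i → X.comap φ.toMonoidHom ∈ lev p B' i := by
  intro i
  induction i with
  | zero => rintro _ ⟨n, rfl⟩; exact ⟨n.twist φ, rfl⟩
  | succ i ih =>
    rintro _ ⟨n, g, X, hX, rfl⟩
    refine ⟨n.twist φ, g, X.comap φ.toMonoidHom, ih hX, ?_⟩
    rw [n.twist_act, map_comap_eq_self_of_surjective φ.surjective]

open scoped Classical in
/-- The join of all levels, or everything if there is no node. -/
noncomputable def nodeT (p : ℕ) [Fact p.Prime] (B : Type u) [Group B] : Subgroup B :=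
  if Nonempty (Node p B) then ⨆ x : {x : ℕ × Subgroup B // x.2 ∈ lev p B x.1}, x.1.2 else ⊤

theorem map_nodeT (φ : B ≃* B') : (nodeT p B).map φ.toMonoidHom = nodeT p B' := by
  unfold nodeT
  by_cases h : Nonempty (Node p B)
  · rw [if_pos h, if_pos (h.map fun n => n.twist φ.symm), Subgroup.map_iSup]
    refine le_antisymm (iSup_le fun x => ?_) (iSup_le fun x => ?_)
    · rw [map_equiv_eq_comap_symm' φ x.1.2]
      exact le_iSup (fun y : {y : ℕ × Subgroup B' // y.2 ∈ lev p B' y.1} => y.1.2)
        ⟨(x.1.1, _), comap_mem_lev φ.symm x.2⟩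
    · refine le_trans ?_ (le_iSup
        (fun y : {y : ℕ × Subgroup B // y.2 ∈ lev p B y.1} => y.1.2.map φ.toMonoidHom)
        ⟨(x.1.1, _), comap_mem_lev φ x.2⟩)
      exact (map_comap_eq_self_of_surjective φ.surjective _).ge
  · rw [if_neg h, if_neg fun h' => h (h'.map fun n => n.twist φ)]
    exact Subgroup.map_top_of_surjective _ φ.surjective

variable [Fact (Nat.Prime 3)]

/-- The join is normal in every node. -/
theorem nodeT_normal [Finite B] (n : Node 3 B) : ((nodeT 3 B).map n.τ).Normal := by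
  rw [nodeT, if_pos ⟨n⟩]
  set T := ⨆ x : {x : ℕ × Subgroup B // x.2 ∈ lev 3 B x.1}, x.1.2 with hTdef
  have hR : ∀ (i : ℕ), ∀ X ∈ lev 3 B i, X ≤ n.R := fun i X hX =>
    small (i + 1) i (Nat.lt_succ_self i) X hX n
  have hTR : T ≤ n.R := iSup_le fun x => hR _ _ x.2
  have hact : ∀ g : n.G, n.act g T ≤ T := by
    intro g
    rw [← n.map_le_map, n.map_act hTR, cj, hTdef, Subgroup.map_iSup, Subgroup.map_iSup]
    refine iSup_le fun x => ?_
    refine le_trans (le_of_eq ?_) (le_iSup
      (fun x : {x : ℕ × Subgroup B // x.2 ∈ lev 3 B x.1} => x.1.2.map n.τ)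
      ⟨(x.1.1 + 1, n.act g x.1.2), act_mem_lev n g x.2⟩)
    exact (n.map_act (hR _ _ x.2)).symm
  refine ⟨fun y hy g => ?_⟩
  have h : cj g (T.map n.τ) ≤ T.map n.τ := by
    rw [← n.map_act hTR]; exact map_mono (hact g)
  exact h (mem_cj.mpr (by simpa [mul_assoc] using hy))

theorem nodeT_ne_bot [Finite B] [Nontrivial B] : nodeT 3 B ≠ ⊥ := by
  unfold nodeT
  split_ifs with h
  · obtain ⟨n⟩ := h
    intro hbot
    have hV : n.V = ⊥ := le_bot_iff.mp (hbot ▸
      le_iSup (fun x : {x : ℕ × Subgroup B // x.2 ∈ lev 3 B x.1} => x.1.2) ⟨(0, n.V), mem_lev_zero n⟩)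
    have h1 := n.card_V
    rw [hV, card_bot] at h1
    exact n.one_lt.ne' (Nat.eq_one_of_mul_eq_one_right h1.symm)
  · exact top_ne_bot

theorem nodeT_eq_top [Finite B] (h : IsEmpty (Node 3 B)) : nodeT 3 B = ⊤ :=
  if_neg fun h' => h.false h'.some

/-- The value on a subgroup `S`: the join over `B(S)`, inside the group. -/
noncomputable def kOf {X : Type u} [Group X] (S : Subgroup X) : Subgroup X :=
  (nodeT 3 ↥(baumannSubgroupOf 3 S)).map (baumannSubgroupOf 3 S).subtype

/-- The functor. -/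
noncomputable def kFun (Q : Type u) [Group Q] : Subgroup Q := kOf (⊤ : Subgroup Q)

theorem map_kOf {X Y : Type u} [Group X] [Group Y] {f : X →* Y} (hf : Function.Injective f)
    (S : Subgroup X) : (kOf S).map f = kOf (S.map f) := by
  have e : baumannSubgroupOf 3 (S.map f) = (baumannSubgroupOf 3 S).map f :=
    (map_baumannSubgroupOf hf S).symm
  unfold kOf
  rw [e, Subgroup.map_map, ← map_nodeT ((baumannSubgroupOf 3 S).equivMapOfInjective f hf),
    Subgroup.map_map]
  rfl

theorem inducedFunctor_kFun {X : Type u} [Group X] (S : Subgroup X) :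
    inducedFunctor (G := X) (fun Q [Group Q] => kFun Q) S = kOf S := by
  show (kOf (⊤ : Subgroup ↥S)).map S.subtype = _
  rw [map_kOf S.subtype_injective, ← MonoidHom.range_eq_map, S.range_subtype]

theorem isCharPFunctor_kFun : IsCharPFunctor.{u} 3 (fun Q [Group Q] => kFun Q) := by
  refine ⟨fun Q _ _ hQ hn => ?_, fun Q R _ _ _ _ φ => ?_⟩
  · have hne : baumannSubgroupOf 3 (⊤ : Subgroup Q) ≠ ⊥ := by
      intro h
      obtain ⟨z, hz, hz1⟩ := (center Q).bot_or_exists_ne_one.resolve_left (by
        haveI := hn; exact hQ.bot_lt_center.ne')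
      refine hz1 (mem_bot.mp (h ▸ ⟨mem_top z, mem_centralizer_iff.mpr fun y _ => ?_⟩))
      exact mem_center_iff.mp hz y
    haveI : Nontrivial ↥(baumannSubgroupOf 3 (⊤ : Subgroup Q)) := (nontrivial_iff_ne_bot _).mpr hne
    intro h
    exact nodeT_ne_bot ((map_eq_bot_iff_of_injective _ (Subgroup.subtype_injective _)).mp h)
  · show (kOf (⊤ : Subgroup Q)).map φ.toMonoidHom = kOf (⊤ : Subgroup R)
    rw [map_kOf φ.injective, Subgroup.map_top_of_surjective _ φ.surjective]

end CfsgLib.Yoshida49
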