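import Cfsg.Agent.Yoshida49.Base
import Cfsg.Agent.Yoshida49.Cells
import Cfsg.Agent.Yoshida49.Functor
import Cfsg.Agent.PLocal.OffenderPair

/-!
# The Baumann subgroup against the cells

If `J(S) ≰ O₃` the images of `J(S)` and of `B(S)` are the join `E` of the roots, `W₁ = Ω₁Z(J(S)) V` is
normal and `W = O₃ ∩ B(S)` is normal.
-/

set_option autoImplicit false
set_option linter.style.haveILetI false
set_option linter.unusedSectionVars false

namespace CfsgLib.Yoshida49

open Subgroup Cfsg CfsgLib CfsgLib.FFCells CfsgLib.SL2Recognition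
open CfsgLib.ConjFunctor (IsSylowIn)
open scoped commutatorElement IsMulCommutative

universe u

variable {X : Type u} [Group X]

/-- The map onto the acting quotient. -/
abbrev prX (X : Type u) [Group X] : X →* qX X := QuotientGroup.mk' (cX X)

/-- `Ω₁(Z(J(S)))`. -/
abbrev y0 (S : Subgroup X) : Subgroup X := omegaOne 3 (centerThompsonOf 3 S)

/-- The Baumann subgroup. -/
abbrev bS (S : Subgroup X) : Subgroup X := baumannSubgroupOf 3 S

theorem mem_norm {g : X} {H : Subgroup X} :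
    g ∈ normalizer (H : Set X) ↔ H.map (MulAut.conj g).toMonoidHom = H :=
  mem_normalizer_iff_map_conj_eq

theorem y0_elem (S : Subgroup X) : IsElementaryAbelian 3 (y0 S) :=
  PLocal.isElementaryAbelian_omegaOne (le_centralizer_iff_isMulCommutative.mp
    (inf_le_right.trans (centralizer_le (inf_le_left (a := thompsonSubgroupOf 3 S)))))

theorem y0_le_J (S : Subgroup X) : y0 S ≤ thompsonSubgroupOf 3 S :=
  (PLocal.omegaOne_le _ _).trans inf_le_left

theorem y0_le_centralizer (S : Subgroup X) :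
    y0 S ≤ centralizer (thompsonSubgroupOf 3 S : Set X) :=
  (PLocal.omegaOne_le _ _).trans inf_le_right

theorem J_le_S (S : Subgroup X) : thompsonSubgroupOf 3 S ≤ S := PLocal.thompsonSubgroupOf_le 3 S

theorem J_le_bS (S : Subgroup X) : thompsonSubgroupOf 3 S ≤ bS S :=
  le_inf (J_le_S S) (le_centralizer_iff.mp (y0_le_centralizer S))

theorem y0_le_bS (S : Subgroup X) : y0 S ≤ bS S := (y0_le_J S).trans (J_le_bS S)

theorem bS_le (S : Subgroup X) : bS S ≤ S := inf_le_left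

theorem bS_le_centralizer (S : Subgroup X) : bS S ≤ centralizer (y0 S : Set X) := inf_le_right

theorem le_normalizer_y0 (S : Subgroup X) : S ≤ normalizer (y0 S : Set X) := by
  intro s hs
  rw [mem_norm]
  have hf : Function.Injective (MulAut.conj s).toMonoidHom := (MulAut.conj s).injective
  have hS : S.map (MulAut.conj s).toMonoidHom = S :=
    mem_norm.mp (le_normalizer hs)
  show (omegaOne 3 (centerThompsonOf 3 S)).map _ = omegaOne 3 (centerThompsonOf 3 S)
  rw [PLocal.map_omegaOne hf]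
  show omegaOne 3 ((thompsonSubgroupOf 3 S ⊓ _).map _) = _
  rw [PLocal.map_inf_centralizer hf, PLocal.map_thompsonSubgroupOf hf, hS]
  rfl

theorem le_normalizer_bS (S : Subgroup X) : S ≤ normalizer (bS S : Set X) :=
  LocalEven50.le_normalizer_inf le_normalizer
    fun _ hs => PLocal.Offender.mem_normalizer_centralizer (le_normalizer_y0 S hs)

variable [Finite X]

/-- An element of exponent `3` of `S` centralising `J(S)` lies in `Ω₁(Z(J(S)))`. -/
theorem mem_y0 {S : Subgroup X} {z : X} (hz : z ∈ S)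
    (hc : z ∈ centralizer (thompsonSubgroupOf 3 S : Set X)) (h3 : z ^ 3 = 1) : z ∈ y0 S := by
  refine PLocal.mem_omegaOne ⟨?_, hc⟩ h3
  obtain ⟨A, hA⟩ := PLocal.maxEAIn_nonempty 3 S
  have hel : IsElementaryAbelian 3 (A ⊔ zpowers z : Subgroup X) :=
    PLocal.isElementaryAbelian_sup hA.2.1 (PLocal.isElementaryAbelian_zpowers h3)
      (le_centralizer_iff.mp (zpowers_le.mpr
        (centralizer_le (PLocal.le_thompsonSubgroupOf hA) hc)))
  have e : A = A ⊔ zpowers z := eq_of_le_of_card_ge le_sup_left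
    (hA.2.2 _ (sup_le hA.1 (zpowers_le.mpr hz)) hel)
  exact PLocal.le_thompsonSubgroupOf hA (e ▸ mem_sup_right (mem_zpowers z))

theorem sX_fix {g : X} {v : vX X} :
    sX X (prX X g) (Additive.ofMul v) = Additive.ofMul v ↔ Commute g (v : X) := by
  rw [sX_mk]
  constructor
  · intro h
    have e := repX_apply g (Additive.ofMul v)
    rw [h] at e
    exact (eq_mul_inv_iff_mul_eq.mp e).symm
  · intro h
    refine Additive.toMul.injective (Subtype.ext ?_)
    refine (repX_apply g _).trans ?_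
    show g * (v : X) * g⁻¹ = (v : X)
    rw [h.eq, mul_inv_cancel_right]

theorem mem_fix_map {A : Subgroup X} {v : vX X} :
    Additive.ofMul v ∈ fix (sX X) (A.map (prX X)) ↔ ∀ a ∈ A, Commute a (v : X) :=
  ⟨fun h a ha => sX_fix.mp (h _ (mem_map_of_mem _ ha)), by
    rintro h _ ⟨a, ha, rfl⟩; exact sX_fix.mpr (h a ha)⟩

theorem card_fix_map (A : Subgroup X) :
    Nat.card (fix (sX X) (A.map (prX X))) = Nat.card ↥(vX X ⊓ centralizer (A : Set X)) :=
  Nat.card_congr
    { toFun := fun v => ⟨((Additive.toMul v.1 : vX X) : X), (Additive.toMul v.1).2,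
        mem_centralizer_iff.mpr fun a ha => (mem_fix_map.mp v.2 a ha).eq⟩
      invFun := fun x => ⟨Additive.ofMul ⟨x.1, x.2.1⟩,
        mem_fix_map.mpr fun a ha => mem_centralizer_iff.mp x.2.2 a ha⟩
      left_inv := fun _ => rfl
      right_inv := fun _ => rfl }

namespace Hyp

variable {S M : Subgroup X} (h : Hyp S M)
include h

theorem vX_le_S : vX X ≤ S := h.vX_le_core.trans h.core_le

theorem cX_inf_core {A : Subgroup X} (hA : A ≤ S) : A ⊓ cX X ≤ pCore 3 X :=
  (inf_le_inf_right _ hA).trans h.inf_cX.le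

/-- If `J(S) ≤ O₃` the value of the functor is normal. -/
theorem normal_kOf_of_J_le (hJ : thompsonSubgroupOf 3 S ≤ pCore 3 X) : (kOf S).Normal := by
  have hJQ : thompsonSubgroupOf 3 (pCore 3 X) = thompsonSubgroupOf 3 S :=
    PLocal.thompsonSubgroupOf_eq_of_le h.core_le hJ
  have hVy : vX X ≤ y0 S := fun v hv => mem_y0 (h.vX_le_S hv)
    (centralizer_le hJ (LocalEven50.omegaOneCenter_le_centralizer _ hv))
    ((LocalEven50.isElementaryAbelian_omegaOneCenter _).2 v hv)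
  have hBQ : bS S ≤ pCore 3 X := fun b hb =>
    h.inf_cX.le ⟨hb.1, centralizer_le hVy hb.2⟩
  have e : baumannSubgroupOf 3 (pCore 3 X) = bS S := by
    show pCore 3 X ⊓ _ = S ⊓ _
    rw [centerThompsonOf, hJQ]
    exact le_antisymm (inf_le_inf_right _ h.core_le) (le_inf hBQ inf_le_right)
  have ek : kOf (pCore 3 X) = kOf S := by
    unfold kOf
    rw [e]
  refine normalizer_eq_top_iff.mp (eq_top_iff.mpr fun g _ => ?_)
  rw [mem_norm, ← ek]
  show (kOf (pCore 3 X)).map (MulAut.conj g).toMonoidHom = _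
  rw [map_kOf (MulAut.conj g).injective,
    mem_norm.mp (show g ∈ normalizer (pCore 3 X : Set X) by
      rw [normalizer_eq_top]; trivial)]

theorem wt_map (A : Subgroup X) (hA : A ≤ S) :
    wt (sX X) (A.map (prX X)) * Nat.card ↥(A ⊓ cX X) =
      Nat.card A * Nat.card ↥(vX X ⊓ centralizer (A : Set X)) := by
  rw [wt, card_fix_map, mul_right_comm]
  congr 1
  have h4 := ((A ⊓ cX X).subgroupOf A).index_mul_card
  have e : ((prX X).comp A.subtype).ker = (A ⊓ cX X).subgroupOf A := by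
    ext a
    rw [MonoidHom.mem_ker, mem_subgroupOf]
    exact ⟨fun ha => ⟨a.2, (QuotientGroup.eq_one_iff (a : X)).mp ha⟩,
      fun ha => (QuotientGroup.eq_one_iff (a : X)).mpr ha.2⟩
  have h5 : ((prX X).comp A.subtype).ker.index = Nat.card ((prX X).comp A.subtype).range :=
    index_ker _
  rw [e, MonoidHom.range_comp, A.range_subtype] at h5
  rw [h5, Nat.card_congr (subgroupOfEquivOfLe (inf_le_left : A ⊓ cX X ≤ A)).toEquiv] at h4
  exact h4

variable {𝒞 : Set (Subgroup (qX X) × Subgroup (qX X))}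
  (hO : OCfg (sX X) h.sylQ (M.map (prX X)) 𝒞)
include hO

/-- The image of a largest elementary abelian subgroup and its replacement in `O₃`. -/
theorem maxEA_spec {A : Subgroup X} (hA : A ∈ PLocal.maxEAIn 3 S) :
    (∃ 𝒟 ⊆ 𝒞, A.map (prX X) = rootsJoin 𝒟) ∧
      (A ⊓ cX X) ⊔ vX X ∈ PLocal.maxEAIn 3 S ∧ (A ⊓ cX X) ⊔ vX X ≤ pCore 3 X := by
  set A₀ := A ⊓ cX X
  have hA₀ : A₀ ≤ pCore 3 X := h.cX_inf_core hA.1
  have hle : A₀ ⊔ vX X ≤ pCore 3 X := sup_le hA₀ h.vX_le_core
  have hel : IsElementaryAbelian 3 (A₀ ⊔ vX X : Subgroup X) :=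
    PLocal.isElementaryAbelian_sup (PLocal.isElementaryAbelian_of_le hA.2.1 inf_le_left)
      (LocalEven50.isElementaryAbelian_omegaOneCenter _) inf_le_right
  have h1 := hA.2.2 _ (hle.trans h.core_le) hel
  have h2 := LocalEven50.card_sup_mul_card_inf_of_coe A₀ (vX X) (mul_normal A₀ (vX X))
  have h6 : Nat.card ↥(A₀ ⊓ vX X) ≤ Nat.card ↥(vX X ⊓ centralizer (A : Set X)) :=
    card_le_of_le (le_inf inf_le_right ((inf_le_left.trans inf_le_left).trans
      (le_centralizer_iff_isMulCommutative.mpr hA.2.1.1)))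
  have hV : Nat.card (Additive (vX X)) = Nat.card (vX X) := Nat.card_congr Additive.toMul
  have h3 := h.wt_map A hA.1
  have hge : Nat.card (Additive (vX X)) ≤ wt (sX X) (A.map (prX X)) := by
    rw [hV]
    refine Nat.le_of_mul_le_mul_left ?_ (Nat.card_pos (α := A₀))
    calc Nat.card A₀ * Nat.card (vX X) = Nat.card ↥(A₀ ⊔ vX X) * Nat.card ↥(A₀ ⊓ vX X) := h2.symm
      _ ≤ Nat.card A * Nat.card ↥(vX X ⊓ centralizer (A : Set X)) := Nat.mul_le_mul h1 h6
      _ = Nat.card A₀ * wt (sX X) (A.map (prX X)) := by rw [← h3, mul_comm]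
  have hAS : A.map (prX X) ≤ (h.sylQ : Subgroup (qX X)) := map_mono hA.1
  have hAE : A.map (prX X) ≤ rootsJoin 𝒞 := hO.cfg.pre.le_join_of_comm hAS
    (fun a ha b hb => by
      obtain ⟨a', ha', rfl⟩ := ha
      obtain ⟨b', hb', rfl⟩ := hb
      rw [← map_mul, ← map_mul, (le_centralizer_iff_isMulCommutative.mpr hA.2.1.1) hb' a' ha'])
    hge
  obtain ⟨hup, hD⟩ := hO.fam.wt_le_of_le hO.inj hAE
  refine ⟨hD hge, ⟨hle.trans h.core_le, hel, fun B hB hBe => ?_⟩, hle⟩
  refine (hA.2.2 B hB hBe).trans ?_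
  rw [hV] at hup
  refine Nat.le_of_mul_le_mul_right ?_ (Nat.card_pos (α := ↥(A₀ ⊓ vX X)))
  calc Nat.card A * Nat.card ↥(A₀ ⊓ vX X)
      ≤ Nat.card A * Nat.card ↥(vX X ⊓ centralizer (A : Set X)) := Nat.mul_le_mul_left _ h6
    _ = wt (sX X) (A.map (prX X)) * Nat.card A₀ := h3.symm
    _ ≤ Nat.card (vX X) * Nat.card A₀ := Nat.mul_le_mul_right _ hup
    _ = _ := by rw [h2, mul_comm]

theorem vX_le_J : vX X ≤ thompsonSubgroupOf 3 S := by
  obtain ⟨A, hA⟩ := PLocal.maxEAIn_nonempty 3 S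
  exact le_sup_right.trans (PLocal.le_thompsonSubgroupOf (h.maxEA_spec hO hA).2.1)

theorem y0_le_core : y0 S ≤ pCore 3 X := by
  obtain ⟨A, hA⟩ := PLocal.maxEAIn_nonempty 3 S
  obtain ⟨-, hA', hQ⟩ := h.maxEA_spec hO hA
  set A' := (A ⊓ cX X) ⊔ vX X
  have hel : IsElementaryAbelian 3 (A' ⊔ y0 S : Subgroup X) :=
    PLocal.isElementaryAbelian_sup hA'.2.1 (y0_elem S)
      (le_centralizer_iff.mp ((y0_le_centralizer S).trans
        (centralizer_le (PLocal.le_thompsonSubgroupOf hA'))))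
  have e : A' = A' ⊔ y0 S := eq_of_le_of_card_ge le_sup_left
    (hA'.2.2 _ (sup_le hA'.1 ((y0_le_bS S).trans (bS_le S))) hel)
  exact (le_sup_right.trans e.ge).trans hQ

/-- The image of `J(S)` is the join of the roots. -/
theorem map_J (hJ : ¬ thompsonSubgroupOf 3 S ≤ pCore 3 X) :
    (thompsonSubgroupOf 3 S).map (prX X) = rootsJoin 𝒞 := by
  set Jb := (thompsonSubgroupOf 3 S).map (prX X) with hJb
  have hle : Jb ≤ rootsJoin 𝒞 := by
    rw [hJb, PLocal.thompsonSubgroupOf_eq, sSup_eq_iSup, Subgroup.map_iSup]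
    refine iSup_le fun A => ?_
    rw [Subgroup.map_iSup]
    refine iSup_le fun hA => ?_
    obtain ⟨𝒟, h𝒟, e⟩ := (h.maxEA_spec hO hA).1
    rw [e]
    exact iSup_le fun c => hO.root_le_roots ⟨c.1, h𝒟 c.2⟩
  refine le_antisymm hle (iSup_le fun d => ?_)
  -- some root lies in the image
  obtain ⟨c, hc, hcJ⟩ : ∃ c ∈ 𝒞, c.1 ≤ Jb := by
    by_contra hno
    push Not at hno
    refine hJ ?_
    rw [PLocal.thompsonSubgroupOf_eq]
    refine sSup_le fun A hA => ?_
    obtain ⟨𝒟, h𝒟, e⟩ := (h.maxEA_spec hO hA).1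
    have hAJ : A.map (prX X) ≤ Jb := map_mono (PLocal.le_thompsonSubgroupOf hA)
    intro a ha
    have h1 : prX X a ∈ rootsJoin 𝒟 := e ▸ mem_map_of_mem _ ha
    have h2 : rootsJoin 𝒟 = ⊥ := eq_bot_iff.mpr (iSup_le fun c => absurd
      (((le_iSup (fun c : 𝒟 => rt c.1) c).trans e.ge).trans hAJ) (hno c.1 (h𝒟 c.2)))
    rw [h2, mem_bot] at h1
    exact h.cX_inf_core le_rfl ⟨hA.1 ha, (QuotientGroup.eq_one_iff a).mp h1⟩
  obtain ⟨t, ht, e, -⟩ := hO.cfg.trans c hc d.1 d.2
  show d.1.1 ≤ Jb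
  rw [← e]
  refine (FFCells.cj_mono hcJ).trans (le_of_eq ?_)
  obtain ⟨s, hs, rfl⟩ : ∃ s ∈ S, prX X s = t := ht
  have hs' : (thompsonSubgroupOf 3 S).map (MulAut.conj s).toMonoidHom = thompsonSubgroupOf 3 S :=
    mem_norm.mp
      ((PLocal.normalizer_le_normalizer_thompsonSubgroupOf 3 S) (le_normalizer hs))
  conv_rhs => rw [hJb, ← hs', Subgroup.map_map]
  rw [hJb, FFCells.cj, Subgroup.map_map]
  congr 1

theorem mem_fix_roots (hJ : ¬ thompsonSubgroupOf 3 S ≤ pCore 3 X) {v : vX X} :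
    Additive.ofMul v ∈ fix (sX X) (rootsJoin 𝒞) ↔ (v : X) ∈ y0 S := by
  rw [← h.map_J hO hJ, mem_fix_map]
  exact ⟨fun h1 => mem_y0 (h.vX_le_S v.2) (mem_centralizer_iff.mpr fun a ha => (h1 a ha).eq)
      ((LocalEven50.isElementaryAbelian_omegaOneCenter _).2 _ v.2),
    fun h1 a ha => mem_centralizer_iff.mp (y0_le_centralizer S h1) a ha⟩

/-- `Ω₁Z(J(S)) V` is normal. -/
theorem w1_normal (hJ : ¬ thompsonSubgroupOf 3 S ≤ pCore 3 X) : (y0 S ⊔ vX X).Normal := by
  set W₀ := omegaOne 3 (centerThompsonOf 3 (pCore 3 X))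
  have hW₀n : W₀.Normal := by
    refine normalizer_eq_top_iff.mp (eq_top_iff.mpr fun g _ => ?_)
    rw [mem_norm]
    have hf : Function.Injective (MulAut.conj g).toMonoidHom := (MulAut.conj g).injective
    have hQ : (pCore 3 X).map (MulAut.conj g).toMonoidHom = pCore 3 X :=
      mem_norm.mp (by rw [normalizer_eq_top]; trivial)
    show (omegaOne 3 (centerThompsonOf 3 (pCore 3 X))).map _ = _
    rw [PLocal.map_omegaOne hf]
    show omegaOne 3 ((thompsonSubgroupOf 3 (pCore 3 X) ⊓ _).map _) = _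
    rw [PLocal.map_inf_centralizer hf, PLocal.map_thompsonSubgroupOf hf, hQ]
    rfl
  obtain ⟨A₁, hA₁⟩ := PLocal.maxEAIn_nonempty 3 S
  obtain ⟨-, hA₁', hA₁Q⟩ := h.maxEA_spec hO hA₁
  have heq := PLocal.maxEAIn_of_le h.core_le hA₁' hA₁Q
  have hJQ : thompsonSubgroupOf 3 (pCore 3 X) ≤ thompsonSubgroupOf 3 S := by
    rw [PLocal.thompsonSubgroupOf_eq, heq]
    exact sSup_le fun B hB => PLocal.le_thompsonSubgroupOf hB.1
  have hmem : ∀ A' ∈ PLocal.maxEAIn 3 S, A' ≤ pCore 3 X →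
      A' ≤ thompsonSubgroupOf 3 (pCore 3 X) := fun A' hA' hQ =>
    PLocal.le_thompsonSubgroupOf (by rw [heq]; exact ⟨hA', hQ⟩)
  have hy : y0 S ≤ W₀ := fun y hy => mem_y0 (h.y0_le_core hO hy)
    (centralizer_le hJQ (y0_le_centralizer S hy)) ((y0_elem S).2 y hy)
  have hV : vX X ≤ W₀ := fun v hv => mem_y0 (h.vX_le_core hv)
    (centralizer_le (J_le_S _) (LocalEven50.omegaOneCenter_le_centralizer _ hv))
    ((LocalEven50.isElementaryAbelian_omegaOneCenter _).2 v hv)
  haveI := hW₀n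
  -- the kernel of the action on `W₀ / V`
  let N : Subgroup X :=
    { carrier := {x | ∀ w ∈ W₀, w⁻¹ * (x * w * x⁻¹) ∈ vX X}
      one_mem' := fun w _ => by simp
      mul_mem' := fun {x y} hx hy w hw => by
        have h1 := hx _ (hW₀n.conj_mem w hw y)
        have h2 := hy w hw
        have := mul_mem h2 h1
        simpa [mul_assoc] using this
      inv_mem' := fun {x} hx w hw => by
        have h1 := hx _ (hW₀n.conj_mem w hw x⁻¹)
        have := inv_mem h1
        simpa [mul_assoc] using this }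
  haveI hNn : N.Normal := ⟨fun x hx g w hw => by
    have h1 := hx _ (hW₀n.conj_mem w hw g⁻¹)
    have := (vX_normal X).conj_mem _ h1 g
    simpa [mul_assoc] using this⟩
  have hJN : thompsonSubgroupOf 3 S ≤ N := by
    rw [PLocal.thompsonSubgroupOf_eq]
    refine sSup_le fun A hA a ha w hw => ?_
    obtain ⟨-, hA', hA'Q⟩ := h.maxEA_spec hO hA
    have hwc : w ∈ centralizer (thompsonSubgroupOf 3 (pCore 3 X) : Set X) := y0_le_centralizer _ hw
    have hwQ : w ∈ pCore 3 X := (y0_le_bS _).trans (bS_le _) hw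
    have hel : IsElementaryAbelian 3 ((A ⊓ cX X ⊔ vX X) ⊔ zpowers w : Subgroup X) :=
      PLocal.isElementaryAbelian_sup hA'.2.1
        (PLocal.isElementaryAbelian_zpowers ((y0_elem _).2 w hw))
        (le_centralizer_iff.mp (zpowers_le.mpr (centralizer_le (hmem _ hA' hA'Q) hwc)))
    have e : A ⊓ cX X ⊔ vX X = (A ⊓ cX X ⊔ vX X) ⊔ zpowers w := eq_of_le_of_card_ge le_sup_left
      (hA'.2.2 _ (sup_le hA'.1 (zpowers_le.mpr (h.core_le hwQ))) hel)
    have hwA : w ∈ ((A ⊓ cX X ⊔ vX X : Subgroup X) : Set X) :=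
      e.ge (mem_sup_right (mem_zpowers w))
    rw [mul_normal] at hwA
    obtain ⟨a₀, ha₀, v, hv, rfl⟩ := hwA
    have hc : a * a₀ = a₀ * a := (le_centralizer_iff_isMulCommutative.mpr hA.2.1.1 ha) a₀ ha₀.1 |>.symm
    have e2 : (a₀ * v)⁻¹ * (a * (a₀ * v) * a⁻¹) = v⁻¹ * (a * v * a⁻¹) := by
      rw [← mul_assoc a a₀ v, hc]; group
    show (a₀ * v)⁻¹ * (a * (a₀ * v) * a⁻¹) ∈ vX X
    rw [e2]
    exact mul_mem (inv_mem hv) ((vX_normal X).conj_mem v hv a)
  have htop : N ⊔ S = ⊤ := h.sup_eq_top fun hle => hJ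
    ((le_inf (J_le_S S) hJN).trans hle)
  refine normalizer_eq_top_iff.mp (top_le_iff.mp (htop.ge.trans (sup_le ?_ ?_)))
  · intro x hx
    refine FFCells.mem_normalizer_of_cj_le ?_
    rw [FFCells.cj, Subgroup.map_sup]
    refine sup_le ?_ (le_sup_of_le_right fun _ ⟨v, hv, e⟩ => e ▸ (vX_normal X).conj_mem v hv x)
    rintro _ ⟨w, hw, rfl⟩
    show x * w * x⁻¹ ∈ _
    simpa using mul_mem (mem_sup_left hw (T := vX X)) (mem_sup_right (hx w (hy hw)) (S := y0 S))
  · intro s hs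
    refine FFCells.mem_normalizer_of_cj_le ?_
    rw [FFCells.cj, Subgroup.map_sup]
    refine sup_le ?_ (le_sup_of_le_right fun _ ⟨v, hv, e⟩ => e ▸ (vX_normal X).conj_mem v hv s)
    exact le_sup_of_le_left (mem_norm.mp (le_normalizer_y0 S hs)).le

/-- The image of the Baumann subgroup is the join of the roots. -/
theorem map_bS (hJ : ¬ thompsonSubgroupOf 3 S ≤ pCore 3 X) :
    (bS S).map (prX X) = rootsJoin 𝒞 := by
  refine le_antisymm ?_ ((h.map_J hO hJ).ge.trans (map_mono (J_le_bS S)))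
  rintro _ ⟨b, hb, rfl⟩
  refine hO.cfg.pre.mem_join_of_line (mem_map_of_mem _ hb.1) fun v hv => ?_
  have h1 : (Additive.toMul v : vX X).1 ∈ y0 S := (h.mem_fix_roots hO hJ).mp hv
  have h2 : sX X (prX X b) v = v :=
    sX_fix.mpr (mem_centralizer_iff.mp hb.2 _ h1).symm
  rw [h2, sub_self]
  exact zero_mem _

theorem bS_inf_cX (hJ : ¬ thompsonSubgroupOf 3 S ≤ pCore 3 X) :
    bS S ⊓ cX X = pCore 3 X ⊓ centralizer ((y0 S ⊔ vX X : Subgroup X) : Set X) := by
  apply le_antisymm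
  · refine le_inf (h.cX_inf_core inf_le_left) (le_centralizer_iff.mp (sup_le ?_ ?_))
    · exact le_centralizer_iff.mp (inf_le_left.trans (bS_le_centralizer S))
    · exact le_centralizer_iff.mp inf_le_right
  · exact le_inf (le_inf (inf_le_left.trans h.core_le)
      (inf_le_right.trans (centralizer_le (le_sup_left (a := y0 S)))))
      (inf_le_right.trans (centralizer_le (le_sup_right (b := vX X))))

theorem bS_inf_core (hJ : ¬ thompsonSubgroupOf 3 S ≤ pCore 3 X) :
    pCore 3 X ⊓ bS S = bS S ⊓ cX X :=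
  le_antisymm (le_inf inf_le_right (inf_le_left.trans h.core_le_cX))
    (le_inf (h.cX_inf_core inf_le_left) inf_le_left)

theorem w_normal (hJ : ¬ thompsonSubgroupOf 3 S ≤ pCore 3 X) :
    (pCore 3 X ⊓ bS S).Normal := by
  rw [h.bS_inf_core hO hJ, h.bS_inf_cX hO hJ]
  haveI := h.w1_normal hO hJ
  exact Subgroup.normal_inf_normal _ _

end Hyp

end CfsgLib.Yoshida49
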