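import Cfsg.Agent.Yoshida49.Layer
import Mathlib.GroupTheory.PGroup
import Mathlib.GroupTheory.Nilpotent

/-!
# The braid relation for conjugates of a quadratic element of order three

If `x` of order `3` acts quadratically on a section of odd order and normalises the `2`-group `P`,
then `x` and its conjugates under `P` satisfy the braid relation on the section.
-/

set_option autoImplicit false
set_option linter.unusedSectionVars false

namespace CfsgLib.Yoshida49

open Subgroup
open scoped commutatorElement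

section Involutions

variable {M : Type*} [AddCommGroup M]

/-- Three commuting involutions permuted cyclically by a quadratic map are equal. -/
theorem eq_of_quadratic_cycle (h2 : ∀ m : M, m + m = 0 → m = 0) (X a b c : M →+ M)
    (hq : ∀ m, X (X m) = X m + X m - m) (ha : ∀ m, a (a m) = m) (hb : ∀ m, b (b m) = m)
    (hab : ∀ m, a (b m) = b (a m)) (hXa : ∀ m, X (a m) = b (X m)) (hXb : ∀ m, X (b m) = c (X m))
    (hXc : ∀ m, X (c m) = a (X m)) (m : M) : a m = b m := by
  have h1 : ∀ v, a v = -v → b v = v → v = 0 := by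
    intro v hav hbv
    have e1 : b (X v) = -X v := by rw [← hXa, hav, map_neg]
    have e2 : a (X (X v)) = X (X v) := by rw [← hXc, ← hXb, hbv]
    rw [hq, map_sub, map_add, hav] at e2
    have e3 : X v - a (X v) = v := by
      rw [← sub_eq_zero]
      refine h2 _ ?_
      rw [← sub_eq_zero] at e2
      rw [← neg_eq_zero, ← e2]; abel
    have e4 := congrArg b e3
    rw [map_sub, ← hab, e1, map_neg, hbv] at e4
    refine h2 v ?_
    calc v + v = (X v - a (X v)) + (-X v - -a (X v)) := by rw [e3, e4]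
      _ = 0 := by abel
  have h1' : ∀ v, a v = v → b v = -v → v = 0 := by
    intro v hav hbv
    have e1 : b (X v) = X v := by rw [← hXa, hav]
    have e2 : a (X (X v)) = -X (X v) := by rw [← hXc, ← hXb, hbv, map_neg, map_neg]
    rw [hq, map_sub, map_add, hav] at e2
    have e3 : X v + a (X v) = v := by
      rw [← sub_eq_zero]
      refine h2 _ ?_
      rw [← sub_eq_zero] at e2
      rw [← e2]; abel
    have e4 := congrArg b e3
    rw [map_add, ← hab, e1, hbv, e3] at e4
    exact h2 v (eq_neg_iff_add_eq_zero.mp e4)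
  have p1 := h1 ((m - a m) + b (m - a m))
    (by simp only [map_add, map_sub, hab, ha]; abel)
    (by simp only [map_add, map_sub, hb]; abel)
  have p2 := h1' ((m + a m) - b (m + a m))
    (by simp only [map_add, map_sub, hab, ha]; abel)
    (by simp only [map_add, map_sub, hb]; abel)
  rw [← sub_eq_zero]
  refine h2 _ ?_
  calc (a m - b m) + (a m - b m)
      = ((m + a m) - b (m + a m)) - ((m - a m) + b (m - a m)) := by
        simp only [map_add, map_sub]; abel
    _ = 0 := by rw [p1, p2, sub_zero]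

end Involutions

section TwoGroup

variable {U : Type*} [Group U]

theorem commutator_pow_left {a b : U} (hc : Commute a ⁅a, b⁆) :
    ∀ m : ℕ, ⁅a ^ m, b⁆ = ⁅a, b⁆ ^ m
  | 0 => by simp
  | m + 1 => by
    rw [pow_succ', show ⁅a * a ^ m, b⁆ = a * ⁅a ^ m, b⁆ * a⁻¹ * ⁅a, b⁆ by
      simp only [commutatorElement_def]; group, commutator_pow_left hc m,
      ((hc.pow_right m).eq), mul_inv_cancel_right, ← pow_succ]

/-- The braid relation, from the absence of moved abelian normal subgroups. -/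
theorem braid_of_fixes {P : Subgroup U} [Finite P] (hP : IsPGroup 2 P) {x : U}
    (hx : x ^ 3 = 1) (hxP : x ∈ normalizer (P : Set U))
    (hN : ∀ N : Subgroup U, N ≤ P → ⁅N, N⁆ = ⊥ → x ∈ normalizer (N : Set U) →
      P ≤ normalizer (N : Set U) → ∀ n ∈ N, Commute x n)
    {a : U} (ha : a ∈ P) :
    x * (a * x * a⁻¹) * x = (a * x * a⁻¹) * x * (a * x * a⁻¹) := by
  have hσ : ∀ g ∈ P, x * g * x⁻¹ ∈ P := fun g hg => (mem_normalizer_iff.mp hxP g).mp hg
  -- `D = [P, x]`
  let sD : Set U := {d | ∃ g ∈ P, d = g * (x * g⁻¹ * x⁻¹)}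
  set D := Subgroup.closure sD with hD
  have hDP : D ≤ P := (closure_le _).mpr (by
    rintro _ ⟨g, hg, rfl⟩; exact mul_mem hg (hσ _ (inv_mem hg)))
  have hPD : P ≤ normalizer (D : Set U) := by
    intro g hg
    refine mem_normalizer_iff.mpr fun y => ?_
    have key : ∀ g ∈ P, ∀ y ∈ D, g * y * g⁻¹ ∈ D := by
      intro g hg y hy
      refine (show D ≤ D.comap (MulAut.conj g).toMonoidHom from (closure_le _).mpr ?_) hy
      rintro _ ⟨k, hk, rfl⟩
      show g * (k * (x * k⁻¹ * x⁻¹)) * g⁻¹ ∈ D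
      rw [show g * (k * (x * k⁻¹ * x⁻¹)) * g⁻¹ =
        (g * k) * (x * (g * k)⁻¹ * x⁻¹) * (g * (x * g⁻¹ * x⁻¹))⁻¹ by group]
      exact mul_mem (subset_closure ⟨g * k, mul_mem hg hk, rfl⟩)
        (inv_mem (subset_closure ⟨g, hg, rfl⟩))
    exact ⟨key g hg y, fun h => by
      have := key g⁻¹ (inv_mem hg) _ h
      simpa [mul_assoc] using this⟩
  have hxD : x ∈ normalizer (D : Set U) := by
    have key : ∀ y ∈ D, x * y * x⁻¹ ∈ D := by
      intro y hy
      refine (show D ≤ D.comap (MulAut.conj x).toMonoidHom from (closure_le _).mpr ?_) hy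
      rintro _ ⟨k, hk, rfl⟩
      exact subset_closure ⟨x * k * x⁻¹, hσ k hk, by simp [mul_assoc]⟩
    refine mem_normalizer_iff.mpr fun y => ⟨key y, fun h => ?_⟩
    have h2 := key _ (key _ h)
    have e3 : x * x * x = 1 := by rw [← hx]; simp [pow_succ, mul_assoc]
    have : x * (x * (x * y * x⁻¹) * x⁻¹) * x⁻¹ = y := by
      calc _ = (x * x * x) * y * (x * x * x)⁻¹ := by group
        _ = y := by rw [e3]; group
    rwa [this] at h2
  -- abelian normal subgroups are central in `D`
  have hcent : ∀ N : Subgroup U, N ≤ P → ⁅N, N⁆ = ⊥ → x ∈ normalizer (N : Set U) →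
      P ≤ normalizer (N : Set U) → ∀ n ∈ N, ∀ d ∈ D, Commute d n := by
    intro N h1 h2 h3 h4 n hn d hd
    have hle : D ≤ centralizer ({n} : Set U) := (closure_le _).mpr (by
      rintro _ ⟨g, hg, rfl⟩
      have hgn : g⁻¹ * n * g ∈ N := (mem_normalizer_iff''.mp (h4 hg) n).mp hn
      have c1 := hN N h1 h2 h3 h4 _ hgn
      have c2 : Commute (g * x * g⁻¹) n := by
        have := c1.map (MulAut.conj g).toMonoidHom
        simpa [mul_assoc] using this
      have c3 : Commute (g * x * g⁻¹ * x⁻¹) n :=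
        c2.mul_left (hN N h1 h2 h3 h4 n hn).inv_left
      show g * (x * g⁻¹ * x⁻¹) ∈ centralizer ({n} : Set U)
      rw [mem_centralizer_singleton_iff, show g * (x * g⁻¹ * x⁻¹) = g * x * g⁻¹ * x⁻¹ by group]
      exact c3.eq)
    exact mem_centralizer_singleton_iff.mp (hle hd)
  -- class two
  have hnorm : ∀ {A B : Subgroup U} {H : Subgroup U}, H ≤ normalizer (A : Set U) →
      H ≤ normalizer (B : Set U) → H ≤ normalizer ((⁅A, B⁆ : Subgroup U) : Set U) := by
    intro A B H hA hB h hh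
    rw [mem_normalizer_iff_map_conj_eq]
    rw [map_commutator, mem_normalizer_iff_map_conj_eq.mp (hA hh),
      mem_normalizer_iff_map_conj_eq.mp (hB hh)]
  have hc2 : ⁅⁅D, D⁆, D⁆ = ⊥ := by
    have : Finite ↥D :=
      Finite.of_injective (Subgroup.inclusion hDP) (Subgroup.inclusion_injective hDP)
    have : Group.IsNilpotent ↥D := IsPGroup.isNilpotent (hP.to_le hDP)
    let C : ℕ → Subgroup U := fun i => (fun X => ⁅X, D⁆)^[i] D
    have hC : ∀ i, C (i + 1) = ⁅C i, D⁆ := fun i => Function.iterate_succ_apply' _ i D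
    have hCD : ∀ i, C i ≤ D := by
      intro i; induction i with
      | zero => exact le_rfl
      | succ i ih => rw [hC]; exact (commutator_mono ih le_rfl).trans (commutator_le_self _)
    have hCe : ∀ i, C i = D.lowerCentralSeries i := by
      intro i; induction i with
      | zero => exact (Subgroup.lowerCentralSeries_zero D).symm
      | succ i ih => rw [hC, Subgroup.lowerCentralSeries_succ, ih]
    obtain ⟨m, hm⟩ : ∃ m, C m = ⊥ := by
      obtain ⟨m, hm⟩ := (isNilpotent_iff_lowerCentralSeries (S := D)).mp ‹_›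
      exact ⟨m, by rw [hCe]; exact hm⟩
    have hCn : ∀ i, P ≤ normalizer (C i : Set U) ∧ x ∈ normalizer (C i : Set U) := by
      intro i; induction i with
      | zero => exact ⟨hPD, hxD⟩
      | succ i ih =>
        rw [hC]
        exact ⟨hnorm ih.1 hPD,
          zpowers_le.mp (hnorm (zpowers_le.mpr ih.2) (zpowers_le.mpr hxD))⟩
    have hdesc : ∀ j, C (j + 3) = ⊥ → C (j + 2) = ⊥ := by
      intro j hj
      have hle : C (j + 1) ≤ ⁅D, D⁆ := by
        rw [hC j]; exact commutator_mono (hCD j) le_rfl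
      have hab : ⁅C (j + 1), C (j + 1)⁆ = ⊥ := by
        refine le_bot_iff.mp ((commutator_mono hle le_rfl).trans ?_)
        have hj' : ⁅⁅C (j + 1), D⁆, D⁆ = ⊥ := by rw [← hC, ← hC]; exact hj
        exact (Subgroup.commutator_commutator_eq_bot_of_rotate
          (by rw [commutator_comm D (C (j + 1))]; exact hj') hj').le
      rw [hC (j + 1)]
      refine le_bot_iff.mp (commutator_le.mpr fun n hn d hd => mem_bot.mpr ?_)
      exact commutatorElement_eq_one_iff_commute.mpr
        (hcent _ ((hCD _).trans hDP) hab (hCn _).2 (hCn _).1 n hn d hd).symm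
    have h2 : ∀ m, C (m + 2) = ⊥ → C 2 = ⊥ := by
      intro m; induction m with
      | zero => exact id
      | succ m ih => exact fun h => ih (hdesc m h)
    have hm2 : C (m + 2) = ⊥ := by
      rw [hC, hC, hm]; simp
    have := h2 m hm2
    rwa [hC, hC] at this
  have hcz : ∀ a ∈ D, ∀ b ∈ D, ∀ d ∈ D, Commute d ⁅a, b⁆ := fun a ha b hb d hd =>
    (commutatorElement_eq_one_iff_commute.mp (mem_bot.mp
      (hc2.le (commutator_mem_commutator (commutator_mem_commutator ha hb) hd)))).symm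
  have hpow : ∀ a ∈ D, ∀ b ∈ D, ∀ m : ℕ, ⁅a ^ m, b⁆ = ⁅a, b⁆ ^ m := fun a ha b hb m =>
    commutator_pow_left (hcz a ha b hb a ha) m
  have hpow' : ∀ a ∈ D, ∀ b ∈ D, ∀ m : ℕ, ⁅a, b ^ m⁆ = ⁅a, b⁆ ^ m := fun a ha b hb m => by
    rw [← commutatorElement_inv, hpow b hb a ha, ← commutatorElement_inv a b, inv_pow, inv_inv]
  -- the powers `a ^ 2 ^ k` generate a subgroup normalised by `P` and `x`
  have hpowN : ∀ k : ℕ, (∀ a ∈ D, ∀ b ∈ D, ⁅a ^ 2 ^ k, b ^ 2 ^ k⁆ = 1) →
      ∀ a ∈ D, (∀ d ∈ D, Commute d (a ^ 2 ^ k)) ∧ Commute x (a ^ 2 ^ k) := by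
    intro k hk a ha
    set N := Subgroup.closure {y : U | ∃ d ∈ D, y = d ^ 2 ^ k}
    have hNP : N ≤ P := (closure_le _).mpr (by
      rintro _ ⟨d, hd, rfl⟩; exact pow_mem (hDP hd) _)
    have hNab : ⁅N, N⁆ = ⊥ := by
      rw [commutator_eq_bot_iff_le_centralizer]
      refine (closure_le _).mpr ?_
      rintro _ ⟨d, hd, rfl⟩
      rw [SetLike.mem_coe, centralizer_closure, mem_centralizer_iff]
      rintro _ ⟨e, he, rfl⟩
      exact commutatorElement_eq_one_iff_commute.mp (hk e he d hd)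
    have hn : ∀ g, g ∈ normalizer (D : Set U) → g ∈ normalizer (N : Set U) := by
      have key : ∀ g, g ∈ normalizer (D : Set U) → ∀ y ∈ N, g * y * g⁻¹ ∈ N := by
        intro g hg y hy
        refine (show N ≤ N.comap (MulAut.conj g).toMonoidHom from (closure_le _).mpr ?_) hy
        rintro _ ⟨d, hd, rfl⟩
        exact subset_closure ⟨g * d * g⁻¹, (mem_normalizer_iff.mp hg d).mp hd, by simp [conj_pow]⟩
      exact fun g hg => mem_normalizer_iff.mpr fun y => ⟨key g hg y, fun h => by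
        have := key g⁻¹ (inv_mem hg) _ h
        simpa [mul_assoc] using this⟩
    have haN : a ^ 2 ^ k ∈ N := subset_closure ⟨a, ha, rfl⟩
    exact ⟨fun d hd => hcent N hNP hNab (hn x hxD) (fun g hg => hn g (hPD hg)) _ haN d hd,
      hN N hNP hNab (hn x hxD) (fun g hg => hn g (hPD hg)) _ haN⟩
  have hz2 : ∀ a ∈ D, ∀ b ∈ D, ⁅a, b⁆ ^ 2 = 1 := by
    have hstep : ∀ k, 1 ≤ k → (∀ a ∈ D, ∀ b ∈ D, ⁅a, b⁆ ^ 2 ^ (k + 1) = 1) →
        ∀ a ∈ D, ∀ b ∈ D, ⁅a, b⁆ ^ 2 ^ k = 1 := by
      intro k hk hyp a ha b hb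
      rw [← hpow a ha b hb]
      refine commutatorElement_eq_one_iff_commute.mpr ((hpowN k (fun c hc d hd => ?_) a ha).1 b hb).symm
      rw [hpow c hc _ (pow_mem hd _), hpow' c hc d hd, ← pow_mul, ← pow_add]
      obtain ⟨j, hj⟩ : ∃ j, k + k = (k + 1) + j := ⟨k - 1, by omega⟩
      rw [hj, pow_add, pow_mul, hyp c hc d hd, one_pow]
    obtain ⟨K, hK⟩ := IsPGroup.iff_card.mp hP
    have hbase : ∀ a ∈ D, ∀ b ∈ D, ⁅a, b⁆ ^ 2 ^ (K + 1) = 1 := fun a ha b hb => by
      have hm : ⁅a, b⁆ ∈ P := hDP ((commutator_le_self D) (commutator_mem_commutator ha hb))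
      have h1 : (⟨_, hm⟩ : P) ^ Nat.card P = 1 := pow_card_eq_one'
      have h2 : ⁅a, b⁆ ^ 2 ^ K = 1 := by rw [← hK]; exact congrArg Subtype.val h1
      rw [pow_succ, pow_mul, h2, one_pow]
    have : ∀ j, j ≤ K → ∀ a ∈ D, ∀ b ∈ D, ⁅a, b⁆ ^ 2 ^ (K + 1 - j) = 1 := by
      intro j; induction j with
      | zero => exact fun _ => hbase
      | succ j ih =>
        intro hj
        refine hstep _ (by omega) ?_
        rw [show K + 1 - (j + 1) + 1 = K + 1 - j by omega]
        exact ih (by omega)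
    intro a ha b hb
    have := this K le_rfl a ha b hb
    simpa using this
  have hsq : ∀ a ∈ D, (∀ d ∈ D, Commute d (a ^ 2)) ∧ Commute x (a ^ 2) := fun a ha => by
    have := hpowN 1 (fun c hc d hd => by
      rw [hpow c hc _ (pow_mem hd _), hpow' c hc d hd]; simp [hz2 c hc d hd]) a ha
    simpa using this
  -- the identity
  set n := a * (x * a⁻¹ * x⁻¹) with hn
  have hnD : n ∈ D := subset_closure ⟨a, ha, rfl⟩
  set b := x * n * x⁻¹ with hb
  set c := x * b * x⁻¹ with hc
  have hbD : b ∈ D := (mem_normalizer_iff.mp hxD n).mp hnD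
  have hcD : c ∈ D := (mem_normalizer_iff.mp hxD b).mp hbD
  have e3 : x * x * x = 1 := by rw [← hx]; simp [pow_succ, mul_assoc]
  have hx' : a * x * a⁻¹ = n * x := by rw [hn]; group
  have hnbc : n * b * c = 1 := by
    have h1 : (a * x * a⁻¹) * (a * x * a⁻¹) * (a * x * a⁻¹) = 1 := by
      calc _ = a * (x * x * x) * a⁻¹ := by group
        _ = 1 := by rw [e3]; group
    rw [hx'] at h1
    calc n * b * c = (n * x * (n * x) * (n * x)) * (x * x * x)⁻¹ := by rw [hc, hb]; group
      _ = 1 := by rw [h1, e3]; group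
  set s := n ^ 2 with hs
  have hbs : b ^ 2 = s := by
    rw [hb, conj_pow, (hsq n hnD).2.eq, mul_inv_cancel_right]
  have hcs : c ^ 2 = s := by
    rw [hc, conj_pow, hbs, (hsq n hnD).2.eq, mul_inv_cancel_right]
  have hsc : ∀ d ∈ D, Commute d s := (hsq n hnD).1
  set z := ⁅b, n⁆
  have hzc : ∀ d ∈ D, Commute d z := hcz b hbD n hnD
  have hz : z * z = 1 := by rw [← pow_two]; exact hz2 b hbD n hnD
  have hsD : s ∈ D := pow_mem hnD 2
  have hs2 : s * s = 1 := by
    have e1 : n * b * (n * b) = s * s * z := by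
      calc n * b * (n * b) = n * (z * n) * (b * b) := by
            simp only [z, commutatorElement_def]; group
        _ = s * z * s := by rw [← (hzc n hnD).eq, ← pow_two b, hbs, hs, pow_two]; group
        _ = s * s * z := by rw [mul_assoc, ← (hzc s hsD).eq, mul_assoc]
    have e2 : n * b = c⁻¹ := mul_eq_one_iff_eq_inv.mp hnbc
    have e4 : c⁻¹ * c⁻¹ = s⁻¹ := by rw [← hcs, pow_two]; group
    rw [e2, e4] at e1
    have e5 : s * (s * s * z) = 1 := by rw [← e1]; group
    have e6 : s ^ 6 = 1 := by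
      have h1 : z = (s * s * s)⁻¹ := eq_inv_of_mul_eq_one_right (by rw [← e5]; group)
      rw [h1] at hz
      have h2 : (s * s * s) * (s * s * s) = 1 := by
        have := congrArg (fun t => (s * s * s) * (s * s * s) * t) hz
        simp only [mul_one] at this
        rw [← this]; group
      rw [← h2]; simp [pow_succ, mul_assoc]
    obtain ⟨k, hk⟩ := hP ⟨s, hDP hsD⟩
    have hk' : s ^ 2 ^ k = 1 := congrArg Subtype.val hk
    have hdvd : orderOf s ∣ Nat.gcd 6 (2 ^ k) :=
      Nat.dvd_gcd (orderOf_dvd_of_pow_eq_one e6) (orderOf_dvd_of_pow_eq_one hk')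
    have hg : Nat.gcd 6 (2 ^ k) ∣ 2 := by
      rw [show 6 = 2 * 3 from rfl]
      exact (Nat.Coprime.gcd_mul_right_cancel 2
        (Nat.Coprime.pow_right k (by norm_num : Nat.Coprime 3 2))).symm ▸ Nat.gcd_dvd_left _ _
    rw [← pow_two]
    exact orderOf_dvd_iff_pow_eq_one.mp (hdvd.trans hg)
  have hb_eq : b = n * c := by
    have e2 : b = n⁻¹ * c⁻¹ := by
      calc b = n⁻¹ * (n * b * c) * c⁻¹ := by group
        _ = _ := by rw [hnbc, mul_one]
    have e4 : n⁻¹ = n * s⁻¹ := by rw [hs, pow_two]; group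
    have e5 : c⁻¹ = c * s⁻¹ := by rw [← hcs, pow_two]; group
    rw [e2, e4, e5, mul_assoc, ← mul_assoc s⁻¹ c, ← (hsc c hcD).inv_right.eq, mul_assoc c,
      ← mul_inv_rev, hs2, inv_one, mul_one]
  rw [hx']
  calc x * (n * x) * x = b * (x * x * x) := by rw [hb]; group
    _ = n * c * (x * x * x) := by rw [hb_eq]
    _ = n * (x * x * n * (x * x)⁻¹) * (x * x * x) := by rw [hc, hb]; group
    _ = n * x * x * (n * x) := by group

end TwoGroup

variable {G : Type*} [Group G] [Finite G]

/-- The braid relation on a section of odd order. -/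
theorem braid_section {R P T W W' : Subgroup G} [R.Normal] [P.Normal] [W.Normal] [W'.Normal]
    {x : G} (hPR : ∀ y ∈ P, ∃ k, y ^ 2 ^ k ∈ R) (hx3 : x ^ 3 ∈ R) (hT : T ≤ zpowers x ⊔ R)
    (hPT : P ⊔ T = ⊤) (hWW : ⁅W, W⁆ ≤ W') (hWR : ⁅W, R⁆ ≤ W')
    (hodd : ∀ w ∈ W, w * w ∈ W' → w ∈ W') (hq : ∀ w ∈ W, ⁅⁅w, x⁆, x⁆ ∈ W') (g : G) :
    ∀ w ∈ W, ⁅w, x * (g * x * g⁻¹) * x * ((g * x * g⁻¹) * x * (g * x * g⁻¹))⁻¹⁆ ∈ W' := by
  have h : Pairing R ⊥ ⊥ W W' := ⟨inferInstance, inferInstance, inferInstance, inferInstance,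
    bot_le, bot_le, hWW, hWR, fun c hc u hu => by rw [mem_bot.mp hc]; simp⟩
  obtain ⟨M, _, F, ρ, i, -, -, -, hρm, hρ1, -, hi0, hic, hsur, hiadd⟩ := h.exists_model
  let ρ' : G →* AddMonoid.End M :=
    { toFun := fun g => (ρ g : AddMonoid.End M)
      map_one' := (AddMonoidHom.ext hρ1 : ρ 1 = AddMonoidHom.id M)
      map_mul' := fun a b => (AddMonoidHom.ext (hρm a b) : ρ (a * b) = (ρ a).comp (ρ b)) }
  let Φ : G →* (AddMonoid.End M)ˣ := ρ'.toHomUnits
  have hΦ : ∀ g m, ((Φ g : (AddMonoid.End M)ˣ) : AddMonoid.End M) m = ρ g m := fun g m => rfl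
  have hWc : ∀ w ∈ W, ∀ g : G, ⁅w, g⁆ ∈ W := fun w hw g =>
    commutator_le_left W ⊤ (commutator_mem_commutator hw (mem_top g))
  have hker : ∀ g, Φ g = 1 ↔ ∀ w ∈ W, ⁅w, g⁆ ∈ W' := by
    intro g
    constructor
    · intro e w hw
      refine (hi0 _ (hWc w hw g)).mp ?_
      rw [hic w hw, ← hΦ, e]
      exact sub_self _
    · intro hg
      refine Units.ext (AddMonoidHom.ext fun m => ?_)
      obtain ⟨w, hw, rfl⟩ := hsur m
      have e := (hi0 _ (hWc w hw g)).mpr (hg w hw)
      rw [hic w hw, sub_eq_zero] at e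
      exact e.symm
  have hR : ∀ r ∈ R, Φ r = 1 := fun r hr => (hker r).mpr fun w hw =>
    hWR (commutator_mem_commutator hw hr)
  have h2 : ∀ m : M, m + m = 0 → m = 0 := by
    intro m hm
    obtain ⟨w, hw, rfl⟩ := hsur m
    rw [← hiadd w hw w hw] at hm
    exact (hi0 w hw).mpr (hodd w hw ((hi0 _ (mul_mem hw hw)).mp hm))
  have hquad : ∀ m, ρ x (ρ x m) = ρ x m + ρ x m - m := by
    intro m
    obtain ⟨w, hw, rfl⟩ := hsur m
    have e := (hi0 _ (hWc _ (hWc w hw x) x)).mpr (hq w hw)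
    rw [hic _ (hWc w hw x), hic _ hw, map_sub] at e
    rw [← sub_eq_zero, ← e]; abel
  set P' := P.map Φ with hP'
  set X := Φ x with hX
  have hP2 : IsPGroup 2 P' := by
    rintro ⟨_, y, hy, rfl⟩
    obtain ⟨k, hk⟩ := hPR y hy
    exact ⟨k, Subtype.ext (by rw [SubgroupClass.coe_pow, ← map_pow, hR _ hk]; rfl)⟩
  haveI : Finite P' := Finite.of_surjective (fun y : P => (⟨Φ y, y, y.2, rfl⟩ : P'))
    (by rintro ⟨_, y, hy, rfl⟩; exact ⟨⟨y, hy⟩, rfl⟩)
  have hX3 : X ^ 3 = 1 := by rw [hX, ← map_pow, hR _ hx3]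
  have hXP : X ∈ normalizer (P' : Set _) := by
    have := mem_map_of_mem Φ (show x ∈ normalizer (P : Set G) by rw [normalizer_eq_top]; trivial)
    exact le_normalizer_map Φ this
  have hNfix : ∀ N : Subgroup (AddMonoid.End M)ˣ, N ≤ P' → ⁅N, N⁆ = ⊥ →
      X ∈ normalizer (N : Set _) → P' ≤ normalizer (N : Set _) → ∀ n ∈ N, Commute X n := by
    intro N hNP hab hXN _ n hn
    have hcomm : ∀ u ∈ N, ∀ v ∈ N, Commute u v := fun u hu v hv =>
      commutatorElement_eq_one_iff_commute.mp (mem_bot.mp (hab.le (commutator_mem_commutator hu hv)))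
    have hσN : ∀ e ∈ N, X * e * X⁻¹ ∈ N := fun e he => (mem_normalizer_iff.mp hXN e).mp he
    have e3 : X * X * X = 1 := by rw [← hX3]; simp [pow_succ, mul_assoc]
    have hinv : ∀ e ∈ N, e * e = 1 → X * e * X⁻¹ = e := by
      intro e he hee
      set f := X * e * X⁻¹ with hf
      set d := X * f * X⁻¹ with hd
      have hfe : f * f = 1 := by
        calc f * f = X * (e * e) * X⁻¹ := by rw [hf]; group
          _ = 1 := by rw [hee]; group
      have hde : X * d * X⁻¹ = e := by
        calc X * d * X⁻¹ = (X * X * X) * e * (X * X * X)⁻¹ := by rw [hd, hf]; group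
          _ = e := by rw [e3]; group
      have act : ∀ u v : (AddMonoid.End M)ˣ, X * u * X⁻¹ = v → ∀ m,
          (X : AddMonoid.End M) ((u : AddMonoid.End M) m) =
            (v : AddMonoid.End M) ((X : AddMonoid.End M) m) := by
        intro u v huv m
        have e1 : X * u = v * X := by rw [← huv]; group
        exact congrArg (fun t : (AddMonoid.End M)ˣ => (t : AddMonoid.End M) m) e1
      have sq : ∀ u : (AddMonoid.End M)ˣ, u * u = 1 → ∀ m,
          (u : AddMonoid.End M) ((u : AddMonoid.End M) m) = m := fun u hu m =>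
        congrArg (fun t : (AddMonoid.End M)ˣ => (t : AddMonoid.End M) m) hu
      refine Eq.symm (Units.ext (AddMonoidHom.ext fun m => ?_))
      exact eq_of_quadratic_cycle h2 (X : AddMonoid.End M) (e : AddMonoid.End M)
        (f : AddMonoid.End M) (d : AddMonoid.End M)
        (fun m => hquad m) (sq e hee) (sq f hfe)
        (fun m => congrArg (fun t : (AddMonoid.End M)ˣ => (t : AddMonoid.End M) m)
          (hcomm e he f (hσN e he)).eq)
        (act e f hf.symm) (act f d hd.symm) (act d e hde) m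
    -- elements of order `2 ^ k`
    have key : ∀ k : ℕ, ∀ n ∈ N, n ^ 2 ^ k = 1 → X * n * X⁻¹ = n := by
      intro k
      induction k with
      | zero => intro n _ h1; rw [pow_zero, pow_one] at h1; subst h1; group
      | succ k ih =>
        intro n hn h1
        have hsq := ih (n ^ 2) (pow_mem hn 2) (by rw [← pow_mul, ← pow_succ']; exact h1)
        set w := n⁻¹ * (X * n * X⁻¹) with hw
        have hwN : w ∈ N := mul_mem (inv_mem hn) (hσN n hn)
        have hwc : Commute n (X * n * X⁻¹) := hcomm n hn _ (hσN n hn)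
        have hw2 : w * w = 1 := by
          rw [← pow_two, hw, hwc.inv_left.mul_pow, inv_pow, conj_pow, hsq, inv_mul_cancel]
        have hXw := hinv w hwN hw2
        have hXn : X * n * X⁻¹ = n * w := by rw [hw]; group
        have h3 : n = n * w * w * w := by
          calc n = (X * X * X) * n * (X * X * X)⁻¹ := by rw [e3]; group
            _ = X * (X * (X * n * X⁻¹) * X⁻¹) * X⁻¹ := by group
            _ = X * (X * (n * w) * X⁻¹) * X⁻¹ := by rw [hXn]
            _ = X * ((X * n * X⁻¹) * (X * w * X⁻¹)) * X⁻¹ := by group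
            _ = X * (n * w * w) * X⁻¹ := by rw [hXn, hXw]
            _ = (X * n * X⁻¹) * (X * w * X⁻¹) * (X * w * X⁻¹) := by group
            _ = n * w * w * w := by rw [hXn, hXw]
        rw [mul_assoc (n * w) w w, hw2, mul_one] at h3
        rw [hXn, ← h3]
    obtain ⟨k, hk⟩ := hP2 ⟨n, hNP hn⟩
    have e := key k n hn (congrArg Subtype.val hk)
    calc X * n = X * n * X⁻¹ * X := by group
      _ = n * X := by rw [e]
  -- write the conjugating element in `P`
  obtain ⟨a, ha, t, ht, rfl⟩ : ∃ a ∈ P, ∃ t ∈ T, g = a * t := by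
    have : g ∈ ((P ⊔ T : Subgroup G) : Set G) := by rw [hPT]; trivial
    rw [normal_mul] at this
    obtain ⟨a, ha, t, ht, e⟩ := this
    exact ⟨a, ha, t, ht, e.symm⟩
  have htX : Commute (Φ t) X := by
    have hle : zpowers x ⊔ R ≤ (centralizer ({X} : Set _)).comap Φ := by
      refine sup_le (zpowers_le.mpr ?_) fun r hr => ?_
      · exact mem_centralizer_singleton_iff.mpr rfl
      · rw [mem_comap, hR r hr]; exact one_mem _
    exact mem_centralizer_singleton_iff.mp (hle (hT ht))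
  have key := braid_of_fixes hP2 hX3 hXP hNfix (mem_map_of_mem Φ ha)
  have e : Φ a * Φ t * X * (Φ a * Φ t)⁻¹ = Φ a * X * (Φ a)⁻¹ := by
    calc _ = Φ a * (Φ t * X * (Φ t)⁻¹) * (Φ a)⁻¹ := by group
      _ = _ := by rw [htX.eq, mul_inv_cancel_right]
  refine (hker _).mp ?_
  simp only [map_mul, map_inv, ← hX]
  rw [e, key, mul_inv_cancel]

end CfsgLib.Yoshida49
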