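import Cfsg.Agent.Yoshida49.Baumann

/-!
# The group of a cell

For each cell a subgroup having the Baumann subgroup as a Sylow `3`-subgroup and inducing the group of
the cell; for a cell with three-element root it has a normal `2`-subgroup modulo `O₃` supplementing
the Baumann subgroup.
-/

set_option autoImplicit false
set_option maxHeartbeats 1000000
set_option linter.style.haveILetI false
set_option linter.unusedSectionVars false

namespace CfsgLib.Yoshida49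

open Subgroup Cfsg CfsgLib CfsgLib.FFCells CfsgLib.SL2Recognition CfsgLib.Linear
open CfsgLib.ConjFunctor (IsSylowIn)
open scoped commutatorElement IsMulCommutative MatrixGroups

universe u

/-- The normal `2`-subgroup of `SL₂(3)`. -/
theorem exists_quat {F : Type} [Field F] [Fintype F] (hF : Nat.card F = 3) :
    ∃ N : Subgroup SL(2, F), N.Normal ∧ (∀ x ∈ N, x ^ 4 = 1) ∧
      ∀ x : SL(2, F), ∃ t, x * upperUni t ∈ N := by
  let e : ZMod 3 ≃+* F :=
    ZMod.ringEquivOfPrime F Nat.prime_three (by rwa [← Nat.card_eq_fintype_card])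
  let f : SL(2, ZMod 3) →* SL(2, F) := Matrix.SpecialLinearGroup.map (n := Fin 2) (e : ZMod 3 →+* F)
  have hsurj : ∀ x : SL(2, F), ∃ a, f a = x := fun x =>
    ⟨Matrix.SpecialLinearGroup.map (n := Fin 2) (e.symm : F →+* ZMod 3) x,
      Matrix.SpecialLinearGroup.ext _ _ fun i j => e.apply_symm_apply _⟩
  have hinj : Function.Injective f := fun a b h => Matrix.SpecialLinearGroup.ext _ _ fun i j =>
    e.injective (congrArg (fun m : SL(2, F) => m.1 i j) h)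
  let N : Subgroup SL(2, F) :=
    { carrier := {x | x ^ 4 = 1}
      one_mem' := one_pow 4
      mul_mem' := fun {x y} hx hy => by
        obtain ⟨a, rfl⟩ := hsurj x
        obtain ⟨b, rfl⟩ := hsurj y
        show (f a * f b) ^ 4 = 1
        rw [← map_mul, ← map_pow,
          (show ∀ x y : SL(2, ZMod 3), x ^ 4 = 1 → y ^ 4 = 1 → (x * y) ^ 4 = 1 by decide +kernel) a b
            (hinj (by rw [map_pow, map_one]; exact hx)) (hinj (by rw [map_pow, map_one]; exact hy)),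
          map_one]
      inv_mem' := fun {x} hx => by
        show x⁻¹ ^ 4 = 1
        rw [inv_pow, show x ^ 4 = 1 from hx, inv_one] }
  refine ⟨N, ⟨fun x hx g => ?_⟩, fun x hx => hx, fun x => ?_⟩
  · show (g * x * g⁻¹) ^ 4 = 1
    rw [conj_pow, show x ^ 4 = 1 from hx, mul_one, mul_inv_cancel]
  · obtain ⟨a, rfl⟩ := hsurj x
    obtain ⟨t, ht⟩ := (show ∀ a : SL(2, ZMod 3), ∃ t : ZMod 3,
      (a * ⟨!![1, t; 0, 1], by simp [Matrix.det_fin_two]⟩) ^ 4 = 1 by decide +kernel) a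
    refine ⟨e t, ?_⟩
    show (f a * upperUni (e t)) ^ 4 = 1
    have e1 : upperUni (e t) = f ⟨!![1, t; 0, 1], by simp [Matrix.det_fin_two]⟩ := by
      refine Matrix.SpecialLinearGroup.ext _ _ fun i j => ?_
      show (upperUni (e t)).1 i j = e ((!![1, t; 0, 1] : Matrix (Fin 2) (Fin 2) (ZMod 3)) i j)
      rw [upperUni_val]
      fin_cases i <;> fin_cases j <;> simp
    rw [e1]
    exact ((f.map_pow _ 4).trans (congrArg (· ^ 4) (f.map_mul _ _))).symm.trans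
      ((congrArg f ht).trans f.map_one)

variable {X : Type u} [Group X] [Finite X]

namespace Hyp

variable {S M : Subgroup X} (h : Hyp S M) {𝒞 : Set (Subgroup (qX X) × Subgroup (qX X))}
  (hO : OCfg (sX X) h.sylQ (M.map (prX X)) 𝒞)
include h hO

/-- A group with the Baumann subgroup as Sylow subgroup inducing all cells. -/
theorem exists_gamma (hJ : ¬ thompsonSubgroupOf 3 S ≤ pCore 3 X) :
    ∃ Γ : Subgroup X, IsSylowIn 3 (bS S) Γ ∧ Γ.map (prX X) = grpsJoin 𝒞 := by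
  obtain ⟨w, hw, hwL, hwV⟩ := hO.exists_weyl
  obtain ⟨g, hg⟩ := QuotientGroup.mk'_surjective (cX X) w
  have hmap : (FFCells.cj g (bS S)).map (prX X) = FFCells.cj w (rootsJoin 𝒞) := by
    rw [← h.map_bS hO hJ, FFCells.cj, FFCells.cj, Subgroup.map_map, Subgroup.map_map, ← hg]
    congr 1
  set Γ := bS S ⊔ FFCells.cj g (bS S) with hΓ
  have himage : Γ.map (prX X) = grpsJoin 𝒞 := by
    rw [hΓ, Subgroup.map_sup, hmap, h.map_bS hO hJ]
    refine le_antisymm (sup_le hO.roots_le_grps ?_) (iSup_le hwL)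
    exact (FFCells.cj_mono hO.roots_le_grps).trans (FFCells.cj_le_of_mem hw)
  have hI : Γ ≤ centralizer ((y0 S ⊓ FFCells.cj g (y0 S) : Subgroup X) : Set X) := by
    refine sup_le ((bS_le_centralizer S).trans (centralizer_le inf_le_left)) ?_
    rintro _ ⟨b, hb, rfl⟩
    refine mem_centralizer_iff.mpr fun y hy => ?_
    obtain ⟨z, hz, rfl⟩ := hy.2
    show g * z * g⁻¹ * (g * b * g⁻¹) = g * b * g⁻¹ * (g * z * g⁻¹)
    have := mem_centralizer_iff.mp (bS_le_centralizer S hb) z hz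
    calc g * z * g⁻¹ * (g * b * g⁻¹) = g * (z * b) * g⁻¹ := by group
      _ = g * (b * z) * g⁻¹ := by rw [this]
      _ = g * b * g⁻¹ * (g * z * g⁻¹) := by group
  have hV : ∀ v ∈ vX X, ∃ f ∈ vX X ⊓ y0 S, ∃ f' ∈ vX X ⊓ FFCells.cj g (y0 S), f * f' = v :=
    fun v hv => by
    obtain ⟨f, hf, f', hf', e⟩ := hwV (Additive.ofMul ⟨v, hv⟩)
    refine ⟨((Additive.toMul f : vX X) : X), ⟨SetLike.coe_mem _, (h.mem_fix_roots hO hJ).mp hf⟩,
      ((Additive.toMul f' : vX X) : X), ⟨SetLike.coe_mem _, FFCells.mem_cj.mpr ?_⟩, ?_⟩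
    · have h2 : sX X w⁻¹ f' ∈ fix (sX X) (rootsJoin 𝒞) := mem_fix_cj.mp hf'
      rw [← hg, ← map_inv, sX_mk] at h2
      have h4 : ((Additive.toMul (repX X g⁻¹ f') : vX X) : X) ∈ y0 S :=
        (h.mem_fix_roots hO hJ).mp h2
      rw [repX_apply, inv_inv] at h4
      exact h4
    · exact congrArg (fun x => ((Additive.toMul x : vX X) : X)) e
  have hQ : Γ ⊓ pCore 3 X ≤ bS S := by
    intro x hx
    refine ⟨h.core_le hx.2, mem_centralizer_iff.mpr fun y hy => ?_⟩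
    haveI := h.w1_normal hO hJ
    have hy1 : y ∈ FFCells.cj g (y0 S ⊔ vX X) := by
      rw [FFCells.cj_eq_self.mpr (by rw [normalizer_eq_top]; trivial)]
      exact mem_sup_left hy
    rw [FFCells.cj, Subgroup.map_sup] at hy1
    have hy2 : y ∈ ((FFCells.cj g (y0 S) ⊔ vX X : Subgroup X) : Set X) := by
      rw [← FFCells.cj_eq_self.mpr (show g ∈ normalizer (vX X : Set X) by
        rw [normalizer_eq_top]; trivial)]
      exact hy1
    rw [mul_normal] at hy2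
    obtain ⟨y', hy', v, hv, e⟩ := hy2
    obtain ⟨f, hf, f', hf', rfl⟩ := hV v hv
    have hcomm : f * f' = f' * f :=
      mem_centralizer_iff.mp (le_centralizer_iff_isMulCommutative.mpr (vX_comm X) hf'.1) f hf.1
    have hi : y * f⁻¹ ∈ y0 S ⊓ FFCells.cj g (y0 S) := by
      refine ⟨(y0 S).mul_mem hy ((y0 S).inv_mem hf.2), ?_⟩
      have e2 : y * f⁻¹ = y' * f' := by
        rw [← e]
        show y' * (f * f') * f⁻¹ = _
        rw [hcomm]; group
      rw [e2]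
      exact mul_mem hy' hf'.2
    have hxf : Commute f x := (mem_centralizer_iff.mp
      (LocalEven50.omegaOneCenter_le_centralizer _ hf.1) x hx.2).symm
    have := (show Commute (y * f⁻¹) x from mem_centralizer_iff.mp (hI hx.1) _ hi).mul_left hxf
    rwa [inv_mul_cancel_right] at this
  refine ⟨Γ, ?_, himage⟩
  obtain ⟨S', hBS', hS'⟩ := ConjFunctor.exists_isSylowIn_ge (p := 3) (A := bS S) (H := Γ)
    le_sup_left (h.isPGroup.to_le (bS_le S))
  suffices e : S' = bS S by rwa [e] at hS'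
  have hS'C : S' ⊓ cX X ≤ pCore 3 X := by
    have hQC : IsSylowIn 3 (pCore 3 X) (cX X) := by
      rw [← h.inf_cX]
      exact ConjFunctor.IsSylowIn.inf_of_normal h.sylow le_top (by rw [normalizer_eq_top])
    obtain ⟨m, -, hm⟩ := hQC.exists_cj_le inf_le_right (hS'.2.1.to_le inf_le_left)
    intro x hx
    simpa [mul_assoc] using (inferInstance : (pCore 3 X).Normal).conj_mem _
      (hm (ConjFunctor.conj_mem_cj m hx)) m⁻¹
  have hE : IsSylowIn 3 (rootsJoin 𝒞) (grpsJoin 𝒞) :=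
    ⟨hO.roots_le_grps, hO.roots_isPGroup, hO.roots_isSylow⟩
  have hS'E : S'.map (prX X) = rootsJoin 𝒞 := hE.eq_of_le
    (by rw [← h.map_bS hO hJ]; exact map_mono hBS') (by rw [← himage]; exact map_mono hS'.1)
    (hS'.2.1.map _)
  refine le_antisymm (fun s hs => ?_) hBS'
  obtain ⟨b, hb, eb⟩ : prX X s ∈ (bS S).map (prX X) := by
    rw [h.map_bS hO hJ, ← hS'E]; exact mem_map_of_mem _ hs
  have h1 : b⁻¹ * s ∈ S' ⊓ cX X :=
    ⟨S'.mul_mem (S'.inv_mem (hBS' hb)) hs,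
      (QuotientGroup.eq_one_iff _).mp (show prX X (b⁻¹ * s) = 1 by
        rw [map_mul, map_inv, eb, inv_mul_cancel])⟩
  have h2 := mul_mem hb (hQ ⟨hS'.1 h1.1, hS'C h1⟩)
  rwa [mul_inv_cancel_left] at h2

/-- The part of the Baumann subgroup inside the roots of the other cells. -/
abbrev rc (S : Subgroup X) (c : 𝒞) : Subgroup X := bS S ⊓ (others 𝒞 c).comap (prX X)

/-- The group of a cell. -/
structure NodeGrp (S : Subgroup X) (c : 𝒞) (G : Subgroup X) : Prop where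
  sylow : IsSylowIn 3 (bS S) G
  image : G.map (prX X) = c.1.2 ⊔ others 𝒞 c
  norm : G ≤ normalizer (rc S c : Set X)
  two : Nat.card c.1.1 = 3 → ∃ P ≤ G, G ≤ normalizer (P : Set X) ∧ rc S c ≤ P ∧
    (∀ y ∈ P, ∃ k, y ^ 2 ^ k ∈ rc S c) ∧ P ⊔ bS S = G

theorem exists_g0 (hJ : ¬ thompsonSubgroupOf 3 S ≤ pCore 3 X) (c : 𝒞) :
    ∃ G, IsSylowIn 3 (bS S) G ∧ G.map (prX X) = c.1.2 ⊔ others 𝒞 c ∧
      G ≤ normalizer (rc S c : Set X) := by
  obtain ⟨Γ, hΓ, hΓi⟩ := h.exists_gamma hO hJ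
  set π := prX X
  set E' := others 𝒞 c
  set L := c.1.2
  set Γ₁ := Γ ⊓ (L ⊔ E').comap π with hΓ₁
  set R := rc S c with hR
  have hBmap := h.map_bS hO hJ
  have hE : rootsJoin 𝒞 ≤ L ⊔ E' := (hO.roots_eq_sup c).le.trans (sup_le_sup_right (hO.D c).le _)
  have hBΓ₁ : bS S ≤ Γ₁ := le_inf hΓ.1 (map_le_iff_le_comap.mp (hBmap.le.trans hE))
  have hSyl₁ : IsSylowIn 3 (bS S) Γ₁ := hΓ.of_le hBΓ₁ inf_le_left
  have hLn : L ⊔ E' ≤ normalizer (E' : Set (qX X)) := sup_le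
    (((hO.orth_others c).le_centralizer hO.inj).trans
      (centralizer_le_normalizer (s := (E' : Set (qX X))))) le_normalizer
  set K := Γ₁ ⊓ E'.comap π with hK
  have hKn : Γ₁ ≤ normalizer (K : Set X) := LocalEven50.le_normalizer_inf le_normalizer
    (fun x hx => (comap_mono hLn).trans (le_normalizer_comap π) hx.2)
  have hRK : bS S ⊓ K = R :=
    le_antisymm (inf_le_inf_left _ inf_le_right) (le_inf inf_le_left (le_inf (inf_le_left.trans hBΓ₁) inf_le_right))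
  have hSylK : IsSylowIn 3 R K := by
    rw [← hRK]; exact ConjFunctor.IsSylowIn.inf_of_normal hSyl₁ inf_le_left hKn
  set G₀ := Γ₁ ⊓ normalizer (R : Set X) with hG₀
  have hBR : bS S ≤ normalizer (R : Set X) := LocalEven50.le_normalizer_inf le_normalizer
    (fun b hb => (comap_mono ((hBmap.le.trans hE).trans hLn)).trans (le_normalizer_comap π)
      (show b ∈ ((bS S).map π).comap π from mem_map_of_mem π hb))
  have hBG₀ : bS S ≤ G₀ := le_inf hBΓ₁ hBR
  have hE'map : E' ≤ G₀.map π := fun e he => by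
    obtain ⟨b, hb, rfl⟩ : e ∈ (bS S).map π := by rw [hBmap]; exact hO.others_le_roots c he
    exact mem_map_of_mem π (hBG₀ hb)
  have hG₀map : G₀.map π = L ⊔ E' := by
    refine le_antisymm (map_le_iff_le_comap.mpr (inf_le_left.trans inf_le_right)) (sup_le ?_ hE'map)
    intro l hl
    obtain ⟨x, hx, rfl⟩ : l ∈ Γ.map π := by rw [hΓi]; exact hO.grp_le_grps c hl
    have hx₁ : x ∈ Γ₁ := ⟨hx, mem_sup_left hl⟩
    have hxR : IsSylowIn 3 (FFCells.cj x R) K := by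
      have := hSylK.cj x
      rwa [ConjFunctor.cj_eq_of_mem_normalizer (hKn hx₁)] at this
    obtain ⟨a, ha, e⟩ := hSylK.exists_cj_eq hxR
    have hax : a * x ∈ G₀ :=
      ⟨mul_mem ha.1 hx₁, ConjFunctor.mem_normalizer_iff_cj.mpr ((ConjFunctor.cj_cj a x R).symm.trans e)⟩
    have := mul_mem (inv_mem (hE'map ha.2)) (mem_map_of_mem π hax)
    rwa [map_mul, inv_mul_cancel_left] at this
  have hSyl₀ : IsSylowIn 3 (bS S) G₀ := hSyl₁.of_le hBG₀ inf_le_left
  exact ⟨G₀, hSyl₀, hG₀map, inf_le_right⟩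

omit h hO in
/-- A Sylow `3`-subgroup normalises a conjugate of a Sylow `2`-subgroup of a normal subgroup of index
three, modulo a normal `3`-subgroup. -/
theorem exists_two_sup {G₀ B R P₀ P₂ : Subgroup X} (hB : IsSylowIn 3 B G₀) (hRB : R ≤ B)
    (hG₀R : G₀ ≤ normalizer (R : Set X)) (hP₀ : P₀ ≤ G₀) (hn : G₀ ≤ normalizer (P₀ : Set X))
    (hRP : R ≤ P₀) (h3 : ∀ z ∈ G₀, z ^ 3 ∈ P₀) (hBP : ¬ B ≤ P₀)
    (hgen : ∀ y ∈ B, y ∉ P₀ → B ≤ R ⊔ zpowers y) (hP₂ : IsSylowIn 2 P₂ P₀) :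
    ∃ m ∈ G₀, B ≤ normalizer ((FFCells.cj m P₂ ⊔ R : Subgroup X) : Set X) := by
  haveI : Fact (Nat.Prime 2) := ⟨Nat.prime_two⟩
  obtain ⟨b, hb, hbP⟩ := SetLike.not_le_iff_exists.mp hBP
  have h2 : IsSylowIn 2 (FFCells.cj b P₂) P₀ := by
    have := hP₂.cj b
    rwa [ConjFunctor.cj_eq_of_mem_normalizer (hn (hB.1 hb))] at this
  obtain ⟨a, ha, e⟩ := hP₂.exists_cj_eq h2
  set z := a * b
  have hzG : z ∈ G₀ := mul_mem (hP₀ ha) (hB.1 hb)
  have hzN : z ∈ normalizer (P₂ : Set X) :=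
    ConjFunctor.mem_normalizer_iff_cj.mpr ((ConjFunctor.cj_cj a b P₂).symm.trans e)
  have hzP : z ∉ P₀ := fun hab => hbP (by
    have := mul_mem (inv_mem ha) hab
    rwa [inv_mul_cancel_left] at this)
  obtain ⟨k, m, hm, hem⟩ := Nat.exists_eq_pow_mul_and_not_dvd (orderOf_pos z).ne' 3 (by norm_num)
  have hm0 : m ≠ 0 := fun h0 => hm (h0 ▸ dvd_zero 3)
  set z' := z ^ m
  have hz'P : z' ∉ P₀ := by
    intro hzm
    obtain ⟨u, hu⟩ : ∃ u : ℕ, m = 3 * u + 1 ∨ m = 3 * u + 2 := ⟨m / 3, by omega⟩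
    rcases hu with e | e
    · refine hzP ?_
      have := mul_mem (inv_mem (pow_mem (h3 z hzG) u)) hzm
      rwa [show z' = z ^ (3 * u) * z from by rw [← pow_succ, ← e], ← pow_mul, inv_mul_cancel_left] at this
    · have h4 : z ^ 2 ∈ P₀ := by
        have := mul_mem (inv_mem (pow_mem (h3 z hzG) u)) hzm
        rwa [show z' = z ^ (3 * u) * z ^ 2 from by rw [← pow_add, ← e], ← pow_mul,
          inv_mul_cancel_left] at this
      refine hzP ?_
      have := mul_mem (inv_mem h4) (h3 z hzG)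
      rwa [pow_succ z 2, inv_mul_cancel_left] at this
  have hz'3 : IsPGroup 3 (zpowers z') := by
    refine IsPGroup.iff_card.mpr ⟨k, ?_⟩
    rw [Nat.card_zpowers, orderOf_pow_of_dvd hm0 (Dvd.intro_left _ hem.symm), hem,
      Nat.mul_div_cancel _ (Nat.pos_of_ne_zero hm0)]
  have hz'G : z' ∈ G₀ := pow_mem hzG m
  obtain ⟨m₀, hm₀, hle⟩ := hB.exists_cj_le (A := zpowers z' ⊔ R)
    (sup_le (zpowers_le.mpr hz'G) (hRB.trans hB.1))
    (hz'3.to_sup_of_normal_right' (hB.2.1.to_le hRB) (zpowers_le.mpr (hG₀R hz'G)))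
  set y := m₀ * z' * m₀⁻¹
  have hyB : y ∈ B := hle (ConjFunctor.conj_mem_cj m₀ (mem_sup_left (mem_zpowers z')))
  have hyP : y ∉ P₀ := fun hy => hz'P ((mem_normalizer_iff.mp (hn hm₀) z').mpr hy)
  refine ⟨m₀, hm₀, (hgen y hyB hyP).trans (sup_le (le_sup_right.trans le_normalizer)
    (zpowers_le.mpr (FFCells.mem_normalizer_of_cj_le ?_)))⟩
  rw [FFCells.cj, Subgroup.map_sup]
  refine sup_le_sup (le_of_eq ?_) (le_of_eq (ConjFunctor.mem_normalizer_iff_cj.mp (hG₀R (hB.1 hyB))))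
  show FFCells.cj y (FFCells.cj m₀ P₂) = FFCells.cj m₀ P₂
  rw [FFCells.cj_cj, show y * m₀ = m₀ * z' by simp [y], ← FFCells.cj_cj,
    FFCells.cj_eq_self.mpr (pow_mem hzN m)]

omit h hO in
/-- A supplement of a normal `R` by a `2`-group consists of elements of `2`-power order modulo `R`. -/
theorem exists_two_pow {A R : Subgroup X} (hA : IsPGroup 2 A) (hAR : A ≤ normalizer (R : Set X))
    {x : X} (hx : x ∈ A ⊔ R) : ∃ k, x ^ 2 ^ k ∈ R := by
  rw [← SetLike.mem_coe, coe_mul_of_left_le_normalizer_right _ _ hAR] at hx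
  obtain ⟨a, ha, r, hr, rfl⟩ := hx
  obtain ⟨k, hk⟩ := hA ⟨a, ha⟩
  refine ⟨k, ?_⟩
  have hak : a ^ 2 ^ k = 1 := congrArg Subtype.val hk
  have key : ∀ n, (a * r) ^ n * (a ^ n)⁻¹ ∈ R := by
    intro n
    induction n with
    | zero => simp
    | succ n ih =>
      have h1 := (mem_normalizer_iff.mp (pow_mem (hAR ha) (n + 1)) r).mp hr
      have e : (a * r) ^ (n + 1) * (a ^ (n + 1))⁻¹ =
          ((a * r) ^ n * (a ^ n)⁻¹) * (a ^ (n + 1) * r * (a ^ (n + 1))⁻¹) := by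
        rw [pow_succ, pow_succ]; group
      rw [e]; exact mul_mem ih h1
  have := key (2 ^ k)
  rwa [hak, inv_one, mul_one] at this

theorem exists_shrink (hJ : ¬ thompsonSubgroupOf 3 S ≤ pCore 3 X) (c : 𝒞)
    (hq : Nat.card c.1.1 = 3) {G₀ : Subgroup X} (hSyl₀ : IsSylowIn 3 (bS S) G₀)
    (hG₀map : G₀.map (prX X) = c.1.2 ⊔ others 𝒞 c) (hnorm : G₀ ≤ normalizer (rc S c : Set X)) :
    ∃ G, NodeGrp S c G := by
  set π := prX X
  set E' := others 𝒞 c
  set L := c.1.2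
  set R := rc S c
  have hBmap := h.map_bS hO hJ
  have hBG₀ : bS S ≤ G₀ := hSyl₀.1
  -- a root with three elements
  have hF : Nat.card (hO.D c).F = 3 := (hO.D c).card_root.symm.trans hq
  obtain ⟨N, hNn, hN4, hNt⟩ := exists_quat hF
  haveI := hO.charF c
  have hg : ∀ x ∈ G₀, π x ∈ grpsJoin 𝒞 := fun x hx =>
    sup_le (hO.grp_le_grps c) (hO.others_le_grps c) (hG₀map.le (mem_map_of_mem π hx))
  obtain ⟨η, hη⟩ : ∃ η : G₀ →* SL(2, (hO.D c).F),
      ∀ (x : G₀), η x = hO.θ c ⟨π x, hg x x.2⟩ :=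
    ⟨(hO.θ c).comp ((π.comp G₀.subtype).codRestrict (grpsJoin 𝒞) fun x => hg x x.2), fun _ => rfl⟩
  have hker : ∀ x : G₀, η x = 1 → π (x : X) ∈ E' := fun x hx =>
    hO.mem_others_of_θ c (hG₀map.le (mem_map_of_mem π x.2)) (hg x x.2) ((hη x).symm.trans hx)
  have hηR : ∀ x : G₀, (x : X) ∈ R → η x = 1 := fun x hx => (hη x).trans (hO.θ_others c hx.2)
  have hηs : Function.Surjective η := by
    intro A
    obtain ⟨x, hx, e⟩ : ((hO.D c).φ.symm A : qX X) ∈ G₀.map π := by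
      rw [hG₀map]; exact mem_sup_left (SetLike.coe_mem _)
    refine ⟨⟨x, hx⟩, ?_⟩
    rw [hη]
    have e' : (⟨π x, hg x hx⟩ : ↥(grpsJoin 𝒞)) =
        ⟨_, hO.grp_le_grps c ((hO.D c).φ.symm A).2⟩ := Subtype.ext e
    rw [e', hO.θ_grp, MulEquiv.apply_symm_apply]
  set P₀ := (N.comap η).map G₀.subtype with hP₀
  have hP₀G : P₀ ≤ G₀ := map_subtype_le _
  have hP₀n : G₀ ≤ normalizer (P₀ : Set X) := fun x hx => FFCells.mem_normalizer_of_cj_le (by
    rintro _ ⟨_, ⟨y, hy, rfl⟩, rfl⟩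
    exact ⟨⟨x, hx⟩ * y * ⟨x, hx⟩⁻¹, (hNn.comap η).conj_mem y hy _, rfl⟩)
  have hN3 : ∀ b ∈ bS S, b ∈ P₀ → b ∈ R := by
    rintro _ hb ⟨y, hy, rfl⟩
    refine ⟨hb, hker y ?_⟩
    obtain ⟨k, hk⟩ := h.isPGroup ⟨(y : X), bS_le S hb⟩
    have h1 : y ^ 3 ^ k = 1 := Subtype.ext (by simpa using congrArg Subtype.val hk)
    have h3 : η y ^ Nat.gcd 4 (3 ^ k) = 1 :=
      pow_gcd_eq_one.mpr ⟨hN4 _ hy, by rw [← map_pow, h1, map_one]⟩
    rwa [Nat.Coprime.pow_right k (by norm_num : Nat.Coprime 4 3), pow_one] at h3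
  have hRP₀ : R ≤ P₀ := fun x hx =>
    ⟨⟨x, hBG₀ hx.1⟩, show η _ ∈ N by rw [hηR _ hx]; exact one_mem N, rfl⟩
  haveI : Fact (Nat.Prime 2) := ⟨Nat.prime_two⟩
  obtain ⟨P₂, -, hP₂⟩ := ConjFunctor.exists_isSylowIn_ge (p := 2) (A := (⊥ : Subgroup X)) (H := P₀)
    bot_le IsPGroup.of_bot
  have hP₂map : (P₂.subgroupOf G₀).map η = N := by
    refine eq_of_le_of_card_ge (map_le_iff_le_comap.mpr fun y hy => ?_) ?_
    · obtain ⟨y', hy', e⟩ := hP₂.1 hy
      rwa [show y = y' from Subtype.ext e.symm]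
    · set A := (P₂.subgroupOf G₀).map η
      have hle : A ≤ N := map_le_iff_le_comap.mpr fun y hy => by
        obtain ⟨y', hy', e⟩ := hP₂.1 hy
        rwa [show y = y' from Subtype.ext e.symm]
      have hd : A.relIndex N ∣ P₂.relIndex P₀ := by
        have e1 : A.relIndex N = (P₂.subgroupOf G₀ ⊔ η.ker).relIndex (N.comap η) := by
          rw [← comap_map_eq, relIndex_comap, map_comap_eq_self_of_surjective hηs]
        have e2 : P₂.relIndex P₀ = (P₂.subgroupOf G₀).relIndex (N.comap η) := by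
          rw [subgroupOf, relIndex_comap]
        rw [e1, e2]
        exact relIndex_dvd_of_le_left _ le_sup_left
      have hN2 : IsPGroup 2 N := fun x => ⟨2, Subtype.ext (hN4 _ x.2)⟩
      obtain ⟨m, hm⟩ := IsPGroup.iff_card.mp hN2
      have h1 : Nat.card A * A.relIndex N = Nat.card N := LocalEvenBasic.card_mul_relIndex_of_le _ _ hle
      obtain ⟨i, -, hi⟩ := (Nat.dvd_prime_pow Nat.prime_two).mp
        (hm ▸ Dvd.intro_left (Nat.card A) h1 : A.relIndex N ∣ 2 ^ m)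
      rcases i with _ | i
      · rw [pow_zero] at hi
        rw [hi, mul_one] at h1
        exact h1.ge
      · exact absurd ((hi ▸ dvd_pow_self 2 (Nat.succ_ne_zero i)).trans hd) hP₂.2.2
  have hBP₀ : ¬ bS S ≤ P₀ := fun hle => by
    have h1 : rootsJoin 𝒞 ≤ E' := by
      rw [← hBmap]; exact map_le_iff_le_comap.mpr fun b hb => (hN3 b hb (hle hb)).2
    have h2 := hO.root_inf_others c
    rw [inf_eq_left.mpr ((hO.root_le_roots c).trans h1)] at h2
    exact (hO.D c).isMinOff.ne_bot h2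
  have h3 : ∀ z ∈ G₀, z ^ 3 ∈ P₀ := by
    intro z hz
    refine ⟨⟨z, hz⟩ ^ 3, ?_, rfl⟩
    show η _ ∈ N
    rw [map_pow]
    set A := η ⟨z, hz⟩
    obtain ⟨t, ht⟩ := hNt A
    have hU : upperUni t ^ 3 = 1 := by
      rw [pow_succ, pow_two, upperUni, ← Matrix.SpecialLinearGroup.transvection_add,
        ← Matrix.SpecialLinearGroup.transvection_add, show t + t + t = 3 * t by ring,
        show (3 : (hO.D c).F) = ((3 : ℕ) : (hO.D c).F) by norm_num, CharP.cast_eq_zero, zero_mul,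
        Matrix.SpecialLinearGroup.transvection_coeff_zero]
    haveI := hNn
    have h1 : (QuotientGroup.mk' N A) * QuotientGroup.mk' N (upperUni t) = 1 := by
      rw [← map_mul]; exact (QuotientGroup.eq_one_iff _).mpr ht
    refine (QuotientGroup.eq_one_iff (N := N) _).mp ?_
    show QuotientGroup.mk' N (A ^ 3) = 1
    rw [map_pow, eq_inv_of_mul_eq_one_left h1, inv_pow, ← map_pow, hU, map_one, inv_one]
  have hgen : ∀ y ∈ bS S, y ∉ P₀ → bS S ≤ R ⊔ zpowers y := by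
    intro y hyB hyP
    intro b hb
    obtain ⟨s, hs, -⟩ := hO.θ_roots c (hBmap.le (mem_map_of_mem π hb))
    obtain ⟨t, ht, ht0⟩ := hO.θ_roots c (hBmap.le (mem_map_of_mem π hyB))
    have htne : t ≠ 0 := fun e => hyP (hRP₀ ⟨hyB, ht0 e⟩)
    obtain ⟨k, hk⟩ : ∃ k : ℕ, s = k * t := by
      let e := ZMod.ringEquivOfPrime (hO.D c).F Nat.prime_three (by rwa [← Nat.card_eq_fintype_card])
      refine ⟨(e.symm (s / t)).val, ?_⟩
      rw [← map_natCast e, ZMod.natCast_zmod_val, e.apply_symm_apply, div_mul_cancel₀ s htne]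
    have hpow : ∀ j : ℕ, upperUni t ^ j = upperUni ((j : (hO.D c).F) * t) := by
      intro j
      induction j with
      | zero => simp [upperUni]
      | succ j ih =>
        rw [pow_succ, ih, upperUni, upperUni, ← Matrix.SpecialLinearGroup.transvection_add]
        push_cast; rw [add_one_mul]; rfl
    have hr : b * (y ^ k)⁻¹ ∈ R := by
      refine ⟨(bS S).mul_mem hb ((bS S).inv_mem ((bS S).pow_mem hyB k)), ?_⟩
      have hmem : b * (y ^ k)⁻¹ ∈ G₀ := hBG₀ ((bS S).mul_mem hb ((bS S).inv_mem ((bS S).pow_mem hyB k)))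
      refine hker ⟨_, hmem⟩ ?_
      rw [show (⟨_, hmem⟩ : G₀) = ⟨b, hBG₀ hb⟩ * (⟨y, hBG₀ hyB⟩ ^ k)⁻¹ from rfl, map_mul, map_inv,
        map_pow, hη, hη]
      simp only at hs ht ⊢
      rw [hs, ht]
      rw [hpow, ← hk, mul_inv_cancel]
    simpa using mul_mem (mem_sup_left hr) (pow_mem (mem_sup_right (mem_zpowers y)) k)
  obtain ⟨m₀, hm₀, hBP⟩ := exists_two_sup hSyl₀ inf_le_left hnorm hP₀G hP₀n hRP₀ h3 hBP₀ hgen hP₂
  set P := FFCells.cj m₀ P₂ ⊔ R
  have hPG : P ≤ G₀ := sup_le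
    ((FFCells.cj_mono (hP₂.1.trans hP₀G)).trans (FFCells.cj_le_of_mem hm₀)) (hRP₀.trans hP₀G)
  refine ⟨P ⊔ bS S, hSyl₀.of_le le_sup_right (sup_le hPG hBG₀), ?_,
    (sup_le hPG hBG₀).trans hnorm,
    fun _ => ⟨P, le_sup_left, sup_le le_normalizer hBP, le_sup_right, fun x hx =>
      exists_two_pow (hP₂.2.1.map _) ((le_sup_left.trans hPG).trans hnorm) hx, rfl⟩⟩
  refine le_antisymm ((map_mono (sup_le hPG hBG₀)).trans hG₀map.le) (sup_le ?_ ?_)
  · intro l hl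
    obtain ⟨x, hx, rfl⟩ : l ∈ G₀.map π := by rw [hG₀map]; exact mem_sup_left hl
    obtain ⟨t, ht⟩ := hNt (η ⟨x, hx⟩)
    obtain ⟨b, hb, hbe⟩ : ((hO.D c).u t) ∈ (bS S).map π := by
      rw [hBmap]; exact hO.root_le_roots c ((hO.D c).u_mem t)
    have hb' : η ⟨b, hBG₀ hb⟩ = upperUni t := by
      rw [hη]
      have e' : (⟨π b, hg b (hBG₀ hb)⟩ : ↥(grpsJoin 𝒞)) =
          ⟨_, hO.grp_le_grps c ((hO.D c).φ.symm (upperUni t)).2⟩ := Subtype.ext hbe
      rw [e', hO.θ_grp, MulEquiv.apply_symm_apply]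
    rw [← hb', ← map_mul] at ht
    -- conjugate the Sylow subgroup
    have hN' : η (⟨m₀, hm₀⟩⁻¹ * (⟨x, hx⟩ * ⟨b, hBG₀ hb⟩) * ⟨m₀, hm₀⟩) ∈ N := by
      simp only [map_mul, map_inv] at ht ⊢
      simpa using hNn.conj_mem _ ht (η ⟨m₀, hm₀⟩)⁻¹
    rw [← hP₂map] at hN'
    obtain ⟨q, hq2, hqe⟩ := hN'
    set u := m₀ * (q : X) * m₀⁻¹ * b⁻¹
    have hu : u ∈ P ⊔ bS S := mul_mem
      (mem_sup_left (mem_sup_left (ConjFunctor.conj_mem_cj m₀ hq2)))
      (mem_sup_right (inv_mem hb))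
    have hux : π u⁻¹ * π x ∈ E' := by
      have huG : u⁻¹ * x ∈ G₀ := mul_mem (inv_mem (sup_le hPG hBG₀ hu)) hx
      rw [← map_mul]
      refine hker ⟨_, huG⟩ ?_
      rw [show (⟨_, huG⟩ : G₀) = (⟨m₀, hm₀⟩ * q * ⟨m₀, hm₀⟩⁻¹ * ⟨b, hBG₀ hb⟩⁻¹)⁻¹ * ⟨x, hx⟩ from rfl,
        map_mul, map_inv, map_mul, map_mul, map_mul, hqe]
      simp only [map_mul, map_inv]
      group
    obtain ⟨r, hr, hre⟩ : π u⁻¹ * π x ∈ (bS S).map π := by
      rw [hBmap]; exact hO.others_le_roots c hux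
    refine ⟨u * r, mul_mem hu (mem_sup_right hr), ?_⟩
    rw [map_mul, hre, map_inv, mul_inv_cancel_left]
  · exact ((hO.others_le_roots c).trans hBmap.ge).trans (map_mono le_sup_right)

theorem exists_nodeGrp (hJ : ¬ thompsonSubgroupOf 3 S ≤ pCore 3 X) (c : 𝒞) :
    ∃ G, NodeGrp S c G := by
  obtain ⟨G₀, h1, h2, h3⟩ := h.exists_g0 hO hJ c
  by_cases hq : Nat.card c.1.1 = 3
  · exact h.exists_shrink hO hJ c hq h1 h2 h3
  · exact ⟨G₀, h1, h2, h3, fun e => absurd e hq⟩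

end Hyp

end CfsgLib.Yoshida49
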