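import Mathlib.GroupTheory.QuotientGroup.Basic
import Mathlib.GroupTheory.Commutator.Basic
import Mathlib.GroupTheory.GroupAction.ConjAct
import Mathlib.Tactic.Abel
import Mathlib.Tactic.Group

/-!
# The layer lemma

`C` and `Ω` are normal subgroups acting trivially on an abelian section `W / W''`, with
`[C, Ω] ≤ W`, and `A` acts quadratically on the section and on `Ω` as seen through the pairing.
Then `A` acts with degree three on `C` as seen through the pairing, and with degree two if `Ω` is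
generated by conjugates of elements fixed by `x ∈ A` with fixed pairing values and the conjugates
of `x` satisfy the braid relation on the section.
-/

set_option autoImplicit false
set_option linter.unusedSectionVars false

namespace CfsgLib.Yoshida49

open Subgroup
open scoped commutatorElement IsMulCommutative

universe v

variable {G : Type v} [Group G]

/-- The data of a pairing into an abelian section. -/
structure Pairing (R C Ω W W' : Subgroup G) : Prop where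
  C_normal : C.Normal
  Ω_normal : Ω.Normal
  W_normal : W.Normal
  W'_normal : W'.Normal
  C_le : C ≤ R
  Ω_le : Ω ≤ R
  comm : ⁅W, W⁆ ≤ W'
  triv : ⁅W, R⁆ ≤ W'
  pair : ∀ c ∈ C, ∀ u ∈ Ω, ⁅c, u⁆ ∈ W

namespace Pairing

variable {R C Ω W W' : Subgroup G} (h : Pairing R C Ω W W')
include h

theorem conjC {g c : G} (hc : c ∈ C) : g * c * g⁻¹ ∈ C := h.C_normal.conj_mem c hc g

theorem conjΩ {g u : G} (hu : u ∈ Ω) : g * u * g⁻¹ ∈ Ω := h.Ω_normal.conj_mem u hu g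

theorem conjC' {g c : G} (hc : c ∈ C) : g⁻¹ * c * g ∈ C := by simpa using h.conjC (g := g⁻¹) hc

theorem conjΩ' {g u : G} (hu : u ∈ Ω) : g⁻¹ * u * g ∈ Ω := by simpa using h.conjΩ (g := g⁻¹) hu

theorem comm_mem_C {c a : G} (hc : c ∈ C) : ⁅c, a⁆ ∈ C := by
  have : c * (a * c⁻¹ * a⁻¹) ∈ C := mul_mem hc (h.conjC (inv_mem hc))
  simpa [commutatorElement_def, mul_assoc] using this

/-- The abelian section as an additive group, with the pairing and the action. -/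
theorem exists_model : ∃ (M : Type v) (_ : AddCommGroup M) (F : G → G → M) (ρ : G → M →+ M)
    (i : G → M),
    (∀ c ∈ C, ∀ d ∈ C, ∀ u ∈ Ω, F (c * d) u = F c u + F d u) ∧
    (∀ c ∈ C, ∀ u ∈ Ω, ∀ v ∈ Ω, F c (u * v) = F c u + F c v) ∧
    (∀ c ∈ C, ∀ u ∈ Ω, ∀ g, F (g * c * g⁻¹) (g * u * g⁻¹) = ρ g (F c u)) ∧
    (∀ g k m, ρ (g * k) m = ρ g (ρ k m)) ∧ (∀ m, ρ 1 m = m) ∧
    (∀ c ∈ C, ∀ u ∈ Ω, F c u = i ⁅c, u⁆) ∧
    (∀ w ∈ W, (i w = 0 ↔ w ∈ W')) ∧
    (∀ w ∈ W, ∀ g, i ⁅w, g⁆ = i w - ρ g (i w)) ∧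
    (∀ m, ∃ w ∈ W, i w = m) ∧ (∀ v ∈ W, ∀ w ∈ W, i (v * w) = i v + i w) := by
  classical
  haveI := h.W'_normal
  let π : G →* G ⧸ W' := QuotientGroup.mk' W'
  have hπ : ∀ x, π x = 1 ↔ x ∈ W' := fun x => QuotientGroup.eq_one_iff x
  let Wb : Subgroup (G ⧸ W') := W.map π
  haveI hWbn : Wb.Normal := h.W_normal.map π (QuotientGroup.mk'_surjective W')
  haveI : IsMulCommutative Wb := ⟨⟨by
    rintro ⟨_, a, ha, rfl⟩ ⟨_, b, hb, rfl⟩
    refine Subtype.ext (commutatorElement_eq_one_iff_commute.mp ?_).eq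
    rw [← map_commutatorElement, hπ]
    exact h.comm (commutator_mem_commutator ha hb)⟩⟩
  let i : G → Additive Wb := fun w =>
    if hw : π w ∈ Wb then Additive.ofMul ⟨π w, hw⟩ else 0
  have iv : ∀ w ∈ W, ((Additive.toMul (i w) : Wb) : G ⧸ W') = π w := fun w hw => by
    show ((Additive.toMul (dite _ _ _) : Wb) : G ⧸ W') = _
    rw [dif_pos (mem_map_of_mem π hw)]; rfl
  have ext : ∀ {a b : Additive Wb}, ((Additive.toMul a : Wb) : G ⧸ W') = (Additive.toMul b : Wb) →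
      a = b := fun e => Additive.toMul.injective (Subtype.ext e)
  let ρ : G → Additive Wb →+ Additive Wb := fun g =>
    MonoidHom.toAdditive (MulAut.conjNormal (π g)).toMonoidHom
  have ρv : ∀ g m, ((Additive.toMul (ρ g m) : Wb) : G ⧸ W') =
      π g * (Additive.toMul m : Wb) * (π g)⁻¹ := fun g m => MulAut.conjNormal_apply _ _
  have hR : ∀ r ∈ R, ∀ w ∈ W, π r * π w * (π r)⁻¹ = π w := by
    intro r hr w hw
    have e : π ⁅w, r⁆ = 1 := (hπ _).mpr (h.triv (commutator_mem_commutator hw hr))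
    rw [map_commutatorElement, commutatorElement_eq_one_iff_commute] at e
    rw [← e.eq, mul_inv_cancel_right]
  have hWc : ∀ w ∈ W, ∀ g : G, g * w * g⁻¹ ∈ W := fun w hw g => h.W_normal.conj_mem w hw g
  refine ⟨Additive Wb, inferInstance, fun c u => i ⁅c, u⁆, ρ, i, ?_, ?_, ?_, ?_, ?_,
    fun _ _ _ _ => rfl, ?_, ?_, ?_, ?_⟩
  · intro c hc d hd u hu
    refine ext ?_
    rw [toMul_add, Subgroup.coe_mul, iv _ (h.pair _ (mul_mem hc hd) u hu), iv _ (h.pair c hc u hu),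
      iv _ (h.pair d hd u hu)]
    have e : ⁅c * d, u⁆ = c * ⁅d, u⁆ * c⁻¹ * ⁅c, u⁆ := by simp only [commutatorElement_def]; group
    rw [e, map_mul, map_mul, map_mul, map_inv, hR c (h.C_le hc) _ (h.pair d hd u hu)]
    have := mul_comm (⟨π ⁅d, u⁆, mem_map_of_mem π (h.pair d hd u hu)⟩ : Wb)
      ⟨π ⁅c, u⁆, mem_map_of_mem π (h.pair c hc u hu)⟩
    exact congrArg Subtype.val this
  · intro c hc u hu v hv
    refine ext ?_
    rw [toMul_add, Subgroup.coe_mul, iv _ (h.pair c hc _ (mul_mem hu hv)), iv _ (h.pair c hc u hu),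
      iv _ (h.pair c hc v hv)]
    have e : ⁅c, u * v⁆ = ⁅c, u⁆ * (u * ⁅c, v⁆ * u⁻¹) := by simp only [commutatorElement_def]; group
    rw [e, map_mul, map_mul, map_mul, map_inv, hR u (h.Ω_le hu) _ (h.pair c hc v hv)]
  · intro c hc u hu g
    refine ext ?_
    rw [ρv, iv _ (h.pair _ (h.conjC hc) _ (h.conjΩ hu)), iv _ (h.pair c hc u hu), ← map_inv,
      ← map_mul, ← map_mul]
    exact congrArg π (map_commutatorElement (MulAut.conj g).toMonoidHom c u).symm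
  · intro g k m
    refine ext ?_
    rw [ρv, ρv, ρv, map_mul]; group
  · intro m
    refine ext ?_
    rw [ρv, map_one]; simp
  · intro w hw
    refine ⟨fun e => (hπ w).mp ?_, fun e => ext ?_⟩
    · rw [← iv w hw, e]; rfl
    · rw [iv w hw, (hπ w).mpr e]; rfl
  · intro w hw g
    have hwg : ⁅w, g⁆ ∈ W := by
      have := mul_mem hw (hWc _ (inv_mem hw) g)
      simpa [commutatorElement_def, mul_assoc] using this
    refine ext ?_
    rw [toMul_sub, Subgroup.coe_div, iv _ hwg, ρv, iv _ hw, ← map_inv, ← map_mul, ← map_mul,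
      ← map_div]
    refine congrArg π ?_
    simp only [commutatorElement_def, div_eq_mul_inv]; group
  · intro m
    obtain ⟨w, hw, e⟩ := (Additive.toMul m : Wb).2
    exact ⟨w, hw, ext (by rw [iv w hw, e])⟩
  · intro v hv w hw
    refine ext ?_
    rw [toMul_add, Subgroup.coe_mul, iv _ (mul_mem hv hw), iv v hv, iv w hw, map_mul]

variable {A : Set G} (hW : ∀ u ∈ W, ∀ a ∈ A, ∀ b ∈ A, ⁅⁅u, a⁆, b⁆ ∈ W')
  (hΩ : ∀ c ∈ C, ∀ u ∈ Ω, ∀ a ∈ A, ∀ b ∈ A, ⁅c, ⁅⁅u, a⁆, b⁆⁆ ∈ W')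
include hW hΩ

/-- Degree three. -/
theorem deg_three (hA : ∀ a ∈ A, a⁻¹ ∈ A) {c a₁ a₂ a₃ u : G} (hc : c ∈ C) (h1 : a₁ ∈ A)
    (h2 : a₂ ∈ A) (h3 : a₃ ∈ A) (hu : u ∈ Ω) : ⁅⁅⁅⁅c, a₁⁆, a₂⁆, a₃⁆, u⁆ ∈ W' := by
  obtain ⟨M, _, F, ρ, i, hl, hr, hc', hρm, hρ1, hFi, hi0, hic, hsur, -⟩ := h.exists_model
  have hcomm : ∀ d ∈ C, ∀ a, ∀ v ∈ Ω, F ⁅d, a⁆ v = F d v - ρ a (F d (a⁻¹ * v * a)) := by
    intro d hd a v hv
    have e : ρ a (F d (a⁻¹ * v * a)) = F (a * d * a⁻¹) v := by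
      rw [← hc' d hd _ (h.conjΩ' hv) a]; congr 1; group
    have e2 := hl _ (h.comm_mem_C (a := a) hd) _ (h.conjC (g := a) hd) v hv
    rw [show ⁅d, a⁆ * (a * d * a⁻¹) = d by simp only [commutatorElement_def]; group] at e2
    rw [e, e2, add_sub_cancel_right]
  have hsec : ∀ a ∈ A, ∀ b ∈ A, ∀ m, ρ b (ρ a m) = ρ a m + ρ b m - m := by
    intro a ha b hb m
    obtain ⟨w, hw, rfl⟩ := hsur m
    have hwa : ⁅w, a⁆ ∈ W := by
      have := mul_mem hw (h.W_normal.conj_mem _ (inv_mem hw) a)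
      simpa [commutatorElement_def, mul_assoc] using this
    have hwab : ⁅⁅w, a⁆, b⁆ ∈ W := by
      have := mul_mem hwa (h.W_normal.conj_mem _ (inv_mem hwa) b)
      simpa [commutatorElement_def, mul_assoc] using this
    have e := (hi0 _ hwab).mpr (hW w hw a ha b hb)
    rw [hic _ hwa, hic _ hw, map_sub] at e
    rw [← sub_eq_zero, ← e]; abel
  have hom : ∀ d ∈ C, ∀ v ∈ Ω, ∀ b, F d ⁅v, b⁆ = F d v - F d (b * v * b⁻¹) := by
    intro d hd v hv b
    have e2 := hr d hd _ (h.Ω_normal.conj_mem v hv b) _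
      (show (b * v * b⁻¹)⁻¹ * v ∈ Ω from mul_mem (inv_mem (h.conjΩ hv)) hv)
    rw [mul_inv_cancel_left] at e2
    have hvb : ⁅v, b⁆ ∈ Ω := by
      have := mul_mem hv (h.conjΩ (g := b) (inv_mem hv))
      simpa [commutatorElement_def, mul_assoc] using this
    have e3 := hr d hd _ hvb _ (h.conjΩ (g := b) hv)
    rw [show ⁅v, b⁆ * (b * v * b⁻¹) = v by simp only [commutatorElement_def]; group] at e3
    rw [e3, add_sub_cancel_right]
  have hquad : ∀ d ∈ C, ∀ v ∈ Ω, ∀ a ∈ A, ∀ b ∈ A, F d (b * (a * v * a⁻¹) * b⁻¹) =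
      F d (a * v * a⁻¹) + F d (b * v * b⁻¹) - F d v := by
    intro d hd v hv a ha b hb
    have hva : ⁅v, a⁆ ∈ Ω := by
      have := mul_mem hv (h.conjΩ (g := a) (inv_mem hv))
      simpa [commutatorElement_def, mul_assoc] using this
    have hvab : ⁅⁅v, a⁆, b⁆ ∈ Ω := by
      have := mul_mem hva (h.conjΩ (g := b) (inv_mem hva))
      simpa [commutatorElement_def, mul_assoc] using this
    have hbv := h.conjΩ (g := b) hv
    have hbav : ⁅b * v * b⁻¹, b * a * b⁻¹⁆ ∈ Ω := by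
      have := mul_mem hbv (h.conjΩ (g := b * a * b⁻¹) (inv_mem hbv))
      simpa [commutatorElement_def, mul_assoc] using this
    have e : F d ⁅⁅v, a⁆, b⁆ = 0 := by
      rw [hFi d hd _ hvab]; exact (hi0 _ (h.pair d hd _ hvab)).mpr (hΩ d hd v hv a ha b hb)
    rw [hom d hd _ hva b, hom d hd v hv a,
      show b * ⁅v, a⁆ * b⁻¹ = ⁅b * v * b⁻¹, b * a * b⁻¹⁆ from
        map_commutatorElement (MulAut.conj b).toMonoidHom v a,
      hom d hd _ hbv,
      show b * a * b⁻¹ * (b * v * b⁻¹) * (b * a * b⁻¹)⁻¹ = b * (a * v * a⁻¹) * b⁻¹ by group] at e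
    rw [← sub_eq_zero, ← e]; abel
  have hquad' : ∀ d ∈ C, ∀ v ∈ Ω, ∀ a ∈ A, ∀ b ∈ A, F d (b⁻¹ * (a⁻¹ * v * a) * b) =
      F d (a⁻¹ * v * a) + F d (b⁻¹ * v * b) - F d v := by
    intro d hd v hv a ha b hb
    have := hquad d hd v hv _ (hA a ha) _ (hA b hb)
    simpa only [inv_inv] using this
  have hd1 : ⁅c, a₁⁆ ∈ C := h.comm_mem_C hc
  have hd2 : ⁅⁅c, a₁⁆, a₂⁆ ∈ C := h.comm_mem_C hd1
  have hd3 : ⁅⁅⁅c, a₁⁆, a₂⁆, a₃⁆ ∈ C := h.comm_mem_C hd2
  rw [← hi0 _ (h.pair _ hd3 _ hu), ← hFi _ hd3 _ hu]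
  have u3 := h.conjΩ' (g := a₃) hu
  have u2 := h.conjΩ' (g := a₂) hu
  have u23 := h.conjΩ' (g := a₂) u3
  simp only [hcomm _ hd2 _ _ hu, hcomm _ hd1 _ _ hu, hcomm _ hd1 _ _ u3, hcomm _ hc _ _ hu,
    hcomm _ hc _ _ u2, hcomm _ hc _ _ u3, hcomm _ hc _ _ u23]
  rw [hquad' c hc _ u3 a₂ h2 a₁ h1, hquad' c hc u hu a₃ h3 a₁ h1, hquad' c hc u hu a₃ h3 a₂ h2,
    hquad' c hc u hu a₂ h2 a₁ h1]
  simp only [map_sub, map_add, hsec a₁ h1 a₂ h2, hsec a₁ h1 a₃ h3, hsec a₂ h2 a₃ h3]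
  abel

/-- Degree two, by the braid relation. -/
theorem deg_two {x : G} (hx : x ∈ A) {Z : Set G} (hZΩ : Ω = normalClosure Z)
    (hZx : ∀ z ∈ Z, Commute z x) (hfix : ∀ c ∈ C, ∀ z ∈ Z, ⁅⁅c, z⁆, x⁆ ∈ W')
    (hbraid : ∀ g : G, (∀ w ∈ W, ⁅w, x⁆ ∈ W' → ⁅w, g * x * g⁻¹⁆ ∈ W') ∨
      ∀ w ∈ W, ⁅w, x * (g * x * g⁻¹) * x * ((g * x * g⁻¹) * x * (g * x * g⁻¹))⁻¹⁆ ∈ W')
    {c u : G} (hc : c ∈ C) (hu : u ∈ Ω) : ⁅⁅⁅c, x⁆, x⁆, u⁆ ∈ W' := by
  obtain ⟨M, _, F, ρ, i, hl, hr, hc', hρm, hρ1, hFi, hi0, hic, hsur, -⟩ := h.exists_model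
  have hcomm : ∀ d ∈ C, ∀ a, ∀ v ∈ Ω, F ⁅d, a⁆ v = F d v - ρ a (F d (a⁻¹ * v * a)) := by
    intro d hd a v hv
    have e : ρ a (F d (a⁻¹ * v * a)) = F (a * d * a⁻¹) v := by
      rw [← hc' d hd _ (h.conjΩ' hv) a]; congr 1; group
    have e2 := hl _ (h.comm_mem_C (a := a) hd) _ (h.conjC (g := a) hd) v hv
    rw [show ⁅d, a⁆ * (a * d * a⁻¹) = d by simp only [commutatorElement_def]; group] at e2
    rw [e, e2, add_sub_cancel_right]
  have hWc : ∀ w ∈ W, ∀ g : G, ⁅w, g⁆ ∈ W := fun w hw g => by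
    have := mul_mem hw (h.W_normal.conj_mem _ (inv_mem hw) g)
    simpa [commutatorElement_def, mul_assoc] using this
  have hΩc : ∀ v ∈ Ω, ∀ g : G, ⁅v, g⁆ ∈ Ω := fun v hv g => by
    have := mul_mem hv (h.conjΩ (g := g) (inv_mem hv))
    simpa [commutatorElement_def, mul_assoc] using this
  have hom : ∀ d ∈ C, ∀ v ∈ Ω, ∀ b, F d ⁅v, b⁆ = F d v - F d (b * v * b⁻¹) := by
    intro d hd v hv b
    have e3 := hr d hd _ (hΩc v hv b) _ (h.conjΩ (g := b) hv)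
    rw [show ⁅v, b⁆ * (b * v * b⁻¹) = v by simp only [commutatorElement_def]; group] at e3
    rw [e3, add_sub_cancel_right]
  -- every conjugate of `x` is quadratic on the section and through the pairing
  have hsec : ∀ g m, ρ (g * x * g⁻¹) (ρ (g * x * g⁻¹) m) =
      ρ (g * x * g⁻¹) m + ρ (g * x * g⁻¹) m - m := by
    intro g m
    obtain ⟨w, hw, rfl⟩ := hsur m
    set y := g * x * g⁻¹
    have e : ⁅⁅w, y⁆, y⁆ = g * ⁅⁅g⁻¹ * w * g, x⁆, x⁆ * g⁻¹ := by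
      simp only [y, commutatorElement_def]; group
    have h0 := (hi0 _ (hWc _ (hWc w hw y) y)).mpr (e ▸ h.W'_normal.conj_mem _
      (hW _ (by simpa using h.W_normal.conj_mem w hw g⁻¹) x hx x hx) g)
    rw [hic _ (hWc w hw y), hic _ hw, map_sub] at h0
    rw [← sub_eq_zero, ← h0]; abel
  have hquad : ∀ g : G, ∀ d ∈ C, ∀ v ∈ Ω, F d ((g * x * g⁻¹) * v * (g * x * g⁻¹)⁻¹) =
      F d v + F d v - F d ((g * x * g⁻¹)⁻¹ * v * (g * x * g⁻¹)) := by
    intro g d hd v hv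
    set y := g * x * g⁻¹
    have hv' := h.conjΩ' (g := y) hv
    set t := y⁻¹ * v * y
    have e : ⁅d, ⁅⁅t, y⁆, y⁆⁆ = g * ⁅g⁻¹ * d * g, ⁅⁅g⁻¹ * t * g, x⁆, x⁆⁆ * g⁻¹ := by
      simp only [y, commutatorElement_def]; group
    have h0 : F d ⁅⁅t, y⁆, y⁆ = 0 := by
      rw [hFi d hd _ (hΩc _ (hΩc t hv' y) y)]
      exact (hi0 _ (h.pair d hd _ (hΩc _ (hΩc t hv' y) y))).mpr (e ▸ h.W'_normal.conj_mem _
        (hΩ _ (h.conjC' hd) _ (h.conjΩ' hv') x hx x hx) g)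
    rw [hom d hd _ (hΩc t hv' y) y, hom d hd t hv' y,
      show y * ⁅t, y⁆ * y⁻¹ = ⁅y * t * y⁻¹, y * y * y⁻¹⁆ from
        map_commutatorElement (MulAut.conj y).toMonoidHom t y,
      mul_inv_cancel_right, hom d hd _ (h.conjΩ hv'),
      show y * t * y⁻¹ = v by simp only [t]; group] at h0
    rw [← sub_eq_zero, ← h0]; abel
  have hρinv : ∀ g m, ρ g⁻¹ (ρ g m) = m := fun g m => by rw [← hρm, inv_mul_cancel, hρ1]
  have hfix' : ∀ d ∈ C, ∀ z ∈ Z, z ∈ Ω → ρ x (F d z) = F d z := by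
    intro d hd z hz hzΩ
    have hw := h.pair d hd z hzΩ
    have e := (hi0 _ (hWc _ hw x)).mpr (hfix d hd z hz)
    rw [hic _ hw, sub_eq_zero, ← hFi d hd z hzΩ] at e
    exact e.symm
  have main : ∀ g : G, ∀ d ∈ C, ∀ z ∈ Z, z ∈ Ω →
      F ⁅⁅d, g * x * g⁻¹⁆, g * x * g⁻¹⁆ z = 0 := by
    intro g d hd z hz hzΩ
    have hq := hsec g
    have hy := hquad g
    set y := g * x * g⁻¹ with hyd
    have hz' := h.conjΩ' (g := y) hzΩ
    have hz'' := h.conjΩ' (g := y) hz'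
    rw [hcomm _ (h.comm_mem_C hd) y z hzΩ, hcomm d hd y z hzΩ, hcomm d hd y _ hz']
    set L0 := F d z with hL0
    set L1 := F d (y⁻¹ * z * y) with hL1
    have e2 : F d (y⁻¹ * (y⁻¹ * z * y) * y) = L1 + L1 - L0 := by
      have e := hy d hd _ hz'
      rw [show y * (y⁻¹ * z * y) * y⁻¹ = z by group] at e
      rw [hL0, e]; abel
    rw [e2]
    suffices hD : ρ y ((L1 - L0) + (L1 - L0)) = (L1 - L0) + (L1 - L0) by
      simp only [map_sub, map_add, hq] at hD ⊢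
      rw [← sub_eq_zero] at hD
      rw [← hD]; abel
    have hL1' : L1 = ρ y⁻¹ (F (y * d * y⁻¹) z) := by
      rw [← hc' _ (h.conjC hd) z hzΩ y⁻¹, hL1]; congr 1 <;> group
    rcases hbraid g with hb | hb
    · have hfy : ∀ e ∈ C, ρ y (F e z) = F e z := by
        intro e he
        have hw := h.pair e he z hzΩ
        have e1 := (hi0 _ (hWc _ hw y)).mpr (hb _ hw (hfix e he z hz))
        rw [hic _ hw, sub_eq_zero, ← hFi e he z hzΩ] at e1
        exact e1.symm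
      have e0 := hfy d hd
      have e1 : ρ y L1 = L1 := by
        have e3 := hfy _ (h.conjC (g := y) hd)
        have e4 : ρ y⁻¹ (F (y * d * y⁻¹) z) = F (y * d * y⁻¹) z := by
          conv_lhs => rw [← e3]
          rw [hρinv]
        rw [hL1', e4, e3]
      rw [map_add, map_sub, e1, e0]
    · have hker : ∀ m, ρ (x * y * x) m = ρ (y * x * y) m := by
        intro m
        obtain ⟨w, hw, hwm⟩ := hsur (ρ (y * x * y) m)
        have e1 := (hi0 _ (hWc w hw _)).mpr (hb w hw)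
        rw [hic _ hw, sub_eq_zero, hwm, ← hρm, mul_assoc (x * y * x), inv_mul_cancel, mul_one] at e1
        exact e1.symm
      set w := x * y * x with hw
      have hP : ρ y (F d (w * z * w⁻¹)) = F d (w * z * w⁻¹) := by
        have e1 : F d (w * z * w⁻¹) = ρ w (F (w⁻¹ * d * w) z) := by
          rw [← hc' _ (h.conjC' hd) z hzΩ w]; congr 1; group
        have e2 : ∀ m, ρ y (ρ w m) = ρ w (ρ x m) := by
          intro m
          calc ρ y (ρ w m) = ρ (y * x * y) (ρ x m) := by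
                rw [← hρm, ← hρm]; congr 2; rw [hw]; group
            _ = ρ w (ρ x m) := (hker _).symm
        rw [e1, e2, hfix' _ (h.conjC' hd) z hz hzΩ]
      have hN : ρ y (F d (w⁻¹ * z * w)) = F d (w⁻¹ * z * w) := by
        have e1 : F d (w⁻¹ * z * w) = ρ w⁻¹ (F (w * d * w⁻¹) z) := by
          rw [← hc' _ (h.conjC hd) z hzΩ w⁻¹]; congr 1 <;> group
        have e2 : ∀ m, ρ w (ρ y m) = ρ x (ρ w m) := by
          intro m
          calc ρ w (ρ y m) = ρ x (ρ (y * x * y) m) := by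
                rw [← hρm, ← hρm]; congr 2; rw [hw]; group
            _ = ρ x (ρ w m) := by rw [hker]
        have e3 : ∀ m, ρ y (ρ w⁻¹ m) = ρ w⁻¹ (ρ x m) := by
          intro m
          have := e2 (ρ w⁻¹ m)
          rw [← hρm w w⁻¹, mul_inv_cancel, hρ1] at this
          rw [← this, hρinv]
        rw [e1, e3, hfix' _ (h.conjC hd) z hz hzΩ]
      have hzx : x * z * x⁻¹ = z ∧ x⁻¹ * z * x = z := by
        have hzx := hZx z hz
        constructor
        · rw [← hzx.eq, mul_inv_cancel_right]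
        · rw [mul_assoc, hzx.eq, inv_mul_cancel_left]
      have hx1 : ∀ e ∈ C, ∀ v ∈ Ω, F e (x * v * x⁻¹) = F e v + F e v - F e (x⁻¹ * v * x) := by
        intro e he v hv
        have := hquad 1 e he v hv
        simpa using this
      -- the two conjugates of `z`
      have hwz : w * z * w⁻¹ = x * (y * z * y⁻¹) * x⁻¹ := by
        rw [hw]
        calc x * y * x * z * (x * y * x)⁻¹ = x * (y * (x * z * x⁻¹) * y⁻¹) * x⁻¹ := by group
          _ = _ := by rw [hzx.1]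
      have hwz' : w⁻¹ * z * w = x⁻¹ * (y⁻¹ * z * y) * x := by
        rw [hw]
        calc (x * y * x)⁻¹ * z * (x * y * x) = x⁻¹ * (y⁻¹ * (x⁻¹ * z * x) * y) * x := by group
          _ = _ := by rw [hzx.2]
      have eP : F d (w * z * w⁻¹) = L0 + L0 - F d (x * (y⁻¹ * z * y) * x⁻¹) := by
        have hc2 := h.conjC' (g := x) hd
        have conv : ∀ v ∈ Ω, F d (x * v * x⁻¹) = ρ x (F (x⁻¹ * d * x) v) := fun v hv => by
          rw [← hc' _ hc2 v hv x]; congr 1; group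
        rw [hwz, conv _ (h.conjΩ hzΩ), hy _ hc2 z hzΩ, map_sub, map_add, ← conv _ hzΩ,
          ← conv _ hz', hzx.1]
      have eN : F d (w⁻¹ * z * w) = L1 + L1 - F d (x * (y⁻¹ * z * y) * x⁻¹) := by
        rw [hwz', hx1 d hd _ hz']
        abel
      have e5 : (L1 - L0) + (L1 - L0) = F d (w⁻¹ * z * w) - F d (w * z * w⁻¹) := by
        rw [eP, eN]; abel
      rw [e5, map_sub, hP, hN]
  have hd2 : ⁅⁅c, x⁆, x⁆ ∈ C := h.comm_mem_C (h.comm_mem_C hc)
  suffices hzero : F ⁅⁅c, x⁆, x⁆ u = 0 by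
    rw [hFi _ hd2 _ hu] at hzero
    exact (hi0 _ (h.pair _ hd2 _ hu)).mp hzero
  let K : Subgroup G :=
    { carrier := {v | v ∈ Ω ∧ F ⁅⁅c, x⁆, x⁆ v = 0}
      one_mem' := ⟨one_mem _, by
        have e := hr _ hd2 1 (one_mem _) 1 (one_mem _)
        rw [one_mul] at e
        simpa using e⟩
      mul_mem' := fun {a b} ha hb => ⟨mul_mem ha.1 hb.1, by
        rw [hr _ hd2 a ha.1 b hb.1, ha.2, hb.2, add_zero]⟩
      inv_mem' := fun {a} ha => ⟨inv_mem ha.1, by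
        have e1 := hr _ hd2 1 (one_mem _) 1 (one_mem _)
        rw [one_mul] at e1
        have e := hr _ hd2 a ha.1 a⁻¹ (inv_mem ha.1)
        rw [mul_inv_cancel, ha.2, zero_add, left_eq_add.mp e1] at e
        exact e.symm⟩ }
  have hle : Ω ≤ K := by
    rw [hZΩ]
    refine (Subgroup.closure_le _).mpr fun v hv => ?_
    obtain ⟨z, hz, hzv⟩ := Group.mem_conjugatesOfSet_iff.mp hv
    obtain ⟨g, rfl⟩ := isConj_iff.mp hzv
    have hzΩ : z ∈ Ω := hZΩ ▸ subset_normalClosure hz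
    refine ⟨h.conjΩ hzΩ, ?_⟩
    have hm := main g⁻¹ _ (h.conjC' (g := g) hc) z hz hzΩ
    have e : ⁅⁅c, x⁆, x⁆ =
        g * ⁅⁅g⁻¹ * c * g, g⁻¹ * x * g⁻¹⁻¹⁆, g⁻¹ * x * g⁻¹⁻¹⁆ * g⁻¹ := by
      simp only [commutatorElement_def]; group
    rw [e, hc' _ (h.comm_mem_C (h.comm_mem_C (h.conjC' hc))) z hzΩ, hm, map_zero]
  exact (hle hu).2

end Pairing

end CfsgLib.Yoshida49
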