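import Cfsg.Agent.Yoshida49.Bad
import Cfsg.Agent.NoOffender.Fusion

/-!
# Transfer control by the centre and one further functor for `p = 3`
-/

set_option autoImplicit false
set_option linter.style.haveILetI false
set_option linter.unusedSectionVars false

namespace CfsgLib.Yoshida49

open Subgroup Cfsg CfsgLib CfsgLib.FFCells
open CfsgLib.ConjFunctor (IsSylowIn indFam transferGen)
open scoped commutatorElement IsMulCommutative

universe u

variable {X : Type u} [Group X] [Finite X]

theorem le_normalizer_kOf (S : Subgroup X) : S ≤ normalizer (kOf S : Set X) := fun s hs => by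
  rw [mem_norm, map_kOf (MulAut.conj s).injective, mem_norm.mp (le_normalizer hs)]

/-- In a minimal failure the value of the functor is normal. -/
theorem Hyp.normal_kOf {S M : Subgroup X} (h : Hyp S M) (hd : Nonempty (TData 3 X M)) :
    (kOf S).Normal := by
  by_cases hJ : thompsonSubgroupOf 3 S ≤ pCore 3 X
  · exact h.normal_kOf_of_J_le hJ
  obtain ⟨𝒞, h𝒞, ho⟩ := h.exists_cfg hJ
  have hO : OCfg (sX X) h.sylQ (M.map (prX X)) 𝒞 := ⟨h𝒞, ho, h.pmin, h.noCore⟩
  obtain ⟨c, hc⟩ := h𝒞.nonempty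
  obtain ⟨G, hG, n, f, hf, hfG, hfτ⟩ := h.exists_node_of_tdata hO hJ hd.some ⟨c, hc⟩
  have hk : kOf S = ((nodeT 3 ↥(bS S)).map n.τ).map f := by
    rw [Subgroup.map_map, hfτ]; rfl
  have hGN : G ≤ normalizer (kOf S : Set X) := by
    rw [hk, ← hfG, MonoidHom.range_eq_map, ← normalizer_eq_top_iff.mpr (nodeT_normal n)]
    exact le_normalizer_map f
  refine normalizer_eq_top_iff.mp (top_le_iff.mp ?_)
  have htop : G ⊔ S = ⊤ := by
    by_contra hne
    have hM := h.uniq _ le_sup_right hne
    refine hO.grp_not_le ⟨c, hc⟩ ?_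
    exact le_trans (le_trans le_sup_left hG.image.ge) (map_mono (le_sup_left.trans hM))
  exact htop.ge.trans (sup_le hGN (le_normalizer_kOf S))

/-- The centre and the further functor. -/
def fam3 : Set (∀ (Q : Type u) [Group Q], Subgroup Q) :=
  {fun Q [Group Q] => center Q, fun Q [Group Q] => kFun Q}

theorem isCharPFunctor_fam3 : ∀ W ∈ (fam3 : Set (∀ (Q : Type u) [Group Q], Subgroup Q)),
    IsCharPFunctor.{u} 3 W := by
  intro W hW
  rcases hW with hW | hW
  · subst hW; exact NoOffender.isCharPFunctor_center 3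
  · rw [Set.mem_singleton_iff] at hW; subst hW; exact isCharPFunctor_kFun

theorem inducedFunctor_center (S : Subgroup X) :
    inducedFunctor (G := X) (fun Q [Group Q] => center Q) S = S ⊓ centralizer (S : Set X) := by
  ext x
  constructor
  · rintro ⟨z, hz, rfl⟩
    exact ⟨z.2, mem_centralizer_iff.mpr fun y hy =>
      congrArg Subtype.val (mem_center_iff.mp hz ⟨y, hy⟩)⟩
  · intro hx
    exact ⟨⟨x, hx.1⟩, mem_center_iff.mpr fun y =>
      Subtype.ext (mem_centralizer_iff.mp hx.2 y y.2), rfl⟩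

/-- For `p = 3` the centre and the further functor control transfer. -/
theorem controlsTransfer_fam3 :
    ∀ (X : Type u) [Group X] [Finite X], FamilyControlsTransferIn 3 (indFam fam3 X) ⊤ := by
  have h𝓦 := isCharPFunctor_fam3.{u}
  have hne : (fam3 : Set (∀ (Q : Type u) [Group Q], Subgroup Q)).Nonempty := ⟨_, Or.inl rfl⟩
  suffices H : ∀ (n : ℕ) (X : Type u) [Group X] [Finite X], Nat.card X = n →
      FamilyControlsTransferIn 3 (indFam fam3 X) ⊤ from fun X _ _ => H _ X rfl
  intro n
  induction n using Nat.strongRecOn with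
  | ind n ih =>
  intro X _ _ hX
  obtain ⟨S, -, hS⟩ := ConjFunctor.exists_isSylowIn_ge (A := (⊥ : Subgroup X)) (H := ⊤) (p := 3)
    bot_le IsPGroup.of_bot
  refine ConjFunctor.familyControlsTransferIn_iff.mpr ⟨S, hS, ?_⟩
  by_contra hfail
  have hfail' : ¬ S ⊓ commutator X ≤ transferGen (indFam fam3 X) ⊤ S := hfail
  have hsub : ∀ H : Subgroup X, H ≠ ⊤ → FamilyControlsTransferIn 3 (indFam fam3 ↥H) ⊤ := fun K hK =>
    ih _ (hX ▸ lt_of_le_of_ne (card_le_card_group K) fun h => hK (eq_top_of_card_eq K h)) K rfl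
  have hquot : ∀ (N : Subgroup X) [N.Normal], N ≠ ⊥ →
      FamilyControlsTransferIn 3 (indFam fam3 (X ⧸ N)) ⊤ := fun N _ hN =>
    ih _ (by
      have h1 := Subgroup.card_mul_index N
      have h2 : Nat.card N ≠ 1 := fun h => hN (card_eq_one.mp h)
      have h3 : 0 < Nat.card N := Nat.card_pos
      have h4 : N.index ≠ 0 := FiniteIndex.index_ne_zero
      show N.index < n
      nlinarith [show 1 < Nat.card N by omega, Nat.pos_of_ne_zero h4]) (X ⧸ N) rfl
  obtain ⟨hc, ⟨hM, hmax⟩, ⟨-, hQM⟩, -⟩ :=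
    ConjFunctor.minimal_failure_structure h𝓦 hne hsub hquot hS hfail'
  set R := transferGen (indFam fam3 X) ⊤ S
  set M := normalizer ((R ⊓ pCore 3 X : Subgroup X) : Set X)
  have hnn : ∀ W ∈ (fam3 : Set (∀ (Q : Type u) [Group Q], Subgroup Q)),
      ¬ (inducedFunctor (G := X) W S).Normal := by
    intro W hW hn
    refine hfail' (le_trans ?_ (le_iSup₂ (inducedFunctor (G := X) W) ⟨W, hW, rfl⟩))
    rw [normalizer_eq_top_iff.mpr hn, top_inf_eq]
    rfl
  have hQR : ¬ pCore 3 X ⊓ commutator X ≤ pCore 3 X ⊓ R := fun h =>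
    hfail' (ConjFunctor.transfer_quotient_pCore h𝓦 hS hsub (hquot _ fun hQ => hnn _ (Or.inl rfl) (by
      have hc' : centralizer (pCore 3 X : Set X) ≤ pCore 3 X := hc
      have htop : ∀ x : X, x = 1 := fun x => by
        rw [hQ] at hc'
        exact mem_bot.mp (hc' (by simp [mem_centralizer_iff]))
      exact ⟨fun x hx g => by rw [htop (g * x * g⁻¹)]; exact one_mem _⟩))
      (h.trans inf_le_right))
  have hSM : S ≤ M := hmax S le_rfl fun e => hnn _ (Or.inl rfl) (by
    rw [inducedFunctor_center, e]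
    simp only [top_inf_eq, coe_top, centralizer_univ]
    infer_instance)
  have h : Hyp S M := ⟨hS, hc, hSM, hM, hmax, by
    rw [← inducedFunctor_center]; exact hnn _ (Or.inl rfl)⟩
  refine hnn _ (Or.inr rfl) ?_
  rw [inducedFunctor_kFun]
  exact h.normal_kOf (exists_tdata hS hSM inf_le_left (hQM.trans le_rfl) hQR)

end CfsgLib.Yoshida49
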