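import Cfsg.Agent.LocalEven50.Twist
import Cfsg.Agent.PLocal.Thompson
import Cfsg.Agent.ConjFunctor.Pairing
import Cfsg.Prelude.Def_LocalEven

/-!
# Nodes over an abstract `p`-group

A node is an embedding of a `p`-group `B` as a Sylow subgroup of a finite group `G` with a normal
module `V ≤ O_p(G)` on which `B / O_p(G)` acts like a root group on a natural module, together with a
chief factor below `O_p(G)` on which `B` does not act with small degree.
-/

set_option linter.style.haveILetI false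
set_option linter.unusedSectionVars false

namespace CfsgLib.Yoshida49

open Subgroup Cfsg CfsgLib CfsgLib.LocalEven50
open scoped commutatorElement

universe u

/-- `Ω₁` of the centre. -/
def zB (p : ℕ) (B : Type*) [Group B] : Subgroup B := omegaOne p (center B)

theorem map_center_equiv {A C : Type*} [Group A] [Group C] (φ : A ≃* C) :
    (center A).map φ.toMonoidHom = center C := by
  ext c
  simp only [mem_map, mem_center_iff]
  constructor
  · rintro ⟨a, ha, rfl⟩ d
    obtain ⟨b, rfl⟩ := φ.surjective d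
    show φ b * φ a = φ a * φ b
    rw [← map_mul, ← map_mul, ha b]
  · intro hc
    exact ⟨φ.symm c, fun b => φ.injective (by simpa using hc (φ b)), φ.apply_symm_apply c⟩

theorem map_zB {A C : Type*} [Group A] [Group C] (p : ℕ) (φ : A ≃* C) :
    (zB p A).map φ.toMonoidHom = zB p C := by
  rw [zB, PLocal.map_omegaOne φ.injective, map_center_equiv, zB]

/-- An embedding of `B` as a Sylow subgroup of a group in which `B` does not act with small degree
on every chief factor below `O_p`. -/
structure Node (p : ℕ) [Fact p.Prime] (B : Type u) [Group B] : Type (u + 1) where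
  G : Type u
  [grp : Group G]
  [fin : Finite G]
  τ : B →* G
  inj : Function.Injective τ
  isP : IsPGroup p τ.range
  index : ¬ p ∣ τ.range.index
  Vg : Subgroup G
  Vn : Vg.Normal
  V_le : Vg ≤ pCore p G
  V_comm : ⁅Vg, pCore p G⁆ = ⊥
  cent : τ.range ⊓ centralizer (Vg : Set G) ≤ pCore p G
  z_le : (zB p B).map τ ≤ Vg
  quad : ⁅Vg, τ.range⁆ ≤ (zB p B).map τ
  fixed : ∀ s ∈ τ.range, s ∉ pCore p G → ∀ v ∈ Vg, Commute v s → v ∈ (zB p B).map τ
  q : ℕ
  one_lt : 1 < q
  card_core : Nat.card (pCore p G) * q = Nat.card τ.range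
  card_Vg : Nat.card Vg = q * Nat.card (zB p B)
  Ub : Subgroup G
  Wb : Subgroup G
  chief : IsChiefFactor Ub Wb
  Ub_le : Ub ≤ pCore p G
  bad : ∃ u ∈ Ub, ∃ a ∈ τ.range, ∃ b ∈ τ.range, ⁅⁅u, a⁆, b⁆ ∉ Wb ∧
    (q ≠ 3 → ∃ c ∈ τ.range, ⁅⁅⁅u, a⁆, b⁆, c⁆ ∉ Wb)
  two : q = 3 → ∃ P : Subgroup G, P.Normal ∧ pCore p G ≤ P ∧
    (∀ y ∈ P, ∃ k, y ^ 2 ^ k ∈ pCore p G) ∧ P ⊔ τ.range = ⊤

attribute [instance] Node.grp Node.fin Node.Vn

variable {p : ℕ} [Fact p.Prime] {B B' : Type u} [Group B] [Group B']

namespace Node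

variable (n : Node p B)

/-- `O_p` of the ambient group, inside `B`. -/
def R : Subgroup B := (pCore p n.G).comap n.τ

/-- The module, inside `B`. -/
def V : Subgroup B := n.Vg.comap n.τ

/-- The conjugate of a subgroup of `B` by an element of the ambient group, inside `B`. -/
def act (g : n.G) (X : Subgroup B) : Subgroup B := (cj g (X.map n.τ)).comap n.τ

theorem core_le : pCore p n.G ≤ n.τ.range :=
  PLocal.pCore_le_sylow (n.isP.toSylow n.index)

theorem Vg_le_range : n.Vg ≤ n.τ.range := n.V_le.trans n.core_le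

theorem range_comp (φ : B' ≃* B) : (n.τ.comp φ.toMonoidHom).range = n.τ.range := by
  rw [MonoidHom.range_comp, MonoidHom.range_eq_top.mpr φ.surjective, ← MonoidHom.range_eq_map]

theorem map_zB_comp (φ : B' ≃* B) :
    (zB p B').map (n.τ.comp φ.toMonoidHom) = (zB p B).map n.τ := by
  rw [← Subgroup.map_map, map_zB]

/-- The same node for an isomorphic `p`-group. -/
def twist (φ : B' ≃* B) : Node p B' where
  G := n.G
  τ := n.τ.comp φ.toMonoidHom
  inj := n.inj.comp φ.injective
  isP := by rw [n.range_comp]; exact n.isP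
  index := by rw [n.range_comp]; exact n.index
  Vg := n.Vg
  Vn := n.Vn
  V_le := n.V_le
  V_comm := n.V_comm
  cent := by rw [n.range_comp]; exact n.cent
  z_le := by rw [n.map_zB_comp]; exact n.z_le
  quad := by rw [n.range_comp, n.map_zB_comp]; exact n.quad
  fixed := by rw [n.range_comp, n.map_zB_comp]; exact n.fixed
  q := n.q
  one_lt := n.one_lt
  card_core := by rw [n.range_comp]; exact n.card_core
  card_Vg := by
    rw [n.card_Vg, ← map_zB p φ, card_map_of_injective (f := φ.toMonoidHom) φ.injective]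
  Ub := n.Ub
  Wb := n.Wb
  chief := n.chief
  Ub_le := n.Ub_le
  bad := by rw [n.range_comp]; exact n.bad
  two := by rw [n.range_comp]; exact n.two

theorem map_top : (⊤ : Subgroup B).map n.τ = n.τ.range := (MonoidHom.range_eq_map n.τ).symm

theorem map_comap {X : Subgroup n.G} (h : X ≤ n.τ.range) : (X.comap n.τ).map n.τ = X := by
  rw [map_comap_eq, inf_eq_right.mpr h]

theorem comap_map (X : Subgroup B) : (X.map n.τ).comap n.τ = X :=
  comap_map_eq_self_of_injective n.inj X

theorem map_le_map {X Y : Subgroup B} : X.map n.τ ≤ Y.map n.τ ↔ X ≤ Y :=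
  map_le_map_iff_of_injective n.inj

theorem map_R : n.R.map n.τ = pCore p n.G := n.map_comap n.core_le

theorem map_V : n.V.map n.τ = n.Vg := n.map_comap n.Vg_le_range

theorem map_le_core {X : Subgroup B} : X.map n.τ ≤ pCore p n.G ↔ X ≤ n.R :=
  map_le_iff_le_comap

instance R_normal : n.R.Normal :=
  Normal.comap inferInstance _

instance V_normal : n.V.Normal := Normal.comap inferInstance _

theorem commutator_eq_bot {X Y : Subgroup B} : ⁅X, Y⁆ = ⊥ ↔ ⁅X.map n.τ, Y.map n.τ⁆ = ⊥ := by
  rw [← map_commutator, map_eq_bot_iff_of_injective _ n.inj]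

theorem commutator_V_R : ⁅n.V, n.R⁆ = ⊥ := by
  rw [n.commutator_eq_bot, map_V, map_R, n.V_comm]

theorem le_R_iff {X : Subgroup B} : X ≤ n.R ↔ ⁅n.V, X⁆ = ⊥ := by
  refine ⟨fun h => le_bot_iff.mp ((commutator_mono le_rfl h).trans n.commutator_V_R.le), fun h => ?_⟩
  rw [← n.map_le_core]
  refine le_trans (le_inf (Subgroup.map_le_range n.τ X) ?_) n.cent
  rw [← commutator_eq_bot_iff_le_centralizer, commutator_comm, ← n.map_V, ← n.commutator_eq_bot]
  exact h

theorem V_le_R : n.V ≤ n.R := comap_mono n.V_le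

theorem zB_le_V : zB p B ≤ n.V := map_le_iff_le_comap.mp n.z_le

theorem zB_le_R : zB p B ≤ n.R := n.zB_le_V.trans n.V_le_R

theorem V_comm' : ⁅n.V, n.V⁆ = ⊥ := n.le_R_iff.mp n.V_le_R

theorem quad' : ⁅n.V, (⊤ : Subgroup B)⁆ ≤ zB p B := by
  rw [← n.map_le_map, map_commutator, map_V, map_top]; exact n.quad

/-- A subgroup of `V` centralised by something outside `O_p` lies in `Ω₁(Z(B))`. -/
theorem fix' {Y X : Subgroup B} (hY : Y ≤ n.V) (hX : ¬ X ≤ n.R) (h : ⁅Y, X⁆ = ⊥) :
    Y ≤ zB p B := by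
  obtain ⟨x, hx, hxR⟩ := SetLike.not_le_iff_exists.mp hX
  intro y hy
  have hc : Commute y x :=
    commutatorElement_eq_one_iff_commute.mp (mem_bot.mp (h.le (commutator_mem_commutator hy hx)))
  obtain ⟨z, hz, e⟩ := n.fixed (n.τ x) ⟨x, rfl⟩ hxR (n.τ y) (hY hy) (hc.map n.τ)
  exact n.inj e ▸ hz

theorem card_R : Nat.card n.R * n.q = Nat.card B := by
  rw [← card_map_of_injective (f := n.τ) n.inj, n.map_R, n.card_core, ← n.map_top,
    card_map_of_injective n.inj, card_top]

theorem card_V : Nat.card n.V = n.q * Nat.card (zB p B) := by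
  rw [← card_map_of_injective (f := n.τ) n.inj, n.map_V, n.card_Vg]

theorem isPGroup (n : Node p B) : IsPGroup p B :=
  n.isP.of_equiv (MonoidHom.ofInjective n.inj).symm

theorem finite (n : Node p B) : Finite B := Finite.of_injective n.τ n.inj

/-! ### The action of the ambient group -/

theorem map_act {g : n.G} {X : Subgroup B} (hX : X ≤ n.R) :
    (n.act g X).map n.τ = cj g (X.map n.τ) := by
  exact n.map_comap (((cj_mono (n.map_le_core.mpr hX)).trans (cj_normal g _).le).trans n.core_le)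

theorem act_le {g : n.G} {X : Subgroup B} (hX : X ≤ n.R) : n.act g X ≤ n.R := by
  rw [← n.map_le_core, n.map_act hX]
  exact (cj_mono (n.map_le_core.mpr hX)).trans (cj_normal g _).le

theorem act_V (g : n.G) : n.act g n.V = n.V := by
  rw [act, map_V, cj_normal g n.Vg]; rfl

theorem act_mono {g : n.G} {X Y : Subgroup B} (h : X ≤ Y) : n.act g X ≤ n.act g Y :=
  comap_mono (cj_mono (map_mono h))

theorem act_comm {g : n.G} {X Y : Subgroup B} (h : ⁅X, Y⁆ = ⊥) :
    ⁅n.act g X, n.act g Y⁆ = ⊥ := by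
  rw [n.commutator_eq_bot]
  exact le_bot_iff.mp ((commutator_mono (map_comap_le _ _) (map_comap_le _ _)).trans
    (cj_comm_bot (n.commutator_eq_bot.mp h)).le)

theorem act_act_inv {g : n.G} {X : Subgroup B} (hX : X ≤ n.R) :
    n.act g (n.act g⁻¹ X) = X := by
  rw [act, n.map_act hX, cj_cj_inv, comap_map]

theorem act_inv_act {g : n.G} {X : Subgroup B} (hX : X ≤ n.R) :
    n.act g⁻¹ (n.act g X) = X := by
  rw [act, n.map_act hX, cj_inv_cj, comap_map]

theorem act_mul {g h : n.G} {X : Subgroup B} (hX : X ≤ n.R) :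
    n.act (g * h) X = n.act g (n.act h X) := by
  show _ = (cj g ((n.act h X).map n.τ)).comap n.τ
  rw [n.map_act hX, ← cj_mul]; rfl

theorem act_range (s : B) (X : Subgroup B) :
    n.act (n.τ s) X = X.map (MulAut.conj s).toMonoidHom := by
  have e : n.τ.comp (MulAut.conj s).toMonoidHom = (MulAut.conj (n.τ s)).toMonoidHom.comp n.τ :=
    MonoidHom.ext fun x => by simp
  rw [act, cj, Subgroup.map_map, ← e, ← Subgroup.map_map, comap_map]

theorem card_act {g : n.G} {X : Subgroup B} (hX : X ≤ n.R) :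
    Nat.card (n.act g X) = Nat.card X := by
  rw [← card_map_of_injective (f := n.τ) n.inj, n.map_act hX, card_cj,
    card_map_of_injective n.inj]

theorem act_commutator {g : n.G} {X Y : Subgroup B} (hX : X ≤ n.R) (hY : Y ≤ n.R) :
    n.act g ⁅X, Y⁆ = ⁅n.act g X, n.act g Y⁆ := by
  apply map_injective n.inj
  have h : ⁅X, Y⁆ ≤ n.R := (commutator_mono hX hY).trans (commutator_le_self _)
  rw [n.map_act h, map_commutator, map_commutator, n.map_act hX, n.map_act hY, cj_commutator]

/-! ### Twisting -/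

theorem twist_R (φ : B' ≃* B) : (n.twist φ).R = n.R.comap φ.toMonoidHom := rfl

theorem twist_V (φ : B' ≃* B) : (n.twist φ).V = n.V.comap φ.toMonoidHom := rfl

theorem twist_act (φ : B' ≃* B) (g : n.G) (X : Subgroup B') :
    (n.twist φ).act g X = (n.act g (X.map φ.toMonoidHom)).comap φ.toMonoidHom := by
  show ((cj g (X.map (n.τ.comp φ.toMonoidHom))).comap (n.τ.comp φ.toMonoidHom)) = _
  rw [← Subgroup.map_map, ← comap_comap]
  rfl

end Node

end CfsgLib.Yoshida49
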