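import Cfsg.Agent.Yoshida49.Words
import Cfsg.Agent.Yoshida49.Braid

/-!
# The levels stay below every `O_p`

Half of a critical word gives layers of `O_p` of its target on each of which the top acts with small
degree; this contradicts the chief factor of the node.
-/

set_option linter.style.haveILetI false
set_option linter.unusedSectionVars false

namespace CfsgLib.Yoshida49

open Subgroup Cfsg CfsgLib CfsgLib.LocalEven50
open scoped commutatorElement

universe u

variable {p : ℕ} [Fact p.Prime] {B : Type u} [Group B]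

/-- The module of the `i`-th letter, carried by the letters before it. -/
def zW (w : List (Σ m : Node p B, m.G)) (i : ℕ) : Subgroup B :=
  if h : i < w.length then pushW (w.take i) (w[i].1.V) else ⊥

variable {k : ℕ} {w : List (Σ m : Node p B, m.G)}

theorem zW_eq {i : ℕ} (h : i < w.length) : zW w i = pushW (w.take i) (w[i].1.V) := dif_pos h

theorem zW_mem_lev {i : ℕ} (h : i < w.length) : zW w i ∈ lev p B i := by
  rw [zW_eq h]
  have := pushW_mem_lev (w := w.take i) (mem_lev_zero (w[i].1))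
  rwa [List.length_take, min_eq_left h.le, zero_add] at this

theorem eq_take_drop {i : ℕ} (h : i < w.length) :
    w = w.take i ++ w[i] :: w.drop (i + 1) := by
  conv_lhs => rw [← List.take_append_drop i w, List.drop_eq_getElem_cons h]

/-- A subgroup commuting with the modules along a word is an image under it. -/
theorem exists_pull (hsm : Small p B k) : ∀ {u : List (Σ m : Node p B, m.G)}, u.length ≤ k →
    ∀ {Y : Subgroup B}, (∀ i < u.length, ⁅zW u i, Y⁆ = ⊥) →
      ∃ Y', pushW u Y' = Y ∧ GoodW u Y' := by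
  intro u
  induction u with
  | nil => exact fun _ Y _ => ⟨Y, rfl, trivial⟩
  | cons c u ih =>
    intro hlen Y hY
    have hl : u.length < k := by simp only [List.length_cons] at hlen; omega
    have h0 : Y ≤ c.1.R := c.1.le_R_iff.mpr (by
      have := hY 0 (by simp)
      rwa [zW_eq (by simp)] at this)
    obtain ⟨Y', e, hg⟩ := ih hl.le (Y := c.1.act c.2⁻¹ Y) fun i hi => by
      have hZ : zW u i ≤ c.1.R := hsm i (by omega) _ (zW_mem_lev hi) _
      have h1 := hY (i + 1) (by simpa using hi)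
      rw [zW_eq (by simpa using hi)] at h1
      simp only [List.take_succ_cons, pushW, List.getElem_cons_succ] at h1
      rw [← c.1.act_inv_act (g := c.2) hZ, zW_eq hi]
      exact c.1.act_comm h1
    refine ⟨Y', ?_, ?_, hg⟩
    · rw [pushW, e, c.1.act_act_inv h0]
    · rw [e]; exact c.1.act_le h0

namespace Crit

variable [Finite B] {n e : Node p B} (C : Crit p k n w e)
include C

theorem zW_comm_top {i : ℕ} (h : i < k) : ⁅zW w i, pushW w e.V⁆ = ⊥ := by
  have hi : i < w.length := C.length.symm ▸ h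
  have hlen : (w.drop (i + 1)).length < k := by rw [List.length_drop, C.length]; omega
  have hX : pushW (w.drop (i + 1)) e.V ≤ w[i].1.R :=
    C.small _ hlen _ (by simpa using pushW_mem_lev (w := w.drop (i + 1)) (mem_lev_zero e)) _
  conv_lhs => arg 2; rw [eq_take_drop hi, pushW_append]
  rw [zW_eq hi]
  exact pushW_comm _ (w[i].1.le_R_iff.mp (w[i].1.act_le hX))

theorem zW_comm_lev {i j : ℕ} (h : i + j < k) {X : Subgroup B} (hX : X ∈ lev p B j) :
    ⁅zW w i, X⁆ = ⊥ := by
  have hi : i < w.length := by rw [C.length]; omega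
  have hlen : (w.take i).length = i := by rw [List.length_take, min_eq_left hi.le]
  obtain ⟨eX, -⟩ := push_pullW C.small (w := w.take i) hX (by omega)
  rw [zW_eq hi, ← eX]
  exact pushW_comm _ (w[i].1.le_R_iff.mp (C.small _ (by rw [hlen]; omega) _ (pullW_mem_lev hX) _))

/-- The top acts quadratically modulo `Ω₁(Z(B))` on what commutes with half of the word. -/
theorem quad_half {Y : Subgroup B} (hY : ∀ i < k / 2, ⁅zW w i, Y⁆ = ⊥) :
    ⁅⁅Y, pushW w e.V⁆, pushW w e.V⁆ ≤ zB p B := by
  have hsm := C.small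
  set d := k / 2 with hd
  set u := w.take d with hu
  set v := w.drop d with hv
  have hw : w = u ++ v := (List.take_append_drop d w).symm
  have hlu : u.length = d := by rw [hu, List.length_take, C.length]; omega
  have hlv : v.length = k - d := by rw [hv, List.length_drop, C.length]
  obtain ⟨Y', eY, hgY⟩ := exists_pull hsm (u := u) (by omega) (Y := Y) fun i hi => by
    have hid : i < d := hlu ▸ hi
    have := hY i hid
    rw [zW_eq (by rw [C.length]; omega)] at this
    rw [zW_eq hi]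
    simpa [hu, List.take_take, min_eq_left hid.le] using this
  set X := pushW v e.V with hX
  have hgV := goodW hsm (mem_lev_zero e) (by rw [C.length]; omega : 0 + w.length ≤ k)
  have hgw : GoodW u X ∧ GoodW v e.V := goodW_append.mp (by rw [← hw]; exact hgV)
  have hA : pushW w e.V = pushW u X := by rw [hw, pushW_append]
  set E' := pushW v ⁅e.V, (⊤ : Subgroup B)⁆ with hE'
  have hEV : ⁅e.V, (⊤ : Subgroup B)⁆ ≤ e.V := commutator_le_left _ _
  have hE'X : E' ≤ X := pushW_mono v hEV
  have hkey : ∀ s : B, ⁅X.map (MulAut.conj s).toMonoidHom, X⁆ ≤ E' := by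
    intro s
    rcases hv' : v with _ | ⟨c, v'⟩
    · have eX : X = e.V := by rw [hX, hv']; rfl
      have es : e.V.map (MulAut.conj s).toMonoidHom = e.V := by rw [← e.act_range, e.act_V]
      rw [eX, es, e.V_comm']; exact bot_le
    · have hlv' : v'.length + 1 = k - d := by rw [← hlv, hv']; simp
      set X' := pushW v' e.V
      have hX'R : X' ≤ c.1.R :=
        hsm v'.length (by omega) _ (by simpa using pushW_mem_lev (w := v') (mem_lev_zero e)) _
      have eX : X = c.1.act c.2 X' := by rw [hX, hv']; rfl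
      have eXs : X.map (MulAut.conj s).toMonoidHom = c.1.act (c.1.τ s * c.2) X' := by
        rw [eX, ← c.1.act_range, c.1.act_mul hX'R]
      set Y1 := c.1.act c.2⁻¹ (X.map (MulAut.conj s).toMonoidHom) with hY1
      have hXsR : X.map (MulAut.conj s).toMonoidHom ≤ c.1.R := eXs ▸ c.1.act_le hX'R
      have hY1l : Y1 ∈ lev p B (v'.length + 1) := by
        rw [hY1, eXs, ← c.1.act_mul hX'R]
        exact act_mem_lev _ _ (by simpa using pushW_mem_lev (w := v') (mem_lev_zero e))
      obtain ⟨eP, hgP⟩ := push_pullW hsm hY1l (w := v') (by omega)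
      have hgPv : GoodW v (pullW v' Y1) := by
        rw [hv']; exact ⟨eP.symm ▸ c.1.act_le hXsR, hgP⟩
      have ePv : pushW v (pullW v' Y1) = X.map (MulAut.conj s).toMonoidHom := by
        rw [hv', pushW, eP, c.1.act_act_inv hXsR]
      rw [← ePv, hX, pushW_commutator hgPv hgw.2, hE']
      exact pushW_mono v ((commutator_mono le_top le_rfl).trans (commutator_comm _ _).le)
  set N := ⨆ s : B, X.map (MulAut.conj s).toMonoidHom with hN
  have h1 : ⁅Y', X⁆ ≤ N := commutator_le.mpr fun y _ a ha => by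
    have h1 : y * a * y⁻¹ ∈ N :=
      le_iSup (fun s : B => X.map (MulAut.conj s).toMonoidHom) y ⟨a, ha, rfl⟩
    have h2 : a⁻¹ ∈ N :=
      le_iSup (fun s : B => X.map (MulAut.conj s).toMonoidHom) 1 ⟨a⁻¹, inv_mem ha, by simp⟩
    rw [commutatorElement_def]; exact mul_mem h1 h2
  have h2 : ⁅N, X⁆ ≤ E' := by
    let H : Subgroup B :=
      { carrier := {t | (∀ x ∈ E', t * x * t⁻¹ ∈ E' ∧ t⁻¹ * x * t ∈ E') ∧
          ∀ a ∈ X, ⁅t, a⁆ ∈ E'}
        one_mem' := ⟨fun x hx => by simpa using hx, fun a _ => by simp⟩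
        mul_mem' := fun {s t} hs ht => ⟨fun x hx => ⟨by
            have := (hs.1 _ (ht.1 x hx).1).1
            simpa [mul_assoc] using this, by
            have := (ht.1 _ (hs.1 x hx).2).2
            simpa [mul_assoc] using this⟩, fun a ha => by
          rw [show ⁅s * t, a⁆ = s * ⁅t, a⁆ * s⁻¹ * ⁅s, a⁆ by
            simp only [commutatorElement_def]; group]
          exact mul_mem (hs.1 _ (ht.2 a ha)).1 (hs.2 a ha)⟩
        inv_mem' := fun {s} hs => ⟨fun x hx => ⟨by simpa using (hs.1 x hx).2,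
            by simpa using (hs.1 x hx).1⟩, fun a ha => by
          rw [show ⁅s⁻¹, a⁆ = s⁻¹ * ⁅s, a⁆⁻¹ * s by simp only [commutatorElement_def]; group]
          exact (hs.1 _ (inv_mem (hs.2 a ha))).2⟩ }
    have hle : N ≤ H := by
      refine iSup_le fun s t ht => ?_
      have hc : ∀ t ∈ X.map (MulAut.conj s).toMonoidHom, ∀ x ∈ E', t * x * t⁻¹ ∈ E' :=
        fun t ht x hx => by
          rw [show t * x * t⁻¹ = ⁅t, x⁆ * x by simp only [commutatorElement_def]; group]
          exact mul_mem (hkey s (commutator_mem_commutator ht (hE'X hx))) hx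
      exact ⟨fun x hx => ⟨hc t ht x hx, by simpa using hc t⁻¹ (inv_mem ht) x hx⟩,
        fun a ha => hkey s (commutator_mem_commutator ht ha)⟩
    exact commutator_le.mpr fun t ht a ha => (hle ht).2 a ha
  have h3 : ⁅⁅Y', X⁆, X⁆ ≤ E' := (commutator_mono h1 le_rfl).trans h2
  rw [← eY, hA, pushW_commutator hgY hgw.1, pushW_commutator (hgY.commutator hgw.1) hgw.1]
  refine (pushW_mono u h3).trans ?_
  rw [hE', ← pushW_append, ← hw]
  -- the bound `E`
  obtain ⟨hP, -⟩ := C.q_eq
  obtain ⟨ep, hgP⟩ := push_pullW hsm (mem_lev_zero n) (by rw [C.length]; omega : 0 + w.length ≤ k)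
  set P := pullW w n.V
  have h4 : ⁅e.V, (⊤ : Subgroup B)⁆ ≤ ⁅e.V, P⁆ := by
    refine commutator_le.mpr fun x hx g _ => ?_
    have hg : g ∈ ((P ⊔ e.R : Subgroup B) : Set B) := by rw [hP]; trivial
    rw [mul_normal] at hg
    obtain ⟨y, hy, r, hr, rfl⟩ := hg
    have hxr : ⁅x, r⁆ = 1 := mem_bot.mp (e.commutator_V_R.le (commutator_mem_commutator hx hr))
    rw [show ⁅x, y * r⁆ = ⁅x, y⁆ * (y * ⁅x, r⁆ * y⁻¹) by simp only [commutatorElement_def]; group,
      hxr, mul_one, mul_inv_cancel, mul_one]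
    exact commutator_mem_commutator hx hy
  refine (pushW_mono w h4).trans ?_
  rw [← pushW_commutator hgV hgP, ep, commutator_comm]
  exact (commutator_mono le_rfl le_top).trans n.quad'

end Crit

/-- The subgroup of `H` centralising `Ω` modulo `W`. -/
def pairKer {G : Type*} [Group G] (H Ω W : Subgroup G) [W.Normal] : Subgroup G :=
  H ⊓ (centralizer ((Ω.map (QuotientGroup.mk' W) : Subgroup (G ⧸ W)) : Set (G ⧸ W))).comap
    (QuotientGroup.mk' W)

theorem pairKer_normal {G : Type*} [Group G] (H Ω W : Subgroup G) [H.Normal] [Ω.Normal] [W.Normal] :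
    (pairKer H Ω W).Normal := by
  haveI : (Ω.map (QuotientGroup.mk' W)).Normal :=
    Subgroup.Normal.map inferInstance _ (QuotientGroup.mk'_surjective W)
  exact Subgroup.normal_inf_normal _ _

theorem mem_pairKer {G : Type*} [Group G] {H Ω W : Subgroup G} [W.Normal] {c : G} :
    c ∈ pairKer H Ω W ↔ c ∈ H ∧ ∀ u ∈ Ω, ⁅c, u⁆ ∈ W := by
  rw [pairKer, Subgroup.mem_inf, mem_comap, mem_centralizer_iff]
  refine and_congr_right fun _ => ?_
  constructor
  · intro h u hu
    refine (QuotientGroup.eq_one_iff _).mp ?_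
    show QuotientGroup.mk' W ⁅c, u⁆ = 1
    rw [map_commutatorElement, commutatorElement_eq_one_iff_commute]
    exact (h _ (mem_map_of_mem _ hu)).symm
  · rintro h _ ⟨u, hu, rfl⟩
    have e : QuotientGroup.mk' W ⁅c, u⁆ = 1 := (QuotientGroup.eq_one_iff _).mpr (h u hu)
    rw [map_commutatorElement, commutatorElement_eq_one_iff_commute] at e
    exact e.symm

variable [Fact (Nat.Prime 3)] [Finite B] {n₀ e₀ : Node 3 B} {w₀ : List (Σ m : Node 3 B, m.G)}

/-- There is no critical word. -/
theorem Crit.false (C : Crit 3 k n₀ w₀ e₀) : False := by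
  classical
  set T := n₀.τ.range with hT
  set Rg := pCore 3 n₀.G with hRg
  set Ag := (pushW w₀ e₀.V).map n₀.τ with hAg
  set Zb := (zB 3 B).map n₀.τ with hZb
  set U := n₀.Ub
  set V := n₀.Wb
  haveI : U.Normal := n₀.chief.2.1
  haveI : V.Normal := n₀.chief.2.2.1
  set d := k / 2 with hd
  let Zg : ℕ → Subgroup n₀.G := fun i => (zW w₀ i).map n₀.τ
  let Ω : ℕ → Subgroup n₀.G := fun i => normalClosure (Zg i : Set n₀.G)
  have hΩn : ∀ i, (Ω i).Normal := fun i => normalClosure_normal
  obtain ⟨Λ, hΛ0, hΛs⟩ : ∃ Λ : ℕ → Subgroup n₀.G,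
      Λ 0 = n₀.Vg ∧ ∀ j, Λ (j + 1) = Λ j ⊔ Ω j :=
    ⟨fun j => Nat.rec (motive := fun _ => Subgroup n₀.G) n₀.Vg (fun i X => X ⊔ Ω i) j, rfl,
      fun _ => rfl⟩
  have hΛn : ∀ j, (Λ j).Normal := by
    intro j; induction j with
    | zero => rw [hΛ0]; exact n₀.Vn
    | succ j ih =>
      rw [hΛs]
      exact @Subgroup.sup_normal _ _ _ _ ih (hΩn j)
  haveI : Rg.Normal := inferInstance
  let Cj : ℕ → Subgroup n₀.G := fun j => Rg ⊓ centralizer ((Λ j : Subgroup n₀.G) : Set n₀.G)
  have hCn : ∀ j, (Cj j).Normal := fun j => by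
    haveI : (Λ j).Normal := hΛn j; exact Subgroup.normal_inf_normal _ _
  have hRT : Rg ≤ T := n₀.core_le
  have hAT : Ag ≤ T := Subgroup.map_le_range _ _
  have hVR : n₀.Vg ≤ Rg := n₀.V_le
  have hVc : ∀ v ∈ n₀.Vg, ∀ r ∈ Rg, Commute v r := fun v hv r hr =>
    commutatorElement_eq_one_iff_commute.mp
      (mem_bot.mp (n₀.V_comm.le (commutator_mem_commutator hv hr)))
  have hZT : ∀ z ∈ Zb, ∀ t ∈ T, Commute z t := by
    rintro _ ⟨z, hz, rfl⟩ _ ⟨t, rfl⟩
    exact (show Commute z t from
      (mem_center_iff.mp (PLocal.omegaOne_le 3 (center B) hz) t).symm).map n₀.τ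
  have hlenw : w₀.length = k := C.length
  have hZR : ∀ i < k, Zg i ≤ Rg := fun i hi =>
    n₀.map_le_core.mpr (C.small i hi _ (zW_mem_lev (hlenw.symm ▸ hi)) _)
  have hΩR : ∀ i < k, Ω i ≤ Rg := fun i hi => normalClosure_le_normal (hZR i hi)
  have hZΩ : ∀ i, Zg i ≤ Ω i := fun i => le_normalClosure
  have hZA : ∀ i < k, ∀ z ∈ Zg i, ∀ a ∈ Ag, Commute z a := by
    rintro i hi _ ⟨z, hz, rfl⟩ _ ⟨a, ha, rfl⟩
    exact Commute.map (commutatorElement_eq_one_iff_commute.mp
      (mem_bot.mp ((C.zW_comm_top hi).le (commutator_mem_commutator hz ha)))) n₀.τ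
  have hΩΛ : ∀ j, ∀ l < j, Ω l ≤ Λ j := by
    intro j; induction j with
    | zero => exact fun l hl => absurd hl (Nat.not_lt_zero l)
    | succ j ih =>
      intro l hl
      rw [hΛs]
      rcases Nat.lt_or_ge l j with h | h
      · exact (ih l h).trans le_sup_left
      · obtain rfl : l = j := by omega
        exact le_sup_right
  have hVΛ : ∀ j, n₀.Vg ≤ Λ j := by
    intro j; induction j with
    | zero => rw [hΛ0]
    | succ j ih => rw [hΛs]; exact ih.trans le_sup_left
  -- conjugates of the `Zg` commute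
  have hΩc : ∀ i < d, ∀ j < d, Ω j ≤ centralizer (Ω i : Set n₀.G) := by
    intro i hi j hj
    haveI := hΩn i; haveI := hΩn j
    refine normalClosure_le_normal ?_
    intro y hy
    rw [SetLike.mem_coe, mem_centralizer_iff]
    have hle : Ω i ≤ centralizer ({y} : Set n₀.G) := by
      refine (closure_le _).mpr fun x hx => ?_
      obtain ⟨z, hz, hzx⟩ := Group.mem_conjugatesOfSet_iff.mp hx
      obtain ⟨g, rfl⟩ := isConj_iff.mp hzx
      have hl : n₀.act g⁻¹ (zW w₀ j) ∈ lev 3 B (j + 1) := act_mem_lev _ _ (zW_mem_lev (by omega))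
      have h0 := C.zW_comm_lev (i := i) (by omega) hl
      have hR : zW w₀ j ≤ n₀.R := C.small j (by omega) _ (zW_mem_lev (by omega)) _
      have h1 : g⁻¹ * y * g ∈ (n₀.act g⁻¹ (zW w₀ j)).map n₀.τ := by
        rw [n₀.map_act hR, mem_cj]
        simpa [mul_assoc] using (show y ∈ (zW w₀ j).map n₀.τ from hy)
      have hc : Commute z (g⁻¹ * y * g) := commutatorElement_eq_one_iff_commute.mp (mem_bot.mp
        ((n₀.commutator_eq_bot.mp h0).le (commutator_mem_commutator hz h1)))
      rw [SetLike.mem_coe, mem_centralizer_singleton_iff]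
      calc g * z * g⁻¹ * y = g * (z * (g⁻¹ * y * g)) * g⁻¹ := by group
        _ = g * ((g⁻¹ * y * g) * z) * g⁻¹ := by rw [hc.eq]
        _ = y * (g * z * g⁻¹) := by group
    exact fun x hx => mem_centralizer_singleton_iff.mp (hle hx)
  have hΛR : ∀ j ≤ d, Λ j ≤ Rg := by
    intro j hj; induction j with
    | zero => rw [hΛ0]; exact hVR
    | succ j ih => rw [hΛs]; exact sup_le (ih (by omega)) (hΩR j (by omega))
  have hΛΩ : ∀ j ≤ d, ∀ i < d, Λ j ≤ centralizer (Ω i : Set n₀.G) := by
    intro j hj i hi; induction j with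
    | zero =>
      rw [hΛ0]
      exact fun v hv => mem_centralizer_iff.mpr fun x hx =>
        ((hVc v hv x (hΩR i (by omega) hx)).eq).symm
    | succ j ih => rw [hΛs]; exact sup_le (ih (by omega)) (hΩc i hi j (by omega))
  have hΛab : ∀ j ≤ d, Λ j ≤ centralizer ((Λ j : Subgroup n₀.G) : Set n₀.G) := by
    intro j hj
    induction j with
    | zero =>
      rw [hΛ0]
      exact fun v hv => mem_centralizer_iff.mpr fun x hx => (hVc x hx v (hVR hv)).eq
    | succ j ih =>
      rw [hΛs, centralizer_sup_eq]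
      refine sup_le (le_inf (ih (by omega)) (hΛΩ j (by omega) j (by omega))) (le_inf ?_ ?_)
      · exact le_centralizer_iff.mp (hΛΩ j (by omega) j (by omega))
      · exact hΩc j (by omega) j (by omega)
  -- quadratic action modulo `Zb`
  have hquad : ∀ y ∈ T, (∀ i < d, ∀ z ∈ Zg i, Commute y z) → ∀ a ∈ Ag, ∀ b ∈ Ag,
      ⁅⁅y, a⁆, b⁆ ∈ Zb := by
    rintro _ ⟨y, rfl⟩ hy _ ⟨a, ha, rfl⟩ _ ⟨b, hb, rfl⟩
    have h := C.quad_half (Y := zpowers y) fun i hi => by
      rw [n₀.commutator_eq_bot, commutator_eq_bot_iff_le_centralizer, MonoidHom.map_zpowers]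
      intro z hz
      rw [mem_centralizer_iff]
      rintro _ ⟨m, rfl⟩
      exact ((hy i hi z hz).zpow_left m).eq
    exact ⟨_, h (commutator_mem_commutator (commutator_mem_commutator (mem_zpowers y) ha) hb),
      by rw [map_commutatorElement, map_commutatorElement]⟩
  have hVquad : ∀ v ∈ n₀.Vg, ∀ a ∈ T, ∀ b ∈ T, ⁅⁅v, a⁆, b⁆ = 1 := fun v hv a ha b hb =>
    commutatorElement_eq_one_iff_commute.mpr
      (hZT _ (n₀.quad (commutator_mem_commutator hv ha)) b hb)
  have hΛquad : ∀ j ≤ d, ∀ y ∈ Λ j, ∀ a ∈ Ag, ∀ b ∈ Ag, ⁅⁅y, a⁆, b⁆ ∈ n₀.Vg :=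
    fun j hj y hy a ha b hb => n₀.z_le (hquad y (hRT (hΛR j hj hy)) (fun i hi z hz =>
      (mem_centralizer_iff.mp (hΛΩ j hj i hi hy) z (hZΩ i hz)).symm) a ha b hb)
  -- `[C_j, Z_j]`
  have hpair : ∀ j < d, ∀ c ∈ Cj j, ∀ z ∈ Zg j,
      ⁅c, z⁆ ∈ Λ j ∧ ∀ a ∈ Ag, Commute ⁅c, z⁆ a := by
    intro j hj c hc z hz
    obtain ⟨c', rfl⟩ := hRT hc.1
    obtain ⟨z', hz', rfl⟩ := hz
    rw [← map_commutatorElement]
    rcases Nat.eq_zero_or_pos j with rfl | hpos
    · rw [zW_eq (by omega)] at hz'
      have h1 : ⁅c', z'⁆ ∈ zB 3 B := by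
        rw [← commutatorElement_inv]
        exact inv_mem ((w₀[0].1).quad' (commutator_mem_commutator hz' (mem_top c')))
      exact ⟨hΛ0 ▸ n₀.z_le ⟨_, h1, rfl⟩, fun a ha => hZT _ ⟨_, h1, rfl⟩ a (hAT ha)⟩
    · obtain ⟨i, rfl⟩ : ∃ i, j = i + 1 := ⟨j - 1, by omega⟩
      have hiw : i + 1 < w₀.length := by omega
      have hlu : (w₀.take (i + 1)).length = i + 1 := by simp; omega
      have hΛi : ∀ l ≤ i, Ω l ≤ Λ (i + 1) := fun l hl => hΩΛ (i + 1) l (by omega)
      obtain ⟨Y', eY, hgY⟩ := exists_pull C.small (u := w₀.take (i + 1)) (by omega)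
        (Y := zpowers c') fun l hl => by
          rw [hlu] at hl
          have e : zW (w₀.take (i + 1)) l = zW w₀ l := by
            rw [zW_eq (by omega), zW_eq (by omega)]
            simp [List.take_take, min_eq_left hl.le]
          rw [e, n₀.commutator_eq_bot, commutator_eq_bot_iff_le_centralizer, MonoidHom.map_zpowers]
          intro x hx
          have hcx := mem_centralizer_iff.mp hc.2 x (hΛi l (by omega) (hZΩ l hx))
          rw [mem_centralizer_iff]
          rintro _ ⟨m, rfl⟩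
          exact ((Commute.zpow_left (show Commute (n₀.τ c') x from hcx.symm) m)).eq
      have hgZ : GoodW (w₀.take (i + 1)) (w₀[i + 1].1.V) :=
        goodW C.small (mem_lev_zero _) (by rw [hlu]; omega)
      have h1 : ⁅c', z'⁆ ∈ pushW (w₀.take (i + 1)) (zB 3 B) := by
        rw [zW_eq hiw] at hz'
        have h2 := commutator_mem_commutator (mem_zpowers c') hz'
        rw [← eY, pushW_commutator hgY hgZ] at h2
        exact pushW_mono _ ((commutator_comm _ _).trans_le
          ((commutator_mono le_rfl le_top).trans (w₀[i + 1].1).quad')) h2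
      have h2 : ⁅c', z'⁆ ∈ zW w₀ i := by
        rw [List.take_succ_eq_append_getElem (by omega : i < w₀.length), pushW_append] at h1
        rw [zW_eq (by omega)]
        refine pushW_mono _ ?_ h1
        show w₀[i].1.act w₀[i].2 (zB 3 B) ≤ _
        exact ((w₀[i].1).act_mono (w₀[i].1).zB_le_V).trans ((w₀[i].1).act_V _).le
      exact ⟨hΛi i le_rfl (hZΩ i ⟨_, h2, rfl⟩), fun a ha => hZA i (by omega) _ ⟨_, h2, rfl⟩ a ha⟩
  have hpairΩ : ∀ j < d, ∀ c ∈ Cj j, ∀ u ∈ Ω j, ⁅c, u⁆ ∈ Λ j := by
    intro j hj c hc u hu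
    haveI := hΩn j; haveI := hΛn j; haveI := hCn j
    haveI := pairKer_normal (Ω j) (Cj j) (Λ j)
    have hle : Ω j ≤ pairKer (Ω j) (Cj j) (Λ j) := normalClosure_le_normal fun z hz =>
      mem_pairKer.mpr ⟨hZΩ j hz, fun c hc => by
        rw [← commutatorElement_inv]; exact inv_mem (hpair j hj c hc z hz).1⟩
    rw [← commutatorElement_inv]
    exact inv_mem ((mem_pairKer.mp (hle hu)).2 c hc)
  -- the operators
  obtain ⟨-, hcov⟩ := C.q_eq
  have hTA : T = Ag ⊔ Rg := by
    rw [hT, ← n₀.map_top, ← hcov, Subgroup.map_sup, n₀.map_R]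
  obtain ⟨u₀, hu₀, a₀, ha₀, b₀, hb₀, hbad, hbad3⟩ := n₀.bad
  set π := QuotientGroup.mk' V with hπ
  have hUR : ∀ u ∈ U, ∀ r ∈ Rg, Commute (π u) (π r) := fun u hu r hr => by
    rw [← commutatorElement_eq_one_iff_commute, ← map_commutatorElement]
    refine (QuotientGroup.eq_one_iff _).mpr ?_
    rw [← commutatorElement_inv]
    exact inv_mem (ConjFunctor.commutator_mem_of_chiefFactor (PLocal.isPGroup_pCore 3 _)
      n₀.chief n₀.Ub_le hr hu)
  have hsplit : ∀ t ∈ T, ∃ a ∈ Ag, ∀ u ∈ U, π ⁅u, t⁆ = π ⁅u, a⁆ := by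
    intro t ht
    rw [hTA] at ht
    have h2 : t ∈ ((Ag ⊔ Rg : Subgroup n₀.G) : Set n₀.G) := ht
    rw [mul_normal] at h2
    obtain ⟨a, ha, r, hr, rfl⟩ := h2
    refine ⟨a, ha, fun u hu => ?_⟩
    have e : π ⁅u, r⁆ = 1 := by
      rw [map_commutatorElement]; exact commutatorElement_eq_one_iff_commute.mpr (hUR u hu r hr)
    rw [show ⁅u, a * r⁆ = ⁅u, a⁆ * (a * ⁅u, r⁆ * a⁻¹) by simp only [commutatorElement_def]; group]
    simp [e]
  have hUc : ∀ u ∈ U, ∀ g, ⁅u, g⁆ ∈ U := fun u hu g =>
    commutator_le_left U ⊤ (commutator_mem_commutator hu (mem_top g))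
  -- the layers
  suffices hmain : ∃ (op : n₀.G → n₀.G),
      (∀ (K : Subgroup n₀.G), K.Normal → ∀ x ∈ K, op x ∈ K) ∧
      (∀ x y, π x = π y → π (op x) = π (op y)) ∧
      (∃ u ∈ U, op u ∉ V) ∧
      (∀ c ∈ n₀.Vg, op c = 1) ∧
      (∀ c ∈ Cj d, op c ∈ n₀.Vg) ∧
      (∀ j < d, ∀ (W W' : Subgroup n₀.G) [W.Normal] [W'.Normal], W ≤ Rg →
        Pairing Rg (pairKer (Cj j) (Ω j) W) (Ω j) W W' →
        (∀ u ∈ W, ∀ a ∈ Ag, ∀ b ∈ Ag, ⁅⁅u, a⁆, b⁆ ∈ W') →
        (∀ u ∈ Ω j, ∀ a ∈ Ag, ∀ b ∈ Ag, ⁅⁅u, a⁆, b⁆ ∈ n₀.Vg) →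
        ∀ c ∈ pairKer (Cj j) (Ω j) W, op c ∈ pairKer (Cj j) (Ω j) W') by
    obtain ⟨op, hopK, hopπ, ⟨u, hu, hout⟩, hop1, hopd, hoplayer⟩ := hmain
    have step : ∀ H H' : Subgroup n₀.G, H.Normal → (∀ c ∈ H, op c ∈ H') → U ⊓ H' ≤ V →
        U ⊓ H ≤ V := by
      intro H H' hH hop hH'
      haveI := hH
      rcases n₀.chief.2.2.2 ((U ⊓ H) ⊔ V) inferInstance le_sup_right
        (sup_le inf_le_left n₀.chief.1.le) with h | h
      · exact le_sup_left.trans h.le
      · exfalso
        have hu' : u ∈ (((U ⊓ H) ⊔ V : Subgroup n₀.G) : Set n₀.G) := by rw [h]; exact hu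
        rw [mul_normal] at hu'
        obtain ⟨y, hy, v, hv, hyv⟩ := hu'
        have e : π u = π y := by
          rw [← hyv, map_mul, show π v = 1 from (QuotientGroup.eq_one_iff v).mpr hv, mul_one]
        have h1 : π (op y) = 1 := (QuotientGroup.eq_one_iff _).mpr
          (hH' ⟨hopK U inferInstance y hy.1, hop y hy.2⟩)
        exact hout ((QuotientGroup.eq_one_iff _).mp ((hopπ _ _ e).trans h1))
    have hbot : U ⊓ ⊥ ≤ V := inf_le_right.trans bot_le
    have hV0 : U ⊓ n₀.Vg ≤ V := step _ _ n₀.Vn (fun c hc => mem_bot.mpr (hop1 c hc)) hbot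
    have hCd : U ⊓ Cj d ≤ V := step _ _ (hCn d) hopd hV0
    have hdown : ∀ j < d, U ⊓ Cj (j + 1) ≤ V → U ⊓ Cj j ≤ V := by
      intro j hj hnext
      haveI := hΩn j; haveI := hCn j; haveI := hΛn j
      have key : ∀ (m : ℕ) (W : Subgroup n₀.G) [W.Normal], Nat.card W = m → W ≤ Λ j →
          U ⊓ pairKer (Cj j) (Ω j) W ≤ V := by
        intro m
        induction m using Nat.strong_induction_on with
        | _ m ih =>
        intro W hWn hm hWΛ
        rcases eq_or_ne W ⊥ with rfl | hWne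
        · refine le_trans (inf_le_inf_left _ fun c hc => ?_) hnext
          obtain ⟨hcC, hcu⟩ := mem_pairKer.mp hc
          refine ⟨hcC.1, ?_⟩
          rw [hΛs, SetLike.mem_coe, centralizer_sup_eq]
          exact ⟨hcC.2, mem_centralizer_iff.mpr fun y hy =>
            (commutatorElement_eq_one_iff_commute.mp (mem_bot.mp (hcu y hy))).eq.symm⟩
        · obtain ⟨W', hW'n, hlt, hW'max⟩ : ∃ W' : Subgroup n₀.G, W'.Normal ∧ W' < W ∧
              ∀ X : Subgroup n₀.G, X.Normal → X < W → W' ≤ X → X = W' := by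
            obtain ⟨W', -, hW'⟩ := Finite.exists_le_maximal
              (p := fun X : Subgroup n₀.G => X.Normal ∧ X < W)
              (a := ⊥) ⟨inferInstance, bot_lt_iff_ne_bot.mpr hWne⟩
            exact ⟨W', hW'.prop.1, hW'.prop.2,
              fun X h1 h2 h3 => le_antisymm (hW'.le_of_ge ⟨h1, h2⟩ h3) h3⟩
          haveI := hW'n
          have hchief : IsChiefFactor W W' := ⟨hlt, hWn, hW'n, fun X hX h1 h2 =>
            (eq_or_lt_of_le h2).elim Or.inr fun h => Or.inl (hW'max X hX h h1)⟩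
          haveI := pairKer_normal (Cj j) (Ω j) W
          refine step _ (pairKer (Cj j) (Ω j) W') inferInstance ?_
            (ih (Nat.card W') (hm ▸ Set.Finite.card_lt_card (Set.toFinite _)
              (SetLike.coe_ssubset_coe.mpr hlt)) W' rfl (hlt.le.trans hWΛ))
          have hWR : W ≤ Rg := hWΛ.trans (hΛR j (by omega))
          have hpR : ⁅W, Rg⁆ ≤ W' := commutator_le.mpr fun x hx r hr => by
            rw [← commutatorElement_inv]
            exact inv_mem (ConjFunctor.commutator_mem_of_chiefFactor (PLocal.isPGroup_pCore 3 _)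
              hchief hWR hr hx)
          refine hoplayer j hj W W' hWR ⟨inferInstance, inferInstance, inferInstance, inferInstance,
            inf_le_left.trans inf_le_left, hΩR j (by omega),
            (commutator_mono le_rfl hWR).trans hpR, hpR,
            fun c hc => (mem_pairKer.mp hc).2⟩ ?_ ?_
          · intro x hx a ha b hb
            have hWc : ⁅⁅x, a⁆, b⁆ ∈ W := commutator_le_left W ⊤ (commutator_mem_commutator
              (commutator_le_left W ⊤ (commutator_mem_commutator hx (mem_top a))) (mem_top b))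
            have hv := hΛquad j (by omega) x (hWΛ hx) a ha b hb
            rcases hchief.2.2.2 ((W ⊓ n₀.Vg) ⊔ W') inferInstance le_sup_right
              (sup_le inf_le_left hlt.le) with h | h
            · exact h.le (mem_sup_left ⟨hWc, hv⟩)
            · have hx' : x ∈ (((W ⊓ n₀.Vg) ⊔ W' : Subgroup n₀.G) : Set n₀.G) := by rw [h]; exact hx
              rw [mul_normal] at hx'
              obtain ⟨y, hy, v, hv', hyv⟩ := hx'
              refine (QuotientGroup.eq_one_iff _).mp ?_
              show QuotientGroup.mk' W' ⁅⁅x, a⁆, b⁆ = 1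
              have e : QuotientGroup.mk' W' v = 1 := (QuotientGroup.eq_one_iff v).mpr hv'
              rw [map_commutatorElement, map_commutatorElement, ← hyv, map_mul, e, mul_one,
                ← map_commutatorElement, ← map_commutatorElement,
                hVquad y hy.2 a (hAT ha) b (hAT hb), map_one]
          · exact fun u hu a ha b hb => hΛquad (j + 1) hj u
              (by rw [hΛs]; exact mem_sup_right hu) a ha b hb
      refine le_trans (inf_le_inf_left _ fun c hc => ?_) (key _ (Λ j) rfl le_rfl)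
      exact mem_pairKer.mpr ⟨hc, fun u hu => hpairΩ j hj c hc u hu⟩
    have hC0 : U ⊓ Cj 0 ≤ V := by
      have : ∀ i ≤ d, U ⊓ Cj (d - i) ≤ V := by
        intro i; induction i with
        | zero => exact fun _ => hCd
        | succ i ih =>
          intro hi
          refine hdown (d - (i + 1)) (by omega) ?_
          rw [show d - (i + 1) + 1 = d - i by omega]
          exact ih (by omega)
      simpa using this d le_rfl
    exact n₀.chief.1.not_ge fun x hx => hC0 ⟨hx, n₀.Ub_le hx, mem_centralizer_iff.mpr fun v hv =>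
      (hVc v (hΛ0 ▸ hv) x (n₀.Ub_le hx)).eq⟩
  -- quadratic action on the bottom
  have hCdq : ∀ c ∈ Cj d, ∀ a ∈ Ag, ∀ b ∈ Ag, ⁅⁅c, a⁆, b⁆ ∈ n₀.Vg := fun c hc a ha b hb =>
    n₀.z_le (hquad c (hRT hc.1) (fun i hi z hz => by
      exact (mem_centralizer_iff.mp hc.2 z (hΩΛ d i hi (hZΩ i hz))).symm) a ha b hb)
  by_cases hq : n₀.q = 3
  · -- degree two
    obtain ⟨x, hx, hxR⟩ : ∃ x ∈ Ag, x ∉ Rg :=
      SetLike.not_le_iff_exists.mp fun h => C.crit (n₀.map_le_core.mp h)
    have hcardT : Nat.card T = Nat.card Rg * 3 := by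
      have h := n₀.card_core; rw [hq] at h; exact h.symm
    have hTx : T ≤ zpowers x ⊔ Rg := by
      have hle : zpowers x ⊔ Rg ≤ T := sup_le (zpowers_le.mpr (hAT hx)) hRT
      refine (eq_of_le_of_card_ge hle ?_).ge
      obtain ⟨m, hm⟩ := card_dvd_of_le (le_sup_right : Rg ≤ zpowers x ⊔ Rg)
      obtain ⟨m', hm'⟩ := card_dvd_of_le hle
      rw [hcardT, hm, mul_assoc] at hm'
      have h3 : 3 = m * m' := Nat.eq_of_mul_eq_mul_left Nat.card_pos hm'
      have hm1 : m ≠ 1 := fun h1 => hxR (by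
        rw [h1, mul_one] at hm
        have e := eq_of_le_of_card_ge (le_sup_right : Rg ≤ zpowers x ⊔ Rg) hm.le
        rw [e]; exact mem_sup_left (mem_zpowers x))
      rcases (Nat.dvd_prime Nat.prime_three).mp (Dvd.intro m' h3.symm) with h | h
      · exact absurd h hm1
      · rw [hcardT, hm, h]
    have hx3 : x ^ 3 ∈ Rg := by
      have h := pow_index_mem (Rg.subgroupOf T) ⟨x, hAT hx⟩
      have e : Rg.relIndex T = 3 :=
        Nat.eq_of_mul_eq_mul_left (Nat.card_pos (α := Rg))
          ((PLocal.card_mul_relIndex hRT).trans hcardT)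
      rw [show (Rg.subgroupOf T).index = 3 from e] at h
      exact h
    obtain ⟨P, hPn, hRP, hP2, hPT⟩ := n₀.two hq
    refine ⟨fun c => ⁅⁅c, x⁆, x⁆, fun K hK c hc => ?_, fun a b h => ?_, ?_, fun c hc =>
      hVquad c hc x (hAT hx) x (hAT hx), fun c hc => hCdq c hc x hx x hx, ?_⟩
    · haveI := hK
      exact commutator_le_left K ⊤ (commutator_mem_commutator
        (commutator_le_left K ⊤ (commutator_mem_commutator hc (mem_top x))) (mem_top x))
    · simp only [map_commutatorElement, h]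
    · by_contra hcon
      push Not at hcon
      refine hbad ((QuotientGroup.eq_one_iff _).mp ?_)
      show π _ = 1
      set H : Subgroup n₀.G :=
        { carrier := {t | ∀ u ∈ U, π ⁅⁅u, x⁆, t⁆ = 1}
          one_mem' := fun u _ => by simp
          mul_mem' := fun {s t} hs ht u hu => by
            rw [show ⁅⁅u, x⁆, s * t⁆ = ⁅⁅u, x⁆, s⁆ * (s * ⁅⁅u, x⁆, t⁆ * s⁻¹) by
              simp only [commutatorElement_def]; group]
            simp only [map_mul, map_inv, hs u hu, ht u hu, mul_one, one_mul, inv_one, mul_inv_cancel, inv_mul_cancel]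
          inv_mem' := fun {s} hs u hu => by
            rw [show ⁅⁅u, x⁆, s⁻¹⁆ = s⁻¹ * ⁅⁅u, x⁆, s⁆⁻¹ * s by
              simp only [commutatorElement_def]; group]
            simp only [map_mul, map_inv, hs u hu, mul_one, one_mul, inv_one, mul_inv_cancel, inv_mul_cancel] }
      have hTH : T ≤ H := hTx.trans (sup_le (zpowers_le.mpr fun u hu =>
          (QuotientGroup.eq_one_iff _).mpr (hcon u hu)) fun r hr u hu => by
        rw [map_commutatorElement]
        exact commutatorElement_eq_one_iff_commute.mpr (hUR _ (hUc u hu x) r hr))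
      have hx2 : ∀ u ∈ U, ∀ t ∈ T, ∀ s ∈ T, π ⁅⁅u, t⁆, s⁆ = 1 := by
        let K : Subgroup n₀.G :=
          { carrier := {t | t ∈ normalizer (T : Set n₀.G) ∧
              ∀ u ∈ U, ∀ s ∈ T, π ⁅⁅u, t⁆, s⁆ = 1}
            one_mem' := ⟨one_mem _, fun u _ s _ => by simp⟩
            mul_mem' := fun {a b} ha hb => ⟨mul_mem ha.1 hb.1, fun u hu s hs => by
              have e1 : ⁅u, a * b⁆ = ⁅u, a⁆ * (a * ⁅u, b⁆ * a⁻¹) := by
                simp only [commutatorElement_def]; group
              have e2 : ∀ y z : n₀.G, ⁅y * z, s⁆ = y * ⁅z, s⁆ * y⁻¹ * ⁅y, s⁆ := fun y z => by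
                simp only [commutatorElement_def]; group
              have e3 : ⁅a * ⁅u, b⁆ * a⁻¹, s⁆ = a * ⁅⁅u, b⁆, a⁻¹ * s * a⁆ * a⁻¹ := by
                simp only [commutatorElement_def]; group
              rw [e1, e2, e3]
              simp only [map_mul, map_inv, ha.2 u hu s hs,
                hb.2 u hu _ ((mem_normalizer_iff''.mp ha.1 s).mp hs), mul_one, one_mul, inv_one, mul_inv_cancel, inv_mul_cancel]⟩
            inv_mem' := fun {a} ha => ⟨inv_mem ha.1, fun u hu s hs => by
              have e1 : ⁅u, a⁻¹⁆ = a⁻¹ * ⁅u, a⁆⁻¹ * a := by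
                simp only [commutatorElement_def]; group
              have e3 : ⁅a⁻¹ * ⁅u, a⁆⁻¹ * a, s⁆ =
                  a⁻¹ * (⁅u, a⁆⁻¹ * ⁅⁅u, a⁆, a * s * a⁻¹⁆⁻¹ * ⁅u, a⁆) * a := by
                simp only [commutatorElement_def]; group
              rw [e1, e3]
              simp only [map_mul, map_inv, ha.2 u hu _ ((mem_normalizer_iff.mp ha.1 s).mp hs), mul_one, one_mul, inv_one, mul_inv_cancel, inv_mul_cancel]⟩ }
        have hxK : x ∈ K := ⟨le_normalizer (hAT hx), fun u hu s hs => hTH hs u hu⟩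
        have hRK : Rg ≤ K := fun r hr => ⟨le_normalizer (hRT hr), fun u hu s _ => by
          rw [map_commutatorElement, map_commutatorElement,
            commutatorElement_eq_one_iff_commute.mpr (hUR u hu r hr), commutatorElement_one_left]⟩
        intro u hu t ht s hs
        exact (show T ≤ K from hTx.trans (sup_le (zpowers_le.mpr hxK) hRK)) ht |>.2 u hu s hs
      exact hx2 u₀ hu₀ a₀ ha₀ b₀ hb₀
    · intro j hj W W' hWn hW'n hWR hP hW hΩq c hc
      haveI := hCn j; haveI := hΩn j
      haveI := pairKer_normal (Cj j) (Ω j) W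
      have hcC : ⁅⁅c, x⁆, x⁆ ∈ Cj j := commutator_le_left (Cj j) ⊤ (commutator_mem_commutator
        (commutator_le_left (Cj j) ⊤ (commutator_mem_commutator (mem_pairKer.mp hc).1 (mem_top x)))
        (mem_top x))
      refine mem_pairKer.mpr ⟨hcC, fun u hu => ?_⟩
      refine hP.deg_two (A := (Ag : Set n₀.G)) hW ?_ hx (Z := (Zg j : Set n₀.G)) rfl
        (fun z hz => hZA j (by omega) z hz x hx) ?_ (fun g => Or.inr ?_) hc hu
      · intro c hc u hu a ha b hb
        have h1 := mem_centralizer_iff.mp ((mem_pairKer.mp hc).1).2 _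
          (hVΛ j (hΩq u hu a ha b hb))
        rw [commutatorElement_eq_one_iff_commute.mpr h1.symm]
        exact one_mem _
      · intro c hc z hz
        rw [commutatorElement_eq_one_iff_commute.mpr ((hpair j hj c (mem_pairKer.mp hc).1 z hz).2 x hx)]
        exact one_mem _
      · haveI := hPn
        refine braid_section (R := Rg) (P := P) (T := T) hP2 hx3 hTx hPT hP.comm hP.triv
          (fun y hy h2 => ?_) (fun y hy => hW y hy x hx x hx) g
        obtain ⟨m, hm⟩ := (n₀.isP) ⟨y, hRT (hWR hy)⟩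
        have hm' : y ^ 3 ^ m = 1 := congrArg Subtype.val hm
        obtain ⟨l, hl⟩ : Odd (3 ^ m) := Odd.pow (by decide)
        rw [hl, pow_succ, pow_mul, pow_two] at hm'
        rw [show y = ((y * y) ^ l)⁻¹ from eq_inv_of_mul_eq_one_right hm']
        exact inv_mem (pow_mem h2 l)
  · -- degree three
    obtain ⟨c₀, hc₀, hbad3⟩ := hbad3 hq
    obtain ⟨a, ha, ea⟩ := hsplit a₀ ha₀
    obtain ⟨b, hb, eb⟩ := hsplit b₀ hb₀
    obtain ⟨c', hc', ec⟩ := hsplit c₀ hc₀
    refine ⟨fun y => ⁅⁅⁅y, a⁆, b⁆, c'⁆, fun K hK y hy => ?_, fun y z h => ?_, ⟨u₀, hu₀, fun h => ?_⟩,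
      fun y hy => ?_, fun y hy => ?_, ?_⟩
    · haveI := hK
      exact commutator_le_left K ⊤ (commutator_mem_commutator (commutator_le_left K ⊤
        (commutator_mem_commutator (commutator_le_left K ⊤
          (commutator_mem_commutator hy (mem_top a))) (mem_top b))) (mem_top c'))
    · simp only [map_commutatorElement, h]
    · refine hbad3 ((QuotientGroup.eq_one_iff _).mp ?_)
      show π ⁅⁅⁅u₀, a₀⁆, b₀⁆, c₀⁆ = 1
      rw [ec _ (hUc _ (hUc _ hu₀ a₀) b₀), map_commutatorElement, eb _ (hUc _ hu₀ a₀),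
        map_commutatorElement, ea _ hu₀, ← map_commutatorElement, ← map_commutatorElement]
      exact (QuotientGroup.eq_one_iff _).mpr h
    · simp [hVquad y hy a (hAT ha) b (hAT hb)]
    · exact commutator_le_left n₀.Vg ⊤
        (commutator_mem_commutator (hCdq y hy a ha b hb) (mem_top c'))
    · intro j hj W W' hWn hW'n hWR hP hW hΩq y hy
      haveI := hCn j; haveI := hΩn j
      refine mem_pairKer.mpr ⟨commutator_le_left (Cj j) ⊤ (commutator_mem_commutator
        (commutator_le_left (Cj j) ⊤ (commutator_mem_commutator (commutator_le_left (Cj j) ⊤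
          (commutator_mem_commutator (mem_pairKer.mp hy).1 (mem_top a))) (mem_top b)))
        (mem_top c')), fun u hu => ?_⟩
      refine hP.deg_three (A := (Ag : Set n₀.G)) hW ?_ (fun t ht => inv_mem ht) hy ha hb hc' hu
      intro c hc u hu a ha b hb
      have h1 := mem_centralizer_iff.mp ((mem_pairKer.mp hc).1).2 _
        (hVΛ j (hΩq u hu a ha b hb))
      rw [commutatorElement_eq_one_iff_commute.mpr h1.symm]
      exact one_mem _

/-- All levels lie below every `O_p`. -/
theorem small (k : ℕ) : Small 3 B k := by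
  by_contra h
  obtain ⟨k', n, w, e, C⟩ := exists_crit (fun hall => h (hall k))
  exact C.false

end CfsgLib.Yoshida49
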