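import Cfsg.Agent.Yoshida49.TData
import Cfsg.Agent.Yoshida49.Gamma

/-!
# Cosets of the maximal subgroup under the group of a cell

The group of a cell moves a suitable coset like the projective line: one point fixed by the Borel
subgroup, and the others permuted regularly by the root.
-/

set_option autoImplicit false
set_option maxHeartbeats 1000000
set_option linter.style.haveILetI false
set_option linter.unusedSectionVars false

namespace CfsgLib.Yoshida49

open Subgroup Cfsg CfsgLib CfsgLib.FFCells CfsgLib.SL2Recognition CfsgLib.Linear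
open CfsgLib.ConjFunctor (IsSylowIn)
open scoped commutatorElement IsMulCommutative MatrixGroups

universe u

variable {X : Type u} [Group X] [Finite X]

namespace TData

variable {p : ℕ} {M : Subgroup X} (d : TData p X M)

/-- The conjugates of the character. -/
noncomputable def F (q : X ⧸ M) (v : X) : d.A := d.φ (q.out⁻¹ * v * q.out)

theorem conj_mem (g : X) {v : X} (hv : v ∈ d.U) : g⁻¹ * v * g ∈ d.U := by
  simpa using d.Un.conj_mem v hv g⁻¹

theorem F_mk (g : X) {v : X} (hv : v ∈ d.U) : d.F (g : X ⧸ M) v = d.φ (g⁻¹ * v * g) := by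
  obtain ⟨m, hm⟩ := QuotientGroup.mk_out_eq_mul M g
  rw [F, hm, show (g * (m : X))⁻¹ * v * (g * m) = (m : X)⁻¹ * (g⁻¹ * v * g) * m by group,
    d.conj m m.2 _ (d.conj_mem g hv)]

theorem F_smul (g : X) (q : X ⧸ M) {v : X} (hv : v ∈ d.U) :
    d.F (g • q) v = d.F q (g⁻¹ * v * g) := by
  induction q using QuotientGroup.induction_on with
  | H a =>
    rw [MulAction.Quotient.smul_coe, smul_eq_mul, d.F_mk _ hv, d.F_mk _ (d.conj_mem g hv)]
    congr 1; group

theorem F_mul (q : X ⧸ M) {v w : X} (hv : v ∈ d.U) (hw : w ∈ d.U) :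
    d.F q (v * w) = d.F q v * d.F q w := by
  rw [F, F, F, ← d.map_mul _ (d.conj_mem _ hv) _ (d.conj_mem _ hw)]
  congr 1; group

theorem F_one (q : X ⧸ M) : d.F q 1 = 1 := by
  have h := d.F_mul q d.U.one_mem d.U.one_mem
  rw [mul_one] at h
  exact left_eq_mul.mp h

theorem F_inv (q : X ⧸ M) {v : X} (hv : v ∈ d.U) : d.F q v⁻¹ = (d.F q v)⁻¹ := by
  refine eq_inv_of_mul_eq_one_right ?_
  rw [← d.F_mul q hv (inv_mem hv), mul_inv_cancel, F_one]

theorem F_exp (q : X ⧸ M) {v : X} (hv : v ∈ d.U) : d.F q v ^ p = 1 :=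
  d.exp _ (d.conj_mem _ hv)

theorem F_kill (q : X ⧸ M) {v : X} (hv : v ∈ d.V) : d.F q v = 1 :=
  d.kill _ (by simpa using d.Vn.conj_mem v hv q.out⁻¹)

theorem F_base {v : X} (hv : v ∈ d.U) : d.F ((1 : X) : X ⧸ M) v = d.φ v := by
  rw [d.F_mk 1 hv]; simp

theorem F_commutator (q : X ⧸ M) {v : X} (hv : v ∈ d.U) (a : X) :
    d.F q ⁅v, a⁆ = d.F q v / d.F (a⁻¹ • q) v := by
  have h1 : a * v * a⁻¹ ∈ d.U := d.Un.conj_mem v hv a
  rw [d.F_smul a⁻¹ q hv, inv_inv, div_eq_mul_inv, ← d.F_inv q h1, ← d.F_mul q hv (inv_mem h1)]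
  congr 1
  rw [commutatorElement_def]; group

theorem commutator_mem {v : X} (hv : v ∈ d.U) (a : X) : ⁅v, a⁆ ∈ d.U := by
  rw [commutatorElement_def, mul_assoc, mul_assoc, ← mul_assoc a]
  exact mul_mem hv (d.Un.conj_mem _ (inv_mem hv) a)

/-- A character constant on the cosets is trivial. -/
theorem eq_one_of_const [Fact p.Prime] (hidx : ¬ p ∣ M.index) {v : X} (hv : v ∈ d.U)
    (hc : ∀ q : X ⧸ M, d.F q v = d.φ v) : d.φ v = 1 := by
  let i : Fintype (X ⧸ M) := Fintype.ofFinite _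
  have h : ∏ q : X ⧸ M, d.F q v = 1 := d.prod v hv
  rw [Finset.prod_congr rfl fun q _ => hc q, Finset.prod_const, Finset.card_univ] at h
  have h2 := pow_gcd_eq_one.mpr ⟨d.exp v hv, h⟩
  rwa [show Nat.gcd p (Fintype.card (X ⧸ M)) = 1 from
    (Fact.out : p.Prime).coprime_iff_not_dvd.mpr (by rwa [← Nat.card_eq_fintype_card]), pow_one] at h2

end TData

namespace Hyp

variable {S M : Subgroup X} (h : Hyp S M) {𝒞 : Set (Subgroup (qX X) × Subgroup (qX X))}
  (hO : OCfg (sX X) h.sylQ (M.map (prX X)) 𝒞) (hJ : ¬ thompsonSubgroupOf 3 S ≤ pCore 3 X)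
include h

theorem index_M : ¬ 3 ∣ M.index := fun hd => h.sylow.2.2 (by
  rw [relIndex_top_right]; exact hd.trans (index_dvd_of_le h.le_M))

/-- A normal subgroup supplementing `S` is transitive on the cosets. -/
theorem exists_smul_base {N : Subgroup X} [N.Normal] (hN : N ⊔ S = ⊤) (q : X ⧸ M) :
    ∃ n ∈ N, q = n • ((1 : X) : X ⧸ M) := by
  induction q using QuotientGroup.induction_on with
  | H g =>
    have hg : g ∈ ((N ⊔ S : Subgroup X) : Set X) := by rw [hN]; trivial
    rw [normal_mul] at hg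
    obtain ⟨n, hn, s, hs, rfl⟩ := hg
    refine ⟨n, hn, ?_⟩
    rw [MulAction.Quotient.smul_coe, smul_eq_mul, mul_one, QuotientGroup.eq]
    simpa using M.inv_mem (h.le_M hs)

theorem smul_congr {x y : X} (e : prX X x = prX X y) (q : X ⧸ M) : x • q = y • q := by
  induction q using QuotientGroup.induction_on with
  | H g =>
    rw [MulAction.Quotient.smul_coe, MulAction.Quotient.smul_coe, QuotientGroup.eq, smul_eq_mul,
      smul_eq_mul, show (x * g)⁻¹ * (y * g) = g⁻¹ * (x⁻¹ * y) * g by group]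
    refine h.cX_le_M ?_
    simpa using (inferInstance : (cX X).Normal).conj_mem _ (QuotientGroup.eq.mp e) g⁻¹

theorem smul_eq_iff {x g : X} :
    x • (g : X ⧸ M) = (g : X ⧸ M) ↔ (prX X g)⁻¹ * prX X x * prX X g ∈ M.map (prX X) := by
  rw [MulAction.Quotient.smul_coe, eq_comm, QuotientGroup.eq, smul_eq_mul, ← map_inv, ← map_mul,
    ← map_mul]
  constructor
  · intro hm; exact mem_map_of_mem _ (by rwa [mul_assoc])
  · rintro ⟨m, hm, e⟩
    have h1 : m⁻¹ * (g⁻¹ * x * g) ∈ cX X := QuotientGroup.eq.mp e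
    have := mul_mem hm (h.cX_le_M h1)
    rwa [mul_inv_cancel_left, mul_assoc] at this

include hO

/-- Each orbit of a group of a cell contains a coset whose representative centralises the group. -/
theorem exists_point (c : 𝒞) (q : X ⧸ M) :
    ∃ l z : X, prX X l ∈ c.1.2 ∧ prX X z ∈ centralizer (c.1.2 : Set (qX X)) ∧
      q = l • (z : X ⧸ M) := by
  induction q using QuotientGroup.induction_on with
  | H g =>
    haveI := hO.grps_normal
    have hg : prX X g ∈ ((grpsJoin 𝒞 ⊔ (h.sylQ : Subgroup (qX X)) : Subgroup _) : Set (qX X)) := by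
      rw [hO.cfg.gen]; trivial
    rw [normal_mul] at hg
    obtain ⟨γ, hγ, t, ht, e⟩ := hg
    obtain ⟨s, hs, rfl⟩ : ∃ s ∈ S, prX X s = t := ht
    have hγ' := hO.grps_le_sup c hγ
    rw [← SetLike.mem_coe, coe_mul_of_left_le_normalizer_right _ _ (fun x hx =>
      PLocal.Offender.mem_normalizer_centralizer (le_normalizer hx))] at hγ'
    obtain ⟨l', hl', z', hz', rfl⟩ := hγ'
    obtain ⟨l, rfl⟩ := QuotientGroup.mk'_surjective (cX X) l'
    refine ⟨l, l⁻¹ * (g * s⁻¹), hl', ?_, ?_⟩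
    · rw [map_mul, map_mul, map_inv, map_inv, ← e]
      simpa using hz'
    · rw [MulAction.Quotient.smul_coe, smul_eq_mul, mul_inv_cancel_left, eq_comm, QuotientGroup.eq]
      simpa using h.le_M hs

theorem stab_iff (c : 𝒞) {z x : X} (hz : prX X z ∈ centralizer (c.1.2 : Set (qX X)))
    (hx : prX X x ∈ c.1.2) :
    x • (z : X ⧸ M) = (z : X ⧸ M) ↔ prX X x ∈ normalizer (c.1.1 : Set (qX X)) := by
  rw [h.smul_eq_iff]
  have e : (prX X z)⁻¹ * prX X x * prX X z = prX X x := by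
    rw [mul_assoc, mem_centralizer_iff.mp hz _ hx, inv_mul_cancel_left]
  rw [e]
  exact ⟨hO.grp_inf_M c hx, hO.borel_le c hx⟩

theorem root_fix (c : 𝒞) {z a : X} (hz : prX X z ∈ centralizer (c.1.2 : Set (qX X)))
    (ha : prX X a ∈ c.1.1) : a • (z : X ⧸ M) = (z : X ⧸ M) :=
  (h.stab_iff hO c hz ((hO.D c).le ha)).mpr (le_normalizer ha)

/-- The translations of the projective line. -/
theorem exists_line (c : 𝒞) {z : X} (hz : prX X z ∈ centralizer (c.1.2 : Set (qX X))) :
    ∃ pt : (hO.D c).F → X ⧸ M, Function.Injective pt ∧ (∀ t, pt t ≠ (z : X ⧸ M)) ∧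
      (∀ a x t, prX X a = (hO.D c).u x → a • pt t = pt (x + t)) ∧
      (∀ l, prX X l ∈ c.1.2 → l • (z : X ⧸ M) = (z : X ⧸ M) ∨ ∃ t, l • (z : X ⧸ M) = pt t) ∧
      ∀ t, ∃ l, prX X l ∈ c.1.2 ∧ pt t = l • (z : X ⧸ M) := by
  set D := hO.D c
  have hl : ∀ t, ∃ l, prX X l = D.u t * D.weyl := fun t => QuotientGroup.mk'_surjective (cX X) _
  choose l hl using hl
  have hlL : ∀ t, prX X (l t) ∈ c.1.2 := fun t => hl t ▸ mul_mem (D.u_memL t) D.weyl_mem
  have hu_add : ∀ x t, D.u (x + t) = D.u x * D.u t := fun x t => by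
    show ((D.φ.symm (upperUni (x + t)) : c.1.2) : qX X) = _
    rw [upperUni, Matrix.SpecialLinearGroup.transvection_add, map_mul]; rfl
  have hnt : ∀ x : D.F, x ≠ 0 → D.weyl⁻¹ * D.u x * D.weyl ∉ normalizer (c.1.1 : Set (qX X)) := by
    intro x hx hn
    have hL : D.weyl⁻¹ * D.u x * D.weyl ∈ c.1.2 :=
      mul_mem (mul_mem (inv_mem D.weyl_mem) (D.u_memL x)) D.weyl_mem
    have h1 := D.apply_eq_zero_of_mem_normalizer hL hn
    have e : (⟨_, hL⟩ : c.1.2) = (D.φ.symm (CellData.weylSL D.F))⁻¹ * D.φ.symm (upperUni x) *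
        D.φ.symm (CellData.weylSL D.F) := rfl
    rw [e, map_mul, map_mul, map_inv, MulEquiv.apply_symm_apply, MulEquiv.apply_symm_apply] at h1
    simp [CellData.weylSL_val, upperUni_val, Matrix.mul_apply, Fin.sum_univ_two,
      Matrix.adjugate_fin_two] at h1
    exact hx h1
  refine ⟨fun t => l t • (z : X ⧸ M), fun t s e => ?_, fun t e => ?_, fun a x t ha => ?_,
    fun k hk => ?_, fun t => ⟨l t, hlL t, rfl⟩⟩
  · have h1 : ((l t)⁻¹ * l s) • (z : X ⧸ M) = (z : X ⧸ M) := by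
      rw [mul_smul, ← show l t • (z : X ⧸ M) = l s • (z : X ⧸ M) from e, inv_smul_smul]
    have h2 := (h.stab_iff hO c hz (by rw [map_mul, map_inv]; exact mul_mem (inv_mem (hlL t)) (hlL s))).mp h1
    rw [map_mul, map_inv, hl, hl, mul_inv_rev, mul_assoc, ← mul_assoc (D.u t)⁻¹] at h2
    by_contra hne
    refine hnt (s - t) (sub_ne_zero.mpr (Ne.symm hne)) ?_
    have e2 : (D.u t)⁻¹ * D.u s = D.u (s - t) := by
      rw [inv_mul_eq_iff_eq_mul, ← hu_add, add_sub_cancel]
    rwa [e2, ← mul_assoc] at h2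
  · have h2 := (h.stab_iff hO c hz (hlL t)).mp e
    rw [hl] at h2
    refine D.weyl_notMem ?_
    have := mul_mem (inv_mem (le_normalizer (D.u_mem t))) h2
    rwa [inv_mul_cancel_left] at this
  · show a • l t • (z : X ⧸ M) = l (x + t) • (z : X ⧸ M)
    rw [← mul_smul]
    exact h.smul_congr (by rw [map_mul, ha, hl, hl, hu_add, mul_assoc]) _
  · by_cases hn : prX X k ∈ normalizer (c.1.1 : Set (qX X))
    · exact Or.inl ((h.stab_iff hO c hz hk).mpr hn)
    obtain ⟨b, hb, hbn⟩ := D.exists_bruhat hk hn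
    obtain ⟨t, rfl⟩ := D.exists_u hb
    refine Or.inr ⟨t, ?_⟩
    have h1 : ((l t)⁻¹ * k) • (z : X ⧸ M) = (z : X ⧸ M) := by
      refine (h.stab_iff hO c hz ?_).mpr ?_
      · rw [map_mul, map_inv]; exact mul_mem (inv_mem (hlL t)) hk
      · rw [map_mul, map_inv, hl]; exact hbn
    rw [mul_smul, inv_smul_eq_iff] at h1
    exact h1

/-- A function on the cosets whose translates all have product `1` off the fixed point is constant on
the orbit. -/
theorem const_of_prod {A : Type u} [CommGroup A] (c : 𝒞) {z : X}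
    (pt : (hO.D c).F → X ⧸ M) (hinj : Function.Injective pt)
    (hne : ∀ t, pt t ≠ (z : X ⧸ M))
    (horb : ∀ l, prX X l ∈ c.1.2 → l • (z : X ⧸ M) = (z : X ⧸ M) ∨ ∃ t, l • (z : X ⧸ M) = pt t)
    (hpt : ∀ t, ∃ l, prX X l ∈ c.1.2 ∧ pt t = l • (z : X ⧸ M))
    {l : X} (hl : prX X l ∈ c.1.2) (f : X ⧸ M → A)
    (hf : ∏ t, f (pt t) = 1) (hfl : ∏ t, f (l • pt t) = 1) :
    f (l • (z : X ⧸ M)) = f (z : X ⧸ M) := by
  classical
  let g : Option (hO.D c).F → X ⧸ M := fun o => o.elim (z : X ⧸ M) pt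
  have hg : Function.Injective g := by
    rintro (_ | t) (_ | s) e
    · rfl
    · exact absurd (show (z : X ⧸ M) = pt s from e).symm (hne s)
    · exact absurd (show pt t = (z : X ⧸ M) from e) (hne t)
    · exact congrArg some (hinj e)
  have hmap : ∀ o, ∃ o', g o' = l • g o := by
    intro o
    obtain ⟨k, hk, e⟩ : ∃ k, prX X k ∈ c.1.2 ∧ g o = k • (z : X ⧸ M) := by
      cases o with
      | none => exact ⟨1, by rw [map_one]; exact one_mem _, (one_smul _ _).symm⟩
      | some t => exact hpt t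
    rw [e, ← mul_smul]
    rcases horb (l * k) (by rw [map_mul]; exact mul_mem hl hk) with h1 | ⟨s, h1⟩
    · exact ⟨none, h1.symm⟩
    · exact ⟨some s, h1.symm⟩
  choose ε hε using hmap
  have hεb : Function.Bijective ε :=
    Finite.injective_iff_bijective.mp fun a b e => hg (MulAction.injective l (by
      show l • g a = l • g b
      rw [← hε, ← hε, e]))
  have h1 : ∏ o, f (g o) = f (z : X ⧸ M) := by
    rw [Fintype.prod_option]
    show f (z : X ⧸ M) * ∏ t, f (pt t) = _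
    rw [hf, mul_one]
  have h2 : ∏ o, f (l • g o) = f (l • (z : X ⧸ M)) := by
    rw [Fintype.prod_option]
    show f (l • (z : X ⧸ M)) * ∏ t, f (l • pt t) = _
    rw [hfl, mul_one]
  rw [← h2, ← h1]
  exact Fintype.prod_bijective ε hεb _ _ fun o => by rw [hε]

end Hyp

end CfsgLib.Yoshida49
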