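import Cfsg.Agent.ConjFunctor.Transfer

/-!
# The transfer datum

If `O_p(X) ∩ X'` is not in `T₀ ⊇ O_p(X) ∩ M'` for a subgroup `M` containing a Sylow subgroup, some
chief factor `U/V` below `O_p(X)` has a character `φ`, invariant under `M`, whose conjugates multiply
to `1`.
-/

set_option autoImplicit false
set_option linter.style.haveILetI false

namespace CfsgLib.Yoshida49

open Subgroup Cfsg CfsgLib CfsgLib.ConjFunctor
open scoped commutatorElement

universe u

variable {p : ℕ} [Fact p.Prime] {X : Type u} [Group X] [Finite X]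

/-- A character of a chief factor below `O_p` from a failure of transfer. -/
structure TData (p : ℕ) (X : Type u) [Group X] (M : Subgroup X) : Type (u + 1) where
  U : Subgroup X
  V : Subgroup X
  A : Type u
  [comm : CommGroup A]
  φ : X → A
  Un : U.Normal
  Vn : V.Normal
  le : U ≤ pCore p X
  lt : V < U
  max : ∀ N : Subgroup X, N.Normal → V ≤ N → N ≤ U → N = V ∨ N = U
  map_mul : ∀ v ∈ U, ∀ w ∈ U, φ (v * w) = φ v * φ w
  kill : ∀ v ∈ V, φ v = 1
  exp : ∀ v ∈ U, φ v ^ p = 1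
  conj : ∀ m ∈ M, ∀ v ∈ U, φ (m⁻¹ * v * m) = φ v
  ne : ∃ v ∈ U, φ v ≠ 1
  prod : ∀ v ∈ U, ∀ [Fintype (X ⧸ M)], ∏ q : X ⧸ M, φ (q.out⁻¹ * v * q.out) = 1

attribute [instance] TData.comm

theorem exists_tdata {S T₀ M : Subgroup X} (hS : IsSylowIn p S ⊤) (hSM : S ≤ M)
    (hT₀ : T₀ ≤ pCore p X) (hQM : pCore p X ⊓ ⁅M, M⁆ ≤ T₀)
    (hne : ¬ pCore p X ⊓ commutator X ≤ T₀) : Nonempty (TData p X M) := by
  classical
  obtain ⟨U, -, hUmin⟩ := Finite.exists_le_minimal (p := fun U : Subgroup X =>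
      U.Normal ∧ U ≤ pCore p X ⊓ commutator X ∧ ¬ U ≤ T₀)
    (a := pCore p X ⊓ commutator X) ⟨inferInstance, le_rfl, hne⟩
  obtain ⟨hUn, hUle, hUT⟩ := hUmin.prop
  obtain ⟨V, hVn, hVlt, hVmax⟩ : ∃ V : Subgroup X, V.Normal ∧ V < U ∧
      ∀ V' : Subgroup X, V'.Normal → V' < U → V ≤ V' → V' = V := by
    obtain ⟨V, -, hV⟩ := Finite.exists_le_maximal (p := fun V : Subgroup X => V.Normal ∧ V < U)
      (a := ⊥) ⟨inferInstance, bot_lt_iff_ne_bot.mpr fun h => hUT (h ▸ bot_le)⟩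
    exact ⟨V, hV.prop.1, hV.prop.2, fun V' h1 h2 h3 => le_antisymm (hV.le_of_ge ⟨h1, h2⟩ h3) h3⟩
  have hVT : V ≤ T₀ := by
    by_contra h
    exact hVlt.not_ge (hUmin.le_of_le ⟨hVn, hVlt.le.trans hUle, h⟩ hVlt.le)
  have hchief : IsChiefFactor U V := ⟨hVlt, hUn, hVn, fun N hN hVN hNU =>
    (eq_or_lt_of_le hNU).elim Or.inr fun h => Or.inl (hVmax N hN h hVN)⟩
  have hUQ : U ≤ pCore p X := hUle.trans inf_le_left
  obtain ⟨hab, hexp⟩ := chiefFactor_elementary hchief ((PLocal.isPGroup_pCore p X).to_le hUQ)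
  let A := Abelianization ↥M ⧸ (T₀.subgroupOf M).map Abelianization.of
  let φ : ↥M →* A := (QuotientGroup.mk' _).comp Abelianization.of
  have hUM : U ≤ M := hUQ.trans ((pCore_le_isSylowIn hS).trans hSM)
  have hVM : V ≤ M := hVlt.le.trans hUM
  have hφ1 : ∀ (x : X) (hx : x ∈ M), x ∈ T₀ → φ ⟨x, hx⟩ = 1 := fun x hx hxT =>
    (QuotientGroup.eq_one_iff _).mpr ⟨⟨x, hx⟩, hxT, rfl⟩
  have hφT : ∀ (x : X) (hx : x ∈ M), x ∈ pCore p X → φ ⟨x, hx⟩ = 1 → x ∈ T₀ := by
    intro x hx hxQ h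
    obtain ⟨t, ht, ht'⟩ := (QuotientGroup.eq_one_iff _).mp h
    have h1 : t⁻¹ * (⟨x, hx⟩ : M) ∈ commutator M := QuotientGroup.eq.mp ht'
    have h2 : (t : X)⁻¹ * x ∈ ⁅M, M⁆ := by
      rw [← map_subtype_commutator M]
      exact ⟨_, h1, rfl⟩
    have h3 := mul_mem (show (t : X) ∈ T₀ from ht)
      (hQM (Subgroup.mem_inf.mpr ⟨mul_mem (inv_mem (hT₀ ht)) hxQ, h2⟩))
    simpa using h3
  have hconjU : ∀ g v : X, v ∈ U → g⁻¹ * v * g ∈ U := fun g v hv => by
    simpa using hUn.conj_mem v hv g⁻¹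
  let ψ : X → U →* A := fun g => φ.comp
    { toFun := fun v => ⟨g⁻¹ * v * g, hUM (hconjU g v v.2)⟩
      map_one' := Subtype.ext (by simp)
      map_mul' := fun a b => Subtype.ext (by simp [mul_assoc]) }
  have hψ : ∀ g (v : U), ψ g v = φ ⟨g⁻¹ * v * g, hUM (hconjU g v v.2)⟩ := fun _ _ => rfl
  have hψm : ∀ g (m : M) (v : U), ψ (g * m) v = ψ g v := by
    intro g m v
    rw [hψ, hψ, show (⟨(g * m)⁻¹ * v * (g * m), hUM (hconjU _ v v.2)⟩ : M) =
      m⁻¹ * ⟨g⁻¹ * v * g, hUM (hconjU g v v.2)⟩ * m from Subtype.ext (by simp [mul_assoc]),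
      map_mul, map_mul, map_inv, inv_mul_cancel_comm]
  let F : X ⧸ M → (U → A) := fun q v => ψ q.out v
  have hF : ∀ (g : X) (v : U), F (g : X ⧸ M) v = ψ g v := by
    intro g v
    obtain ⟨m, hm⟩ := QuotientGroup.mk_out_eq_mul M g
    show ψ _ v = _
    rw [hm, hψm]
  let : Fintype (X ⧸ M) := Fintype.ofFinite _
  have htot : ∏ q, F q = 1 := by
    funext v
    have hfix : ∀ q : X ⧸ M, (v : X) • q = q := fun q => by
      induction q using QuotientGroup.induction_on with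
      | H g =>
        refine (QuotientGroup.eq.mpr ?_)
        have := M.inv_mem (hUM (hconjU g v v.2))
        simpa [mul_assoc] using this
    let T : M.LeftTransversal := default
    have h1 : MonoidHom.transfer φ (v : X) = 1 :=
      Abelianization.commutator_subset_ker _ (hUle v.2).2
    have h2 : MonoidHom.transfer φ (v : X) = ∏ q, F q v := by
      rw [MonoidHom.transfer_def φ T]
      refine Finset.prod_bij (fun q _ => q) (fun _ _ => Finset.mem_univ _) (fun _ _ _ _ h => h)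
        (fun q _ => ⟨q, Finset.mem_univ _, rfl⟩) fun q _ => ?_
      set a : X := ((T.2.leftQuotientEquiv q : X)) with ha
      have haq : (a : X ⧸ M) = q := (T.2.quotientGroupMk_leftQuotientEquiv q)
      conv_rhs => rw [← haq, hF, hψ]
      refine congrArg φ (Subtype.ext ?_)
      simp only
      rw [smul_apply_eq_smul_apply_inv_smul, inv_smul_eq_iff.mpr (hfix q).symm, ← ha, smul_eq_mul,
        mul_assoc]
    rw [Finset.prod_apply, ← h2, h1, Pi.one_apply]
  let f : X → A := fun v => if hv : v ∈ M then φ ⟨v, hv⟩ else 1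
  have hf : ∀ v (hv : v ∈ M), f v = φ ⟨v, hv⟩ := fun v hv => dif_pos hv
  refine ⟨{
    U := U
    V := V
    A := A
    φ := f
    Un := hUn
    Vn := hVn
    le := hUQ
    lt := hVlt
    max := hchief.2.2.2
    map_mul := fun v hv w hw => by
      rw [hf v (hUM hv), hf w (hUM hw), hf _ (hUM (mul_mem hv hw)), ← map_mul]; rfl
    kill := fun v hv => (hf v (hVM hv)).trans (hφ1 v (hVM hv) (hVT hv))
    exp := fun v hv => by
      rw [hf v (hUM hv), ← map_pow]
      exact hφ1 _ (M.pow_mem (hUM hv) p) (hVT (hexp v hv))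
    conj := fun m hm v hv => by
      rw [hf _ (hUM (hconjU m v hv)), hf v (hUM hv)]
      show φ (⟨m, hm⟩⁻¹ * ⟨v, hUM hv⟩ * ⟨m, hm⟩) = _
      rw [map_mul, map_mul, map_inv, inv_mul_cancel_comm]
    ne := by
      obtain ⟨v, hv, hvT⟩ := SetLike.not_le_iff_exists.mp hUT
      exact ⟨v, hv, fun h1 => hvT (hφT v (hUM hv) (hUQ hv) ((hf v (hUM hv)).symm.trans h1))⟩
    prod := fun v hv i => by
      obtain rfl : i = Fintype.ofFinite (X ⧸ M) := Subsingleton.elim _ _
      have h1 := congrFun htot ⟨v, hv⟩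
      rw [Finset.prod_apply] at h1
      refine Eq.trans (Finset.prod_congr rfl fun q _ => ?_) h1
      exact hf _ (hUM (hconjU q.out v hv)) }⟩

end CfsgLib.Yoshida49
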