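import Cfsg.Agent.Yoshida49.Node

/-!
# Words of nodes

`lev p B i` consists of the images of the modules of the nodes over `B` under words of length `i` in
conjugation by nodes.
-/

set_option linter.style.haveILetI false
set_option linter.unusedSectionVars false

namespace CfsgLib.Yoshida49

open Subgroup Cfsg CfsgLib CfsgLib.LocalEven50
open scoped commutatorElement

universe u

variable {p : ℕ} [Fact p.Prime] {B : Type u} [Group B]

/-- Images of the modules under words of length `i`. -/
def lev (p : ℕ) [Fact p.Prime] (B : Type u) [Group B] : ℕ → Set (Subgroup B)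
  | 0 => {X | ∃ n : Node p B, X = n.V}
  | i + 1 => {Y | ∃ n : Node p B, ∃ g : n.G, ∃ X ∈ lev p B i, Y = n.act g X}

/-- The levels below `k` lie below every `O_p`. -/
def Small (p : ℕ) [Fact p.Prime] (B : Type u) [Group B] (k : ℕ) : Prop :=
  ∀ i < k, ∀ X ∈ lev p B i, ∀ n : Node p B, X ≤ n.R

theorem mem_lev_zero (n : Node p B) : n.V ∈ lev p B 0 := ⟨n, rfl⟩

theorem act_mem_lev (n : Node p B) (g : n.G) {i : ℕ} {X : Subgroup B} (hX : X ∈ lev p B i) :
    n.act g X ∈ lev p B (i + 1) := ⟨n, g, X, hX, rfl⟩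

/-- The levels are invariant under conjugation in `B`. -/
theorem conj_mem_lev {k i : ℕ} (hsm : Small p B k) (hi : i ≤ k) {X : Subgroup B}
    (hX : X ∈ lev p B i) (s : B) : X.map (MulAut.conj s).toMonoidHom ∈ lev p B i := by
  cases i with
  | zero =>
    obtain ⟨n, rfl⟩ := hX
    refine ⟨n, ?_⟩
    rw [← n.act_range, n.act_V]
  | succ i =>
    obtain ⟨n, g, Y, hY, rfl⟩ := hX
    exact ⟨n, n.τ s * g, Y, hY, by rw [← n.act_range, n.act_mul (hsm i (by omega) Y hY n)]⟩

/-- Apply a word, the head last. -/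
def pushW : List (Σ n : Node p B, n.G) → Subgroup B → Subgroup B
  | [], X => X
  | c :: w, X => c.1.act c.2 (pushW w X)

/-- Undo a word. -/
def pullW : List (Σ n : Node p B, n.G) → Subgroup B → Subgroup B
  | [], X => X
  | c :: w, X => pullW w (c.1.act c.2⁻¹ X)

/-- Every step stays below the acting `O_p`. -/
def GoodW : List (Σ n : Node p B, n.G) → Subgroup B → Prop
  | [], _ => True
  | c :: w, X => pushW w X ≤ c.1.R ∧ GoodW w X

theorem pushW_append (u w : List (Σ n : Node p B, n.G)) (X : Subgroup B) :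
    pushW (u ++ w) X = pushW u (pushW w X) := by
  induction u with
  | nil => rfl
  | cons c u ih => simp only [List.cons_append, pushW, ih]

theorem pullW_append (u w : List (Σ n : Node p B, n.G)) (X : Subgroup B) :
    pullW (u ++ w) X = pullW w (pullW u X) := by
  induction u generalizing X with
  | nil => rfl
  | cons c u ih => simp only [List.cons_append, pullW, ih]

theorem goodW_append {u w : List (Σ n : Node p B, n.G)} {X : Subgroup B} :
    GoodW (u ++ w) X ↔ GoodW u (pushW w X) ∧ GoodW w X := by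
  induction u with
  | nil => simp [GoodW]
  | cons c u ih => simp only [List.cons_append, GoodW, pushW_append, ih, and_assoc]

theorem pushW_mono (w : List (Σ n : Node p B, n.G)) {X Y : Subgroup B} (h : X ≤ Y) :
    pushW w X ≤ pushW w Y := by
  induction w with
  | nil => exact h
  | cons c w ih => exact c.1.act_mono ih

theorem pushW_comm (w : List (Σ n : Node p B, n.G)) {X Y : Subgroup B} (h : ⁅X, Y⁆ = ⊥) :
    ⁅pushW w X, pushW w Y⁆ = ⊥ := by
  induction w with
  | nil => exact h
  | cons c w ih => exact c.1.act_comm ih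

theorem pullW_comm (w : List (Σ n : Node p B, n.G)) {X Y : Subgroup B} (h : ⁅X, Y⁆ = ⊥) :
    ⁅pullW w X, pullW w Y⁆ = ⊥ := by
  induction w generalizing X Y with
  | nil => exact h
  | cons c w ih => exact ih (c.1.act_comm h)

theorem GoodW.mono {w : List (Σ n : Node p B, n.G)} {X Y : Subgroup B} (h : GoodW w Y)
    (hle : X ≤ Y) : GoodW w X := by
  induction w with
  | nil => trivial
  | cons c w ih => exact ⟨(pushW_mono w hle).trans h.1, ih h.2⟩

theorem card_pushW {w : List (Σ n : Node p B, n.G)} {X : Subgroup B} (h : GoodW w X) :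
    Nat.card (pushW w X) = Nat.card X := by
  induction w with
  | nil => rfl
  | cons c w ih => rw [pushW, c.1.card_act h.1, ih h.2]

theorem pushW_commutator {w : List (Σ n : Node p B, n.G)} {X Y : Subgroup B} (hX : GoodW w X)
    (hY : GoodW w Y) : ⁅pushW w X, pushW w Y⁆ = pushW w ⁅X, Y⁆ := by
  induction w with
  | nil => rfl
  | cons c w ih => rw [pushW, pushW, pushW, ← ih hX.2 hY.2, c.1.act_commutator hX.1 hY.1]

theorem GoodW.commutator {w : List (Σ n : Node p B, n.G)} {X Y : Subgroup B} (hX : GoodW w X)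
    (hY : GoodW w Y) : GoodW w ⁅X, Y⁆ := by
  induction w with
  | nil => trivial
  | cons c w ih =>
    exact ⟨by
      rw [← pushW_commutator hX.2 hY.2]
      exact (commutator_mono hX.1 hY.1).trans (commutator_le_self _), ih hX.2 hY.2⟩

/-- A subgroup of an image is an image. -/
theorem exists_le_pushW {w : List (Σ n : Node p B, n.G)} {A X : Subgroup B} (hA : GoodW w A)
    (hX : X ≤ pushW w A) : ∃ Y ≤ A, pushW w Y = X := by
  induction w generalizing X with
  | nil => exact ⟨X, hX, rfl⟩
  | cons c w ih =>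
    have h0 : c.1.act c.2⁻¹ X ≤ pushW w A :=
      (c.1.act_mono hX).trans (c.1.act_inv_act hA.1).le
    obtain ⟨Y, hY, e⟩ := ih hA.2 h0
    exact ⟨Y, hY, by rw [pushW, e, c.1.act_act_inv (hX.trans (c.1.act_le hA.1))]⟩

variable {k : ℕ}

theorem pushW_mem_lev {w : List (Σ n : Node p B, n.G)} {j : ℕ} {X : Subgroup B}
    (hX : X ∈ lev p B j) : pushW w X ∈ lev p B (j + w.length) := by
  induction w with
  | nil => exact hX
  | cons c w ih => exact act_mem_lev c.1 c.2 ih

theorem pullW_mem_lev {w : List (Σ n : Node p B, n.G)} {j : ℕ} {X : Subgroup B}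
    (hX : X ∈ lev p B j) : pullW w X ∈ lev p B (j + w.length) := by
  induction w generalizing j X with
  | nil => exact hX
  | cons c w ih =>
    rw [pullW, List.length_cons, ← add_assoc, Nat.add_right_comm]
    exact ih (act_mem_lev c.1 _ hX)

theorem goodW (hsm : Small p B k) {w : List (Σ n : Node p B, n.G)} {j : ℕ}
    {X : Subgroup B} (hX : X ∈ lev p B j) (h : j + w.length ≤ k) : GoodW w X := by
  induction w with
  | nil => trivial
  | cons c w ih =>
    rw [List.length_cons] at h
    exact ⟨hsm _ (by omega) _ (pushW_mem_lev hX) _, ih (by omega)⟩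

theorem push_pullW (hsm : Small p B k) {w : List (Σ n : Node p B, n.G)} {j : ℕ}
    {X : Subgroup B} (hX : X ∈ lev p B j) (h : j + w.length ≤ k) :
    pushW w (pullW w X) = X ∧ GoodW w (pullW w X) := by
  induction w generalizing j X with
  | nil => exact ⟨rfl, trivial⟩
  | cons c w ih =>
    rw [List.length_cons] at h
    have h1 : X ≤ c.1.R := hsm j (by omega) _ hX _
    obtain ⟨e, hg⟩ := ih (act_mem_lev c.1 c.2⁻¹ hX) (by omega)
    refine ⟨?_, ?_, hg⟩
    · rw [pullW, pushW, e, c.1.act_act_inv h1]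
    · rw [pullW, e]; exact c.1.act_le h1

theorem pull_pushW (hsm : Small p B k) {w : List (Σ n : Node p B, n.G)} {j : ℕ}
    {X : Subgroup B} (hX : X ∈ lev p B j) (h : j + w.length ≤ k) :
    pullW w (pushW w X) = X := by
  induction w with
  | nil => rfl
  | cons c w ih =>
    rw [List.length_cons] at h
    rw [pushW, pullW, c.1.act_inv_act (hsm _ (by omega) _ (pushW_mem_lev hX) _), ih (by omega)]

theorem exists_word : ∀ {i : ℕ} {X : Subgroup B}, X ∈ lev p B i →
    ∃ w : List (Σ m : Node p B, m.G), ∃ e : Node p B, w.length = i ∧ X = pushW w e.V := by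
  intro i
  induction i with
  | zero => rintro _ ⟨e, rfl⟩; exact ⟨[], e, rfl, rfl⟩
  | succ i ih =>
    rintro _ ⟨m, g, X, hX, rfl⟩
    obtain ⟨w, e, hl, rfl⟩ := ih hX
    exact ⟨⟨m, g⟩ :: w, e, by simp [hl], rfl⟩

/-- A word of length `k` carrying the module of `e` out of the `O_p` of `n`. -/
structure Crit (p : ℕ) [Fact p.Prime] (k : ℕ) (n : Node p B) (w : List (Σ m : Node p B, m.G))
    (e : Node p B) : Prop where
  small : Small p B k
  length : w.length = k
  crit : ¬ pushW w e.V ≤ n.R

theorem exists_crit (h : ¬ ∀ k, Small p B k) :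
    ∃ k n w e, Crit p (B := B) k n w e := by
  classical
  push Not at h
  have hex : ∃ k, ¬ Small p B (k + 1) := by
    obtain ⟨k, hk⟩ := h
    cases k with
    | zero => exact absurd (fun i hi => absurd hi (Nat.not_lt_zero i)) hk
    | succ k => exact ⟨k, hk⟩
  set k := Nat.find hex with hk
  have h1 : ¬ Small p B (k + 1) := Nat.find_spec hex
  have hsm : Small p B k := by
    rcases Nat.eq_zero_or_pos k with h0 | h0
    · rw [h0]; exact fun i hi => absurd hi (Nat.not_lt_zero i)
    · obtain ⟨j, hj⟩ : ∃ j, k = j + 1 := ⟨k - 1, by omega⟩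
      rw [hj]
      exact not_not.mp (Nat.find_min hex (by omega : j < k))
  unfold Small at h1
  push Not at h1
  obtain ⟨i, hi, X, hX, n, hn⟩ := h1
  have hik : i = k := by
    by_contra hne
    exact hn (hsm i (by omega) X hX n)
  obtain ⟨w, e, hl, rfl⟩ := exists_word hX
  exact ⟨k, n, w, e, hsm, hl.trans hik, hn⟩

namespace Crit

variable [Finite B] {n e : Node p B} {w : List (Σ m : Node p B, m.G)}

theorem ne_bot (C : Crit p k n w e) : ⁅n.V, pushW w e.V⁆ ≠ ⊥ := fun h => C.crit (n.le_R_iff.mpr h)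

/-- Both ends have the same `q`; each end covers `B / O_p` of the other. -/
theorem q_eq (C : Crit p k n w e) :
    pullW w n.V ⊔ e.R = ⊤ ∧ pushW w e.V ⊔ n.R = ⊤ := by
  have hsm := C.small
  obtain ⟨ep, hgP⟩ := push_pullW hsm (mem_lev_zero n) (by rw [C.length]; omega : 0 + w.length ≤ k)
  have hgV := goodW hsm (mem_lev_zero e) (by rw [C.length]; omega : 0 + w.length ≤ k)
  set P := pullW w n.V
  set X := pushW w e.V
  have hPe : ¬ P ≤ e.R := fun h => C.ne_bot (by
    rw [← ep]
    exact pushW_comm w (by rw [commutator_comm]; exact e.le_R_iff.mp h))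
  have hPc : Nat.card P = n.q * Nat.card (zB p B) := by rw [← card_pushW hgP, ep, n.card_V]
  have hXc : Nat.card X = e.q * Nat.card (zB p B) := by rw [card_pushW hgV, e.card_V]
  have h1 : Nat.card ↥(P ⊓ e.R) ≤ Nat.card (zB p B) := by
    rw [← card_pushW (hgP.mono inf_le_left)]
    refine card_le_of_le (n.fix' ((pushW_mono w inf_le_left).trans ep.le) C.crit (pushW_comm w ?_))
    rw [commutator_comm]
    exact le_bot_iff.mp ((commutator_mono le_rfl inf_le_right).trans e.commutator_V_R.le)
  have h2 : Nat.card ↥(X ⊓ n.R) ≤ Nat.card (zB p B) := by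
    obtain ⟨Y, hY, eY⟩ := exists_le_pushW (X := X ⊓ n.R) hgV inf_le_left
    rw [← eY, card_pushW (hgV.mono hY)]
    refine card_le_of_le (e.fix' hY hPe ?_)
    rw [commutator_comm]
    have h3 : ⁅n.V, pushW w Y⁆ = ⊥ := by rw [eY]; exact n.le_R_iff.mp inf_le_right
    rw [← ep, pushW_commutator hgP (hgV.mono hY)] at h3
    have h4 := card_pushW (hgP.commutator (hgV.mono hY))
    rw [h3, card_bot, eq_comm] at h4
    exact eq_bot_of_card_eq _ h4
  have bound : ∀ (a b : Node p B) (A : Subgroup B), Nat.card A = a.q * Nat.card (zB p B) →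
      Nat.card ↥(A ⊓ b.R) ≤ Nat.card (zB p B) →
      a.q * Nat.card b.R ≤ Nat.card ↥(A ⊔ b.R) ∧ a.q ≤ b.q := by
    intro a b A hA hi
    have h3 := card_sup_mul_card_inf_of_coe A b.R (mul_normal A b.R)
    have h5 : a.q * Nat.card b.R ≤ Nat.card ↥(A ⊔ b.R) := by
      refine Nat.le_of_mul_le_mul_right ?_ (Nat.card_pos (α := ↥(zB p B)))
      calc a.q * Nat.card b.R * Nat.card (zB p B) = Nat.card A * Nat.card b.R := by rw [hA]; ring
        _ = _ := h3.symm
        _ ≤ _ := Nat.mul_le_mul_left _ hi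
    refine ⟨h5, Nat.le_of_mul_le_mul_right ?_ (Nat.card_pos (α := ↥b.R))⟩
    rw [mul_comm b.q, b.card_R]
    exact h5.trans (card_le_card_group (A ⊔ b.R))
  obtain ⟨h5, h6⟩ := bound n e P hPc h1
  obtain ⟨h7, h8⟩ := bound e n X hXc h2
  have hq := le_antisymm h6 h8
  refine ⟨eq_of_le_of_card_ge le_top ?_, eq_of_le_of_card_ge le_top ?_⟩
  · rw [card_top, ← e.card_R, mul_comm, ← hq]; exact h5
  · rw [card_top, ← n.card_R, mul_comm, hq]; exact h7

end Crit

end CfsgLib.Yoshida49
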